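/-
Project TD: field lemmas for the automorphisms of a Sylow subgroup of `³D₄(q)`.
-/
import Cfsg.Agent.Even.Amb2

set_option autoImplicit false

namespace CL.TD.AUa

open Subgroup Cfsg CL.Even CL.Grp

section Fld

variable {K : Type*} [Field K]

theorem vand {u v w a b c : K} (h1 : u ≠ v) (h2 : u ≠ w) (h3 : v ≠ w) (e0 : a + b + c = 0)
    (e1 : a * u + b * v + c * w = 0) (e2 : a * u ^ 2 + b * v ^ 2 + c * w ^ 2 = 0) : a = 0 ∧ b = 0 ∧ c = 0 := by
  have k : ∀ {x s t : K}, s ≠ 0 → t ≠ 0 → x * s * t = 0 → x = 0 := fun hs ht e =>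
    (mul_eq_zero.1 ((mul_eq_zero.1 e).resolve_right ht)).resolve_right hs
  exact ⟨k (sub_ne_zero.2 h1) (sub_ne_zero.2 h2) (by linear_combination e2 - (v + w) * e1 + v * w * e0),
    k (sub_ne_zero.2 h1.symm) (sub_ne_zero.2 h3) (by linear_combination e2 - (u + w) * e1 + u * w * e0),
    k (sub_ne_zero.2 h2.symm) (sub_ne_zero.2 h3.symm) (by linear_combination e2 - (u + v) * e1 + u * v * e0)⟩

theorem isotopy [Finite K] (α β : K → K) (γ : K →+ K) (hγ : Function.Injective γ) (h : ∀ x y, γ (x * y) = α x * β y) :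
    α 1 ≠ 0 ∧ β 1 ≠ 0 ∧ ∃ τ : K ≃+* K, (∀ x, α x = α 1 * τ x) ∧ ∀ x, β x = β 1 * τ x := by
  have h1 : α 1 * β 1 ≠ 0 := by rw [← h, mul_one]; exact fun k => one_ne_zero (hγ (k.trans γ.map_zero.symm))
  obtain ⟨a, b⟩ := mul_ne_zero_iff.1 h1
  have ha : ∀ x, α x = γ x / β 1 := fun x => by rw [eq_div_iff b, ← h, mul_one]
  have hb : ∀ x, β x = γ x / α 1 := fun x => by rw [eq_div_iff a, mul_comm, ← h, one_mul]
  let φ : K →+* K :=
    { toFun := fun x => γ x / (α 1 * β 1), map_one' := by rw [div_eq_one_iff_eq h1, ← h, mul_one]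
      map_mul' := fun x y => by rw [h, ha x, hb y]; field_simp
      map_zero' := by rw [map_zero, zero_div], map_add' := fun x y => by rw [map_add, add_div] }
  refine ⟨a, b, RingEquiv.ofBijective φ (Finite.injective_iff_bijective.1 φ.injective), fun x => ?_, fun x => ?_⟩
  · show α x = α 1 * (γ x / (α 1 * β 1)); rw [ha x]; field_simp
  · show β x = β 1 * (γ x / (α 1 * β 1)); rw [hb x]; field_simp

/-- a homomorphism of a finite subfield into itself extends -/
theorem extend (p : ℕ) [Fact p.Prime] [CharP K p] [Finite K] (F : Subfield K) (β : F →+* F) :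
    ∃ γ : K ≃+* K, ∀ b : F, γ b = β b := by
  let _ := ZMod.algebra F p
  obtain ⟨i, hi⟩ := FiniteField.exists_forall_apply_eq_pow (ZMod p) p F (AlgEquiv.ofRingEquiv
    (f := RingEquiv.ofBijective β (Finite.injective_iff_bijective.1 β.injective)) fun x =>
      DFunLike.congr_fun (Subsingleton.elim (β.comp (algebraMap (ZMod p) F)) (algebraMap (ZMod p) F)) x)
  refine ⟨iterateFrobeniusEquiv K p i, fun b => ?_⟩
  have := congrArg Subtype.val (hi b)
  rw [Nat.card_zmod] at this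
  exact this.symm

variable {σ : K ≃+* K} (s3 : ∀ x, σ (σ (σ x)) = x) {t : K} (ht : σ t ≠ t)
include s3 ht

theorem ne3 : t ≠ σ t ∧ t ≠ σ (σ t) ∧ σ t ≠ σ (σ t) :=
  ⟨ht.symm, fun k => ht ((congrArg σ k).trans (s3 t)), fun k => ht (σ.injective k).symm⟩

theorem ind1 {a b c : K} (h : ∀ x, a * x + b * σ x + c * σ (σ x) = 0) : a = 0 ∧ b = 0 ∧ c = 0 :=
  vand (ne3 s3 ht).1 (ne3 s3 ht).2.1 (ne3 s3 ht).2.2 (by simpa using h 1) (h t) (by have := h (t ^ 2); simpa only [_root_.map_pow] using this)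

theorem ind2 {a b c : K} (h : ∀ x, a * x ^ 2 + b * σ x ^ 2 + c * σ (σ x) ^ 2 = 0) : a = 0 ∧ b = 0 ∧ c = 0 := by
  have k : σ t ^ 2 ≠ t ^ 2 := fun e => by
    rcases sq_eq_sq_iff_eq_or_eq_neg.1 e with e | e
    · exact ht e
    · have := s3 t
      rw [e, map_neg, e, neg_neg, e] at this
      exact ht (e.trans this)
  have n := ne3 s3 (t := t ^ 2) (by rwa [map_pow])
  simp only [map_pow] at n
  exact vand n.1 n.2.1 n.2.2 (by simpa using h 1) (h t) (by have := h (t ^ 2); simpa only [_root_.map_pow] using this)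

theorem quad {a b c r0 r1 r2 : K} (h : ∀ x, a * x ^ 2 + b * σ x ^ 2 + c * σ (σ x) ^ 2 + r0 * (σ x * σ (σ x)) +
    r1 * (σ (σ x) * x) + r2 * (x * σ x) = 0) : a = 0 ∧ b = 0 ∧ c = 0 := by
  have k : ∀ y, 2 * a * y + r2 * σ y + r1 * σ (σ y) = 0 ∧ r2 * y + 2 * b * σ y + r0 * σ (σ y) = 0 ∧
      r1 * y + r0 * σ y + 2 * c * σ (σ y) = 0 := fun y => ind1 s3 ht fun x => by
    have := h (x + y)
    simp only [map_add] at this
    linear_combination this - h x - h y
  obtain ⟨-, e2, e1⟩ := ind1 s3 ht fun y => (k y).1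
  obtain ⟨-, -, e0⟩ := ind1 s3 ht fun y => (k y).2.1
  exact ind2 s3 ht fun x => by simpa [e0, e1, e2] using h x

/-- an additive map that is linear over the fixed field -/
theorem flin (φ : K → K) (add : ∀ x y, φ (x + y) = φ x + φ y) (lin : ∀ l x, σ l = l → φ (l * x) = l * φ x) :
    ∃ a b c : K, ∀ x, φ x = a * x + b * σ x + c * σ (σ x) := by
  obtain ⟨n1, n2, n3⟩ := ne3 s3 ht
  have m1 := sub_ne_zero.2 n1
  have m2 := sub_ne_zero.2 n2
  have m3 := sub_ne_zero.2 n3
  have m1' := sub_ne_zero.2 n1.symm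
  have m2' := sub_ne_zero.2 n2.symm
  have m3' := sub_ne_zero.2 n3.symm
  have fx : ∀ y, σ (y + σ y + σ (σ y)) = y + σ y + σ (σ y) := fun y => by rw [map_add, map_add, s3]; ring
  obtain ⟨e0, e1, e2, e⟩ : ∃ e0 e1 e2 : K, ∀ x, x = (x * e0 + σ (x * e0) + σ (σ (x * e0))) * 1 +
      (x * e1 + σ (x * e1) + σ (σ (x * e1))) * t + (x * e2 + σ (x * e2) + σ (σ (x * e2))) * t ^ 2 :=
    ⟨σ t * σ (σ t) / ((t - σ t) * (t - σ (σ t))), -(σ t + σ (σ t)) / ((t - σ t) * (t - σ (σ t))),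
      1 / ((t - σ t) * (t - σ (σ t))), fun x => by
        simp only [map_mul, map_div₀, map_neg, map_add, map_sub, map_one, s3]
        field_simp
        ring⟩
  refine ⟨e0 * φ 1 + e1 * φ t + e2 * φ (t ^ 2), σ e0 * φ 1 + σ e1 * φ t + σ e2 * φ (t ^ 2),
    σ (σ e0) * φ 1 + σ (σ e1) * φ t + σ (σ e2) * φ (t ^ 2), fun x => ?_⟩
  rw [congrArg φ (e x), add, add, lin _ _ (fx _), lin _ _ (fx _), lin _ _ (fx _)]
  simp only [map_mul]
  ring

/-- a linear autotopism of the adjoint map is monomial -/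
theorem mono {A D : K → K} (a1 : ∀ x y, A (x + y) = A x + A y) (a2 : ∀ l x, σ l = l → A (l * x) = l * A x)
    (d1 : ∀ x y, D (x + y) = D x + D y) (d2 : ∀ l x, σ l = l → D (l * x) = l * D x) {m : K} (hm : m ≠ 0)
    (h : ∀ x, D (σ x * σ (σ x)) = m * (σ (A x) * σ (σ (A x)))) : ∃ (l : K) (τ : K ≃+* K), (∀ b, σ b = b → τ b = b) ∧
      ∀ x, A x = l * τ x := by
  obtain ⟨a, b, c, e⟩ := flin s3 ht A a1 a2
  obtain ⟨a', b', c', e'⟩ := flin s3 ht D d1 d2
  obtain ⟨k1, k2, k3⟩ := quad s3 ht (a := m * (σ c * σ (σ b))) (b := m * (σ a * σ (σ c))) (c := m * (σ b * σ (σ a)))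
    (r0 := m * (σ a * σ (σ a) + σ b * σ (σ c)) - a') (r1 := m * (σ b * σ (σ b) + σ c * σ (σ a)) - b')
    (r2 := m * (σ c * σ (σ c) + σ a * σ (σ b)) - c') fun x => by
      have := h x
      simp only [e, e', map_mul, map_add, s3] at this
      linear_combination -this
  simp only [mul_eq_zero, hm, false_or, map_eq_zero] at k1 k2 k3
  by_cases ha : a = 0
  · rcases k1 with k | k
    · exact ⟨b, σ, fun _ k => k, fun x => by simp [e, ha, k]⟩
    · exact ⟨c, σ.trans σ, fun b k => show σ (σ b) = b by rw [k, k], fun x => by simp [e, ha, k]⟩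
  · exact ⟨a, RingEquiv.refl K, fun _ _ => rfl, fun x => by
      simp [e, k2.resolve_left ha, k3.resolve_right ha]⟩

end Fld

section Eight

variable {K : Type*} [Field K] [Finite K] (h8 : Nat.card K = 8)
include h8

theorem card_dvd [CharP K 2] (X : Subgroup (Equiv.Perm K)) (add : ∀ f ∈ X, ∀ x y, f (x + y) = f x + f y) :
    Nat.card X ∣ 168 := by
  let _ := ZMod.algebra K 2
  have r : Module.finrank (ZMod 2) K = 3 := by
    have := Module.natCard_eq_pow_finrank (K := ZMod 2) (V := K)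
    rw [h8, Nat.card_zmod] at this
    exact Nat.pow_right_injective le_rfl this.symm
  let ψ : X →* Module.End (ZMod 2) K :=
    { toFun := fun f => (AddMonoidHom.mk' f.1 (add f.1 f.2)).toZModLinearMap 2
      map_one' := rfl
      map_mul' := fun _ _ => rfl }
  have := card_dvd_of_injective ψ.toHomUnits fun f g e => Subtype.ext (Equiv.ext fun x =>
    DFunLike.congr_fun (congrArg Units.val e) x)
  rwa [← Nat.card_congr (Matrix.GeneralLinearGroup.toLin' (Module.finBasisOfFinrankEq (ZMod 2) K r)).toEquiv,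
    Matrix.card_GL_field, show ∏ i : Fin 3, (Fintype.card (ZMod 2) ^ 3 - Fintype.card (ZMod 2) ^ (i : ℕ)) = 168 by
      simp [Fin.prod_univ_succ]] at this

/-- a subgroup of odd order of `GL₃(2)` is conjugate into `ΓL₁(8)` -/
theorem eight [CharP K 2] {σ : K ≃+* K} (s3 : ∀ x, σ (σ (σ x)) = x) {t : K} (ht : σ t ≠ t)
    {X H : Subgroup (Equiv.Perm K)} (add : ∀ f ∈ X, ∀ x y, f (x + y) = f x + f y)
    (hl : ∀ l : Kˣ, MulAction.toPerm l ∈ X) (hσ : σ.toEquiv ∈ X) (hH : H ≤ X) (ho : ¬ 2 ∣ Nat.card H) :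
    ∃ g ∈ X, ∀ h ∈ H, ∃ (l : K) (τ : K ≃+* K), ∀ x, (g * h * g⁻¹) x = l * τ x := by
  have c := card_dvd h8 X add
  have c21 : Nat.card H ∣ 21 := Nat.Coprime.dvd_of_dvd_mul_left (m := 2 ^ 3)
    ((Nat.coprime_two_right.2 (Nat.odd_iff.2 (Nat.two_dvd_ne_zero.1 ho))).pow_right 3) ((card_dvd_of_le hH).trans c)
  have syl : ∀ (p : ℕ) [Fact p.Prime] (Y : Subgroup (Equiv.Perm K)), ¬ p * p ∣ 168 → Y ≤ X → Nat.card Y = p →
      IsSylowIn p Y X := fun p _ Y hp hY e => ⟨hY, IsPGroup.of_card (n := 1) (by rw [e, pow_one]), fun k => hp (by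
    rw [← card_mul_relIndex hY, e] at c
    exact (Nat.mul_dvd_mul_left p k).trans c)⟩
  by_cases h7 : 7 ∣ Nat.card H
  · have : Fact (Nat.Prime 7) := ⟨by norm_num⟩
    obtain ⟨P⟩ : Nonempty (Sylow 7 H) := inferInstance
    have i3 : (P : Subgroup H).index ∣ 3 := Nat.Coprime.dvd_of_dvd_mul_left (m := 7)
      ((Nat.Prime.coprime_iff_not_dvd Fact.out).2 P.not_dvd_index).symm ((index_dvd_card _).trans c21)
    have n1 := card_sylow_modEq_one 7 H
    have : Subsingleton (Sylow 7 H) := by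
      rcases (Nat.dvd_prime Nat.prime_three).1 (P.card_dvd_index.trans i3) with k | k
      · exact (Nat.card_eq_one_iff_unique.1 k).1
      · rw [k] at n1; exact absurd n1 (by decide)
    have nP := P.normal_of_subsingleton
    have inj : Function.Injective (MulAction.toPermHom Kˣ K) := MulAction.toPerm_injective
    have c7 : Nat.card (MulAction.toPermHom Kˣ K).range = 7 := by
      rw [← Nat.card_congr (MonoidHom.ofInjective inj).toEquiv, Nat.card_units, h8]
    have sC := syl 7 (MulAction.toPermHom Kˣ K).range (by norm_num) (by rintro _ ⟨l, rfl⟩; exact hl l) c7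
    have sP := isSylowIn_map_subtype P
    obtain ⟨g, hg, k⟩ := syl_conj_le sC sP.isPGroup (sP.le.trans hH)
    have e : cj g ((P : Subgroup H).map H.subtype) = (MulAction.toPermHom Kˣ K).range :=
      eq_of_le_of_card_ge k (by
        rw [← card_mul_relIndex sP.le] at h7
        rw [card_cj, c7]
        exact Nat.le_of_dvd Nat.card_pos (((Nat.Prime.dvd_mul Fact.out).1 h7).resolve_right sP.not_dvd))
    refine ⟨g, hg, fun h hh => ?_⟩
    have n : g * h * g⁻¹ ∈ 𝒩((MulAction.toPermHom Kˣ K).range) := by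
      rw [← e, ← cj_norm]
      exact conj_mem_cj g (le_normalizer_map _ ⟨⟨h, hh⟩, le_normalizer_of_normal (mem_top _), rfl⟩)
    have a := add _ (mul_mem (mul_mem hg (hH hh)) (inv_mem hg))
    generalize g * h * g⁻¹ = φ at n a
    let γ : K →+ K := AddMonoidHom.mk' φ a
    have γ1 : φ 1 ≠ 0 := fun k => one_ne_zero (φ.injective (k.trans γ.map_zero.symm))
    obtain ⟨-, -, τ, -, e2⟩ := isotopy (fun x => φ x / φ 1) φ γ φ.injective fun x y => by
      show φ (x * y) = _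
      by_cases hx : x = 0
      · rw [hx, zero_mul, show φ 0 = 0 from γ.map_zero, zero_div, zero_mul]
      obtain ⟨l, hl⟩ := conj_mem n (⟨Units.mk0 x hx, rfl⟩ : _ ∈ (MulAction.toPermHom Kˣ K).range)
      have k : ∀ y, l * φ y = φ (x * y) := fun y => by simpa [Units.smul_def] using DFunLike.congr_fun hl (φ y)
      rw [← k, ← mul_one x, ← k, mul_div_cancel_right₀ _ γ1]
    exact ⟨_, τ, e2⟩
  · have : Fact (Nat.Prime 3) := ⟨Nat.prime_three⟩
    have c3 : Nat.card H ∣ 3 ^ 1 := Nat.Coprime.dvd_of_dvd_mul_left (m := 7)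
      ((Nat.Prime.coprime_iff_not_dvd (by norm_num)).2 h7).symm c21
    obtain ⟨n, -, e⟩ := (Nat.dvd_prime_pow Nat.prime_three).1 c3
    have sC := syl 3 (zpowers (σ.toEquiv : Equiv.Perm K)) (by norm_num) (zpowers_le.2 hσ) (by
      rw [Nat.card_zpowers]
      exact orderOf_eq_prime (Equiv.ext s3) fun k => ht (DFunLike.congr_fun k t))
    obtain ⟨g, hg, k⟩ := syl_conj_le sC (IsPGroup.of_card e) hH
    refine ⟨g, hg, fun h hh => ?_⟩
    obtain ⟨τ, e⟩ := (zpowers_le (H := (RingAut.toPerm K).range)).2 ⟨σ, rfl⟩ (k (conj_mem_cj g hh))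
    exact ⟨1, τ, fun x => by rw [← e, one_mul]; rfl⟩

end Eight

end CL.TD.AUa
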