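/-
Project TD: the model `U K` of a Sylow `p`-subgroup of `³D₄(q)`, its subgroups and standard automorphisms.
-/
import Cfsg.Agent.U5.Gen

set_option autoImplicit false
set_option linter.unusedSectionVars false
set_option linter.unusedSimpArgs false

namespace CL.TD

open Cfsg CL.Fus CL.U5
open scoped commutatorElement

universe u

/-- a field with `q ^ 3` elements and the automorphism `x ↦ x ^ q` -/
class TF (K : Type u) [Field K] where
  q : ℕ
  s : K ≃+* K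
  fin : Finite K
  card : Nat.card K = q ^ 3
  two_le : 2 ≤ q
  pw : ∀ x, s x = x ^ q
  s3 : ∀ x, s (s (s x)) = x

section Fld
variable {K : Type u} [Field K] [TF K]

instance : Finite K := TF.fin

/-- the automorphism of order three -/
def sg (x : K) : K := TF.s x

theorem sg_eq_pow (x : K) : sg x = x ^ TF.q K := TF.pw x
theorem card_K : Nat.card K = TF.q K ^ 3 := TF.card
theorem two_le_q : 2 ≤ TF.q K := TF.two_le
@[simp] theorem sg3 (x : K) : sg (sg (sg x)) = x := TF.s3 x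
@[simp] theorem sg_add (x y : K) : sg (x + y) = sg x + sg y := map_add TF.s x y
@[simp] theorem sg_sub (x y : K) : sg (x - y) = sg x - sg y := map_sub TF.s x y
@[simp] theorem sg_mul (x y : K) : sg (x * y) = sg x * sg y := map_mul TF.s x y
@[simp] theorem sg_neg (x : K) : sg (-x) = -sg x := map_neg TF.s x
@[simp] theorem sg_inv (x : K) : sg x⁻¹ = (sg x)⁻¹ := map_inv₀ TF.s x
@[simp] theorem sg_div (x y : K) : sg (x / y) = sg x / sg y := map_div₀ TF.s x y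
@[simp] theorem sg_pow (x : K) (n : ℕ) : sg (x ^ n) = sg x ^ n := map_pow TF.s x n
@[simp] theorem sg_zero : sg (0 : K) = 0 := map_zero TF.s
@[simp] theorem sg_one : sg (1 : K) = 1 := map_one TF.s
@[simp] theorem sg_two : sg (2 : K) = 2 := map_ofNat TF.s 2
@[simp] theorem sg_three : sg (3 : K) = 3 := map_ofNat TF.s 3
@[simp] theorem sg_natCast (n : ℕ) : sg (n : K) = n := map_natCast TF.s n
@[simp] theorem sg_eq_zero {x : K} : sg x = 0 ↔ x = 0 := map_eq_zero TF.s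
theorem sg_inj {x y : K} (h : sg x = sg y) : x = y := TF.s.injective h
@[simp] theorem map_sg (γ : K ≃+* K) (x : K) : γ (sg x) = sg (γ x) := by rw [sg_eq_pow, sg_eq_pow, map_pow]

/-- trace, adjoint, norm and cross product -/
def Tr (x : K) : K := x + sg x + sg (sg x)
def sh (x : K) : K := sg x * sg (sg x)
def Nr (x : K) : K := x * sg x * sg (sg x)
def cr (x y : K) : K := sg x * sg (sg y) + sg (sg x) * sg y

@[simp] theorem sg_Tr (x : K) : sg (Tr x) = Tr x := by simp only [Tr, sg_add, sg3]; ring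
@[simp] theorem sg_Nr (x : K) : sg (Nr x) = Nr x := by simp only [Nr, sg_mul, sg3]; ring
@[simp] theorem Tr_zero : Tr (0 : K) = 0 := by simp [Tr]
@[simp] theorem sh_zero : sh (0 : K) = 0 := by simp [sh]
@[simp] theorem Nr_zero : Nr (0 : K) = 0 := by simp [Nr]
@[simp] theorem cr_zero_l (x : K) : cr 0 x = 0 := by simp [cr]
@[simp] theorem cr_zero_r (x : K) : cr x 0 = 0 := by simp [cr]
@[simp] theorem sh_one : sh (1 : K) = 1 := by simp [sh]
@[simp] theorem Nr_one : Nr (1 : K) = 1 := by simp [Nr]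
@[simp] theorem Tr_neg (x : K) : Tr (-x) = -Tr x := by simp only [Tr, sg_neg]; ring
@[simp] theorem sh_neg (x : K) : sh (-x) = sh x := by simp only [sh, sg_neg]; ring
@[simp] theorem Nr_neg (x : K) : Nr (-x) = -Nr x := by simp only [Nr, sg_neg]; ring
@[simp] theorem sh_eq_zero {x : K} : sh x = 0 ↔ x = 0 := by simp [sh]
@[simp] theorem Nr_eq_zero {x : K} : Nr x = 0 ↔ x = 0 := by simp [Nr]
theorem Tr_add (x y : K) : Tr (x + y) = Tr x + Tr y := by simp only [Tr, sg_add]; ring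
theorem Tr_sub (x y : K) : Tr (x - y) = Tr x - Tr y := by simp only [Tr, sg_sub]; ring
theorem Tr_smul {l : K} (h : sg l = l) (x : K) : Tr (l * x) = l * Tr x := by simp only [Tr, sg_mul, h]; ring
theorem sh_add (x y : K) : sh (x + y) = sh x + cr x y + sh y := by simp only [sh, cr, sg_add]; ring
theorem sh_mul (x y : K) : sh (x * y) = sh x * sh y := by simp only [sh, sg_mul]; ring
theorem Nr_mul (x y : K) : Nr (x * y) = Nr x * Nr y := by simp only [Nr, sg_mul]; ring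
theorem Nr_add (x y : K) : Nr (x + y) = Nr x + Tr (sh x * y) + Tr (x * sh y) + Nr y := by
  simp only [Nr, Tr, sh, sg_add, sg_mul, sg3]; ring
theorem mul_sh (x : K) : x * sh x = Nr x := by simp only [Nr, sh]; ring
theorem sh_sh (x : K) : sh (sh x) = Nr x * x := by simp only [Nr, sh, sg_mul, sg3]; ring
theorem cr_comm (x y : K) : cr x y = cr y x := by simp only [cr]; ring
theorem cr_self (x : K) : cr x x = 2 * sh x := by simp only [cr, sh]; ring
theorem cr_add (x y z : K) : cr x (y + z) = cr x y + cr x z := by simp only [cr, sg_add]; ring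
theorem cr_smul {l : K} (h : sg l = l) (x y : K) : cr x (l * y) = l * cr x y := by simp only [cr, sg_mul, h]; ring
theorem cr_mul (l x y : K) : cr (l * x) (l * y) = sh l * cr x y := by simp only [cr, sh, sg_mul]; ring
theorem Tr_cr (x y z : K) : Tr (x * cr y z) = Tr (cr x y * z) := by simp only [Tr, cr, sg_add, sg_mul, sg3]; ring
theorem Tr_cr_self (x y : K) : Tr (x * cr x y) = 2 * Tr (sh x * y) := by
  simp only [Tr, cr, sh, sg_add, sg_mul, sg3]; ring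
@[simp] theorem map_Tr (γ : K ≃+* K) (x : K) : γ (Tr x) = Tr (γ x) := by simp [Tr]
@[simp] theorem map_sh (γ : K ≃+* K) (x : K) : γ (sh x) = sh (γ x) := by simp [sh]
@[simp] theorem map_Nr (γ : K ≃+* K) (x : K) : γ (Nr x) = Nr (γ x) := by simp [Nr]
@[simp] theorem map_cr (γ : K ≃+* K) (x y : K) : γ (cr x y) = cr (γ x) (γ y) := by simp [cr]

/-- the kernel of the cross product -/
theorem cr_eq_zero {x y : K} (hx : x ≠ 0) (h : cr x y = 0) : ∃ l, sg l = l ∧ 2 * l = 0 ∧ y = l * x := by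
  have h1 : sg x ≠ 0 := by simpa using hx
  have h2 : sg (sg x) ≠ 0 := by simpa using hx
  have e : sg (sg (y / x)) = -sg (y / x) := by
    simp only [sg_div]; field_simp; simp only [cr] at h; linear_combination h
  have e1 : sg (y / x) = -(y / x) := sg_inj (by rw [e, sg_neg])
  have e2 : sg (y / x) = y / x := by
    have := sg3 (y / x)
    rw [e1, sg_neg, e1, neg_neg, e1] at this
    rw [e1, this]
  exact ⟨y / x, e2, by linear_combination e1 - e2, by field_simp⟩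

theorem exists_ne (K : Type u) [Field K] [TF K] : ∃ x : K, sg x ≠ x := by
  by_contra! h
  have := Fintype.ofFinite K
  have q2 := two_le_q (K := K)
  obtain ⟨g, hg⟩ := IsCyclic.exists_ofOrder_eq_natCard (α := Kˣ)
  have e : g ^ (TF.q K - 1) = 1 := by
    have := h g
    rw [sg_eq_pow, show TF.q K = TF.q K - 1 + 1 by omega, pow_succ, mul_eq_right₀ g.ne_zero] at this
    exact Units.ext (by simpa using this)
  have k := Nat.le_of_dvd (by omega) (orderOf_dvd_of_pow_eq_one e)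
  rw [hg, Nat.card_units, card_K] at k
  have : TF.q K * 4 ≤ TF.q K ^ 3 := by rw [pow_succ', pow_two]; exact Nat.mul_le_mul_left _ (Nat.mul_le_mul q2 q2)
  omega

theorem sg2_ne {t : K} (h : sg t ≠ t) : sg (sg t) ≠ t := fun e => h (by have := sg3 t; rwa [e] at this)

/-- independence of the three automorphisms -/
theorem dedekind {r0 r1 r2 : K} (h : ∀ x, r0 * x + r1 * sg x + r2 * sg (sg x) = 0) : r0 = 0 ∧ r1 = 0 ∧ r2 = 0 := by
  obtain ⟨t, ht⟩ := exists_ne K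
  have h1 := sub_ne_zero.2 ht
  have h2 := sub_ne_zero.2 (sg2_ne ht)
  have h3 : sg (sg t) - sg t ≠ 0 := sub_ne_zero.2 fun e => ht (sg_inj e)
  have a := h 1
  have b := h t
  have c := h (t * t)
  simp only [sg_one, sg_mul] at a c
  have e2 : r2 = 0 := (mul_eq_zero.1 (show r2 * ((sg (sg t) - t) * (sg (sg t) - sg t)) = 0 by
    linear_combination c - (t + sg t) * b + t * sg t * a)).resolve_right (mul_ne_zero h2 h3)
  have e1 : r1 = 0 := (mul_eq_zero.1 (show r1 * (sg t - t) = 0 by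
    linear_combination b - t * a - (sg (sg t) - t) * e2)).resolve_right h1
  exact ⟨by linear_combination a - e1 - e2, e1, e2⟩

theorem Tr_nondeg {x : K} (h : ∀ t, Tr (t * x) = 0) : x = 0 :=
  (dedekind (r0 := x) (r1 := sg x) (r2 := sg (sg x)) fun t => by
    have := h t; simp only [Tr, sg_mul] at this; linear_combination this).1

theorem exists_Tr {x s : K} (hx : x ≠ 0) (hs : sg s = s) : ∃ t, Tr (t * x) = s := by
  obtain ⟨t, ht⟩ : ∃ t, Tr (t * x) ≠ 0 := by by_contra! h; exact hx (Tr_nondeg h)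
  exact ⟨s / Tr (t * x) * t, by rw [mul_assoc, Tr_smul (by simp [hs]), div_mul_cancel₀ _ ht]⟩

/-- a plane is not contained in a line -/
theorem exists_perp (m l : K) : ∃ c, Tr (c * m) = 0 ∧ ∀ s, sg s = s → c ≠ s * l := by
  by_contra! h
  obtain ⟨t, ht⟩ := exists_ne K
  by_cases hm : m = 0
  · obtain ⟨s1, f1, e1⟩ := h 1 (by simp [hm])
    obtain ⟨s2, f2, e2⟩ := h t (by simp [hm])
    have : s1 ≠ 0 := by rintro rfl; simp at e1
    refine ht ?_
    rw [show t = s2 / s1 by field_simp; linear_combination s1 * e2 - s2 * e1, sg_div, f1, f2]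
  · have k : ∀ u : K, Tr ((u - sg u) / m * m) = 0 := fun u => by
      rw [div_mul_cancel₀ _ hm]; simp only [Tr, sg_sub, sg3]; ring
    obtain ⟨s1, f1, e1⟩ := h _ (k t)
    obtain ⟨s2, f2, e2⟩ := h _ (k (t * t))
    have h1 : t - sg t ≠ 0 := sub_ne_zero.2 ht.symm
    rw [div_eq_iff hm] at e1 e2
    have : s1 ≠ 0 := by rintro rfl; exact h1 (by simpa using e1)
    have e : t + sg t = s2 / s1 := by
      rw [eq_div_iff this]; rw [sg_mul] at e2
      exact mul_left_cancel₀ h1 (by linear_combination s1 * e2 - s2 * e1)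
    have e' := congrArg sg e
    rw [sg_div, f1, f2, ← e, sg_add] at e'
    exact sg2_ne ht (by linear_combination e')

/-- an additive map that is linear over the fixed field -/
theorem flin (φ : K → K) (add : ∀ x y, φ (x + y) = φ x + φ y) (lin : ∀ l x, sg l = l → φ (l * x) = l * φ x) :
    ∃ r0 r1 r2 : K, ∀ x, φ x = r0 * x + r1 * sg x + r2 * sg (sg x) := by
  obtain ⟨t, ht⟩ := exists_ne K
  have h1 := sub_ne_zero.2 ht
  have h2 := sub_ne_zero.2 (sg2_ne ht)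
  have h3 : sg (sg t) - sg t ≠ 0 := sub_ne_zero.2 fun e => ht (sg_inj e)
  have h1' := sub_ne_zero.2 ht.symm
  have h2' := sub_ne_zero.2 (sg2_ne ht).symm
  have h3' : sg t - sg (sg t) ≠ 0 := sub_ne_zero.2 fun e => ht (sg_inj e.symm)
  set D := (t - sg t) * (t - sg (sg t)) with hD
  have e : ∀ x, x = Tr (x * sh t / D) * 1 + -Tr (x * (sg t + sg (sg t)) / D) * t + Tr (x / D) * (t * t) := fun x => by
    simp only [hD, Tr, sh, sg_div, sg_mul, sg_sub, sg_add, sg3]; field_simp; ring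
  refine ⟨(sh t * φ 1 - (sg t + sg (sg t)) * φ t + φ (t * t)) / D,
    (sg (sh t) * φ 1 - sg (sg t + sg (sg t)) * φ t + φ (t * t)) / sg D,
    (sg (sg (sh t)) * φ 1 - sg (sg (sg t + sg (sg t))) * φ t + φ (t * t)) / sg (sg D), fun x => ?_⟩
  rw [congrArg φ (e x), add, add, lin _ _ (by simp), lin _ _ (by simp), lin _ _ (by simp)]
  simp only [Tr, sg_div, sg_mul]; ring

end Fld

/-! ### the group `U K` -/

@[ext] structure U (K : Type u) [Field K] [TF K] where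
  a : K
  b : K
  c : K
  d : K
  y : K
  z : K
  hb : sg b = b
  hy : sg y = y
  hz : sg z = z

attribute [simp] U.hb U.hy U.hz

section Model
variable {K : Type u} [Field K] [TF K]

instance : Mul (U K) := ⟨fun g h => ⟨g.a + h.a, g.b + h.b, g.c + h.c + h.b * g.a,
  g.d + h.d + cr h.c g.a + h.b * sh g.a, g.y + h.y + Tr (h.d * g.a) + Tr (h.c * sh g.a) + h.b * Nr g.a,
  g.z + h.z - h.b ^ 2 * Nr g.a - Tr (sh h.c * g.a) - h.b * Tr (h.c * sh g.a) + h.b * g.y - Tr ((h.c + h.b * g.a) * g.d),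
  by simp, by simp, by simp⟩⟩
instance : One (U K) := ⟨⟨0, 0, 0, 0, 0, 0, by simp, by simp, by simp⟩⟩
instance : _root_.Inv (U K) := ⟨fun g => ⟨-g.a, -g.b, -g.c + g.b * g.a, -g.d + cr g.c g.a - g.b * sh g.a,
  -g.y + Tr (g.d * g.a) - Tr (g.c * sh g.a) + g.b * Nr g.a,
  -g.z + g.b * g.y - Tr (g.c * g.d) + g.b ^ 2 * Nr g.a + Tr (sh g.c * g.a) - g.b * Tr (g.c * sh g.a),
  by simp, by simp, by simp⟩⟩

@[simp] theorem mul_a (g h : U K) : (g * h).a = g.a + h.a := rfl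
@[simp] theorem mul_b (g h : U K) : (g * h).b = g.b + h.b := rfl
@[simp] theorem mul_c (g h : U K) : (g * h).c = g.c + h.c + h.b * g.a := rfl
@[simp] theorem mul_d (g h : U K) : (g * h).d = g.d + h.d + cr h.c g.a + h.b * sh g.a := rfl
@[simp] theorem mul_y (g h : U K) : (g * h).y = g.y + h.y + Tr (h.d * g.a) + Tr (h.c * sh g.a) + h.b * Nr g.a := rfl
@[simp] theorem mul_z (g h : U K) : (g * h).z = g.z + h.z - h.b ^ 2 * Nr g.a - Tr (sh h.c * g.a) -
    h.b * Tr (h.c * sh g.a) + h.b * g.y - Tr ((h.c + h.b * g.a) * g.d) := rfl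
@[simp] theorem one_a : (1 : U K).a = 0 := rfl
@[simp] theorem one_b : (1 : U K).b = 0 := rfl
@[simp] theorem one_c : (1 : U K).c = 0 := rfl
@[simp] theorem one_d : (1 : U K).d = 0 := rfl
@[simp] theorem one_y : (1 : U K).y = 0 := rfl
@[simp] theorem one_z : (1 : U K).z = 0 := rfl
@[simp] theorem inv_a (g : U K) : g⁻¹.a = -g.a := rfl
@[simp] theorem inv_b (g : U K) : g⁻¹.b = -g.b := rfl
@[simp] theorem inv_c (g : U K) : g⁻¹.c = -g.c + g.b * g.a := rfl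
@[simp] theorem inv_d (g : U K) : g⁻¹.d = -g.d + cr g.c g.a - g.b * sh g.a := rfl
@[simp] theorem inv_y (g : U K) : g⁻¹.y = -g.y + Tr (g.d * g.a) - Tr (g.c * sh g.a) + g.b * Nr g.a := rfl
@[simp] theorem inv_z (g : U K) : g⁻¹.z = -g.z + g.b * g.y - Tr (g.c * g.d) + g.b ^ 2 * Nr g.a +
    Tr (sh g.c * g.a) - g.b * Tr (g.c * sh g.a) := rfl

instance : Group (U K) := Group.ofLeftAxioms
  (fun g h k => by ext <;> simp only [mul_a, mul_b, mul_c, mul_d, mul_y, mul_z, Tr, sh, Nr, cr, sg_add, sg_mul, sg3,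
    U.hb, U.hy] <;> ring) (fun g => by ext <;> simp)
  (fun g => by ext <;> simp only [mul_a, mul_b, mul_c, mul_d, mul_y, mul_z, inv_a, inv_b, inv_c, inv_d, inv_y, inv_z,
    one_a, one_b, one_c, one_d, one_y, one_z, Tr, sh, Nr, cr, sg_add, sg_sub, sg_neg, sg_mul, sg3, U.hb, U.hy] <;> ring)

theorem eq_one_iff {g : U K} : g = 1 ↔ g.a = 0 ∧ g.b = 0 ∧ g.c = 0 ∧ g.d = 0 ∧ g.y = 0 ∧ g.z = 0 := U.ext_iff

@[simp] theorem comm_a (g h : U K) : ⁅g, h⁆.a = 0 := by simp [commutatorElement_def]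
@[simp] theorem comm_b (g h : U K) : ⁅g, h⁆.b = 0 := by simp [commutatorElement_def]
@[simp] theorem comm_c (g h : U K) : ⁅g, h⁆.c = h.b * g.a - g.b * h.a := by simp [commutatorElement_def]; ring
@[simp] theorem comm_d (g h : U K) : ⁅g, h⁆.d = cr h.c g.a - cr g.c h.a + h.b * sh g.a - g.b * sh h.a := by
  simp only [commutatorElement_def, mul_a, mul_b, mul_c, mul_d, inv_a, inv_b, inv_c, inv_d, sh, cr, sg_add, sg_sub, sg_neg,
    sg_mul, sg3, U.hb]
  ring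
@[simp] theorem comm_y (g h : U K) : ⁅g, h⁆.y = Tr (h.d * g.a) - Tr (g.d * h.a) + Tr (h.c * sh g.a) - Tr (g.c * sh h.a) +
    h.b * Nr g.a - g.b * Nr h.a := by
  simp only [commutatorElement_def, mul_a, mul_b, mul_c, mul_d, mul_y, inv_a, inv_b, inv_c, inv_d, inv_y, Tr, Nr, sh, cr,
    sg_add, sg_sub, sg_neg, sg_mul, sg3, U.hb]
  ring
@[simp] theorem comm_z (g h : U K) : ⁅g, h⁆.z = g.b ^ 2 * Nr h.a - h.b ^ 2 * Nr g.a + Tr (sh g.c * h.a) - Tr (sh h.c * g.a) +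
    g.b * Tr (g.c * sh h.a) - h.b * Tr (h.c * sh g.a) + h.b * g.y - g.b * h.y + Tr ((g.c + g.b * h.a) * h.d) -
    Tr ((h.c + h.b * g.a) * g.d) - (g.b + h.b) * (Tr (h.d * g.a) - Tr (g.d * h.a) + Tr (h.c * sh g.a) -
      Tr (g.c * sh h.a) + h.b * Nr g.a - g.b * Nr h.a) +
    Tr ((g.c + h.c + g.b * h.a) * (cr h.c g.a - cr g.c h.a + h.b * sh g.a - g.b * sh h.a)) := by
  simp only [commutatorElement_def, mul_a, mul_b, mul_c, mul_d, mul_y, mul_z, inv_a, inv_b, inv_c, inv_d, inv_y, inv_z,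
    Tr, Nr, sh, cr, sg_add, sg_sub, sg_neg, sg_mul, sg3, U.hb]
  ring

@[simp] theorem conj_a (s g : U K) : (s * g * s⁻¹).a = g.a := by simp
@[simp] theorem conj_b (s g : U K) : (s * g * s⁻¹).b = g.b := by simp
theorem conj_c (s g : U K) : (s * g * s⁻¹).c = g.c + g.b * s.a - s.b * g.a := by simp; ring

/-- `a = 0` -/
def Q1 (K : Type u) [Field K] [TF K] : Subgroup (U K) where
  carrier := {g | g.a = 0}
  mul_mem' := fun {g h} (hg : g.a = 0) (hh : h.a = 0) => show g.a + h.a = 0 by rw [hg, hh, add_zero]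
  one_mem' := rfl
  inv_mem' := fun {g} (hg : g.a = 0) => show -g.a = 0 by rw [hg, neg_zero]

/-- `b = 0` -/
def Q2 (K : Type u) [Field K] [TF K] : Subgroup (U K) where
  carrier := {g | g.b = 0}
  mul_mem' := fun {g h} (hg : g.b = 0) (hh : h.b = 0) => show g.b + h.b = 0 by rw [hg, hh, add_zero]
  one_mem' := rfl
  inv_mem' := fun {g} (hg : g.b = 0) => show -g.b = 0 by rw [hg, neg_zero]

/-- `a = b = 0` -/
def Z4 (K : Type u) [Field K] [TF K] : Subgroup (U K) where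
  carrier := {g | g.a = 0 ∧ g.b = 0}
  mul_mem' := fun hg hh => ⟨by simp [hg.1, hh.1], by simp [hg.2, hh.2]⟩
  one_mem' := ⟨rfl, rfl⟩
  inv_mem' := fun hg => ⟨by simp [hg.1], by simp [hg.2]⟩

/-- `a = b = c = 0` -/
def Z3 (K : Type u) [Field K] [TF K] : Subgroup (U K) where
  carrier := {g | g.a = 0 ∧ g.b = 0 ∧ g.c = 0}
  mul_mem' := fun hg hh => ⟨by simp [hg.1, hh.1], by simp [hg.2.1, hh.2.1], by simp [hg.1, hg.2.2, hh.2.2]⟩
  one_mem' := ⟨rfl, rfl, rfl⟩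
  inv_mem' := fun hg => ⟨by simp [hg.1], by simp [hg.2.1], by simp [hg.1, hg.2.2]⟩

/-- `a = b = c = d = 0` -/
def Z2 (K : Type u) [Field K] [TF K] : Subgroup (U K) where
  carrier := {g | g.a = 0 ∧ g.b = 0 ∧ g.c = 0 ∧ g.d = 0}
  mul_mem' := fun hg hh => ⟨by simp [hg.1, hh.1], by simp [hg.2.1, hh.2.1], by simp [hg.1, hg.2.2.1, hh.2.2.1],
    by simp [hg.1, hg.2.2.2, hh.2.2.2]⟩
  one_mem' := ⟨rfl, rfl, rfl, rfl⟩
  inv_mem' := fun hg => ⟨by simp [hg.1], by simp [hg.2.1], by simp [hg.1, hg.2.2.1], by simp [hg.1, hg.2.2.2]⟩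

/-- `a = b = c = d = y = 0` -/
def Z (K : Type u) [Field K] [TF K] : Subgroup (U K) where
  carrier := {g | g.a = 0 ∧ g.b = 0 ∧ g.c = 0 ∧ g.d = 0 ∧ g.y = 0}
  mul_mem' := fun hg hh => ⟨by simp [hg.1, hh.1], by simp [hg.2.1, hh.2.1], by simp [hg.1, hg.2.2.1, hh.2.2.1],
    by simp [hg.1, hg.2.2.2.1, hh.2.2.2.1], by simp [hg.1, hg.2.2.2.2, hh.2.2.2.2]⟩
  one_mem' := ⟨rfl, rfl, rfl, rfl, rfl⟩
  inv_mem' := fun hg => ⟨by simp [hg.1], by simp [hg.2.1], by simp [hg.1, hg.2.2.1], by simp [hg.1, hg.2.2.2.1],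
    by simp [hg.1, hg.2.2.2.2]⟩

theorem mem_Q1 {g : U K} : g ∈ Q1 K ↔ g.a = 0 := Iff.rfl
theorem mem_Q2 {g : U K} : g ∈ Q2 K ↔ g.b = 0 := Iff.rfl
theorem mem_Z4 {g : U K} : g ∈ Z4 K ↔ g.a = 0 ∧ g.b = 0 := Iff.rfl
theorem mem_Z3 {g : U K} : g ∈ Z3 K ↔ g.a = 0 ∧ g.b = 0 ∧ g.c = 0 := Iff.rfl
theorem mem_Z2 {g : U K} : g ∈ Z2 K ↔ g.a = 0 ∧ g.b = 0 ∧ g.c = 0 ∧ g.d = 0 := Iff.rfl
theorem mem_Z {g : U K} : g ∈ Z K ↔ g.a = 0 ∧ g.b = 0 ∧ g.c = 0 ∧ g.d = 0 ∧ g.y = 0 := Iff.rfl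

theorem Z_le_Z2 : Z K ≤ Z2 K := fun _ h => ⟨h.1, h.2.1, h.2.2.1, h.2.2.2.1⟩
theorem Z2_le_Z3 : Z2 K ≤ Z3 K := fun _ h => ⟨h.1, h.2.1, h.2.2.1⟩
theorem Z3_le_Z4 : Z3 K ≤ Z4 K := fun _ h => ⟨h.1, h.2.1⟩
theorem Z4_le_Q1 : Z4 K ≤ Q1 K := fun _ h => h.1
theorem Z4_le_Q2 : Z4 K ≤ Q2 K := fun _ h => h.2

theorem comm_mem_Z4 (g h : U K) : ⁅g, h⁆ ∈ Z4 K := ⟨comm_a g h, comm_b g h⟩
theorem comm_mem_Z3 (g : U K) {h : U K} (k : h ∈ Z4 K) : ⁅g, h⁆ ∈ Z3 K := by simp [mem_Z3, k.1, k.2]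
theorem comm_mem_Z2 (g : U K) {h : U K} (k : h ∈ Z3 K) : ⁅g, h⁆ ∈ Z2 K := by simp [mem_Z2, k.1, k.2.1, k.2.2]
theorem comm_mem_Z (g : U K) {h : U K} (k : h ∈ Z2 K) : ⁅g, h⁆ ∈ Z K := by
  simp [mem_Z, k.1, k.2.1, k.2.2.1, k.2.2.2]
theorem comm_Z (g : U K) {h : U K} (k : h ∈ Z K) : ⁅g, h⁆ = 1 := by
  simp [eq_one_iff, k.1, k.2.1, k.2.2.1, k.2.2.2.1, k.2.2.2.2]
theorem comm_Q1 {g h : U K} (k : g ∈ Q1 K) (k' : h ∈ Q1 K) : ⁅g, h⁆ ∈ Z K := by simp [mem_Z, mem_Q1.1 k, mem_Q1.1 k']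
theorem comm_Q2 {g h : U K} (k : g ∈ Q2 K) (k' : h ∈ Q2 K) : ⁅g, h⁆ ∈ Z3 K := by simp [mem_Z3, mem_Q2.1 k, mem_Q2.1 k']
theorem comm_Q2_Z2 {g h : U K} (k : g ∈ Q2 K) (k' : h ∈ Z2 K) : ⁅g, h⁆ = 1 := by
  simp [eq_one_iff, mem_Q2.1 k, k'.1, k'.2.1, k'.2.2.1, k'.2.2.2]
theorem comm_Z3 {g h : U K} (k : g ∈ Z3 K) (k' : h ∈ Z3 K) : ⁅g, h⁆ = 1 := by
  simp [eq_one_iff, k.1, k.2.1, k.2.2, k'.1, k'.2.1, k'.2.2]

theorem normal_of {X : Subgroup (U K)} (h : ∀ s : U K, ∀ g ∈ X, ⁅s, g⁆ ∈ X) : X.Normal := ⟨fun g hg s => by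
  have := mul_mem (h s g hg) hg
  rwa [commutatorElement_def, inv_mul_cancel_right] at this⟩

instance : (Q1 K).Normal := normal_of fun s g _ => comm_a s g
instance : (Q2 K).Normal := normal_of fun s g _ => comm_b s g
instance : (Z4 K).Normal := normal_of fun s g _ => comm_mem_Z4 s g
instance : (Z3 K).Normal := normal_of fun s _ h => comm_mem_Z3 s (Z3_le_Z4 h)
instance : (Z2 K).Normal := normal_of fun s _ h => comm_mem_Z2 s (Z2_le_Z3 h)
instance : (Z K).Normal := normal_of fun s _ h => comm_mem_Z s (Z_le_Z2 h)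

/-- root elements -/
def xa (t : K) : U K := ⟨t, 0, 0, 0, 0, 0, by simp, by simp, by simp⟩
def xb (t : K) (h : sg t = t) : U K := ⟨0, t, 0, 0, 0, 0, h, by simp, by simp⟩
def xc (t : K) : U K := ⟨0, 0, t, 0, 0, 0, by simp, by simp, by simp⟩
def xd (t : K) : U K := ⟨0, 0, 0, t, 0, 0, by simp, by simp, by simp⟩
def xy (t : K) (h : sg t = t) : U K := ⟨0, 0, 0, 0, t, 0, by simp, h, by simp⟩
def xz (t : K) (h : sg t = t) : U K := ⟨0, 0, 0, 0, 0, t, by simp, by simp, h⟩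

theorem nf (g : U K) : g = xb g.b g.hb * xc g.c * xd g.d * xy g.y g.hy * xz g.z g.hz * xa g.a := by
  ext <;> simp [xa, xb, xc, xd, xy, xz]

theorem comm_xd (g : U K) (t : K) : ⁅g, xd t⁆.y = Tr (t * g.a) ∧ ⁅g, xd t⁆.z = Tr (g.c * t) - g.b * Tr (t * g.a) := by
  simp [xd]
theorem comm_xy (g : U K) (t : K) (h : sg t = t) : ⁅g, xy t h⁆.z = -(g.b * t) := by simp [xy]

instance : Finite (U K) := Finite.of_injective (fun g : U K => (g.a, g.b, g.c, g.d, g.y, g.z)) fun g h e => by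
  simp only [Prod.mk.injEq] at e; exact U.ext e.1 e.2.1 e.2.2.1 e.2.2.2.1 e.2.2.2.2.1 e.2.2.2.2.2

theorem pg (p : ℕ) [Fact p.Prime] [CharP K p] : IsPGroup p (U K) := by
  have z : (p : K) = 0 := CharP.cast_eq_zero K p
  have step : ∀ (X : Subgroup (U K)) (φ : U K → K), (∀ g ∈ X, ∀ h ∈ X, φ (g * h) = φ g + φ h) →
      ∀ g ∈ X, φ (g ^ p) = 0 := fun X φ hφ g hg => by
    have : ∀ n : ℕ, φ (g ^ (n + 1)) = (n + 1 : ℕ) * φ g := fun n => by
      induction n with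
      | zero => simp
      | succ n ih => rw [pow_succ, hφ _ (X.pow_mem hg _) _ hg, ih]; push_cast; ring
    obtain ⟨n, rfl⟩ := Nat.exists_eq_add_one_of_ne_zero (Fact.out : p.Prime).ne_zero
    rw [this, z, zero_mul]
  intro g
  have h1 : g ^ p ∈ Z4 K := ⟨step ⊤ U.a (fun _ _ _ _ => rfl) g trivial, step ⊤ U.b (fun _ _ _ _ => rfl) g trivial⟩
  have h2 := (Z4 K).pow_mem h1 p
  have h3 : (g ^ p) ^ p ∈ Z2 K := ⟨h2.1, h2.2, step (Z4 K) U.c (fun a ha b _ => by simp [ha.1]) _ h1,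
    step (Z4 K) U.d (fun a ha b _ => by simp [ha.1]) _ h1⟩
  have h4 := (Z2 K).pow_mem h3 p
  refine ⟨3, ?_⟩
  rw [pow_succ, pow_succ, pow_one, pow_mul, pow_mul]
  exact eq_one_iff.2 ⟨h4.1, h4.2.1, h4.2.2.1, h4.2.2.2,
    step (Z2 K) U.y (fun a ha b _ => by simp [ha.1]) _ h3,
    step (Z2 K) U.z (fun a ha b hb => by simp [ha.1, ha.2.2.2, hb.2.1]) _ h3⟩

/-! ### diagonal and field automorphisms -/

/-- parameters of the diagonal and field automorphisms -/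
@[ext] structure Par (K : Type u) [Field K] [TF K] where
  l : Kˣ
  m : Kˣ
  γ : K ≃+* K
  hm : sg (m : K) = m

attribute [simp] Par.hm

instance : Mul (Par K) := ⟨fun h k => ⟨h.l * Units.map (h.γ : K →* K) k.l, h.m * Units.map (h.γ : K →* K) k.m, h.γ * k.γ,
  by show sg (h.m * h.γ k.m : K) = h.m * h.γ k.m; rw [sg_mul, ← map_sg, h.hm, k.hm]⟩⟩
instance : One (Par K) := ⟨⟨1, 1, 1, sg_one⟩⟩
instance : _root_.Inv (Par K) := ⟨fun h => ⟨Units.map ((h.γ⁻¹ : K ≃+* K) : K →* K) h.l⁻¹,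
  Units.map ((h.γ⁻¹ : K ≃+* K) : K →* K) h.m⁻¹, h.γ⁻¹,
  by show sg (h.γ.symm (h.m⁻¹ : Kˣ)) = h.γ.symm (h.m⁻¹ : Kˣ); rw [← map_sg]; simp⟩⟩

@[simp] theorem par_mul_l (h k : Par K) : ((h * k).l : K) = h.l * h.γ k.l := rfl
@[simp] theorem par_mul_m (h k : Par K) : ((h * k).m : K) = h.m * h.γ k.m := rfl
@[simp] theorem par_mul_γ (h k : Par K) (x : K) : (h * k).γ x = h.γ (k.γ x) := rfl
@[simp] theorem par_one_l : ((1 : Par K).l : K) = 1 := rfl
@[simp] theorem par_one_m : ((1 : Par K).m : K) = 1 := rfl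
@[simp] theorem par_one_γ (x : K) : (1 : Par K).γ x = x := rfl
theorem par_ext {h k : Par K} (e1 : (h.l : K) = k.l) (e2 : (h.m : K) = k.m) (e3 : ∀ x, h.γ x = k.γ x) : h = k :=
  Par.ext (Units.ext e1) (Units.ext e2) (RingEquiv.ext e3)

instance : Group (Par K) := Group.ofLeftAxioms (fun h k r => par_ext (by simp [mul_assoc]) (by simp [mul_assoc]) (by simp))
  (fun h => par_ext (by simp) (by simp) (by simp)) fun h => par_ext
    (show h.γ.symm (h.l⁻¹ : Kˣ) * h.γ.symm h.l = 1 by rw [← map_mul]; simp)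
    (show h.γ.symm (h.m⁻¹ : Kˣ) * h.γ.symm h.m = 1 by rw [← map_mul]; simp) fun x => h.γ.symm_apply_apply x

instance : Finite (Par K) := Finite.of_injective (fun h : Par K => ((h.l : K), (h.m : K), (h.γ : K → K))) fun h k e => by
  simp only [Prod.mk.injEq] at e; exact par_ext e.1 e.2.1 (congrFun e.2.2)

theorem sg_map (γ : K ≃+* K) {x : K} (h : sg x = x) : sg (γ x) = γ x := by rw [← map_sg, h]

def actF (h : Par K) (g : U K) : U K := ⟨h.l * h.γ g.a, h.m * h.γ g.b, h.l * h.m * h.γ g.c, sh (h.l : K) * h.m * h.γ g.d,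
  Nr (h.l : K) * h.m * h.γ g.y, Nr (h.l : K) * h.m ^ 2 * h.γ g.z,
  by simp [sg_map h.γ g.hb], by simp [sg_map h.γ g.hy], by simp [sg_map h.γ g.hz]⟩

theorem actF_mul (h k : Par K) (g : U K) : actF (h * k) g = actF h (actF k g) := by
  ext <;> simp only [actF, par_mul_l, par_mul_m, par_mul_γ, map_mul, map_pow, map_sh, map_Nr, sh_mul, Nr_mul] <;> ring
theorem actF_one (g : U K) : actF 1 g = g := by ext <;> simp [actF]
theorem actF_map (h : Par K) (g k : U K) : actF h (g * k) = actF h g * actF h k := by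
  ext <;> simp only [actF, mul_a, mul_b, mul_c, mul_y, mul_d, mul_z, map_add, map_sub, map_mul, map_pow, map_sg, Tr, sh, Nr,
    cr, sg_add, sg_mul, sg3, h.hm, sg_map h.γ k.hb] <;> ring

/-- the diagonal and field automorphisms -/
def act : Par K →* MulAut (U K) := MonoidHom.mk' (fun h =>
  { toFun := actF h
    invFun := actF h⁻¹
    left_inv := fun g => by rw [← actF_mul, inv_mul_cancel, actF_one]
    right_inv := fun g => by rw [← actF_mul, mul_inv_cancel, actF_one]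
    map_mul' := actF_map h }) fun h k => MulEquiv.ext (actF_mul h k)

@[simp] theorem act_a (h : Par K) (g : U K) : (act h g).a = h.l * h.γ g.a := rfl
@[simp] theorem act_b (h : Par K) (g : U K) : (act h g).b = h.m * h.γ g.b := rfl
@[simp] theorem act_c (h : Par K) (g : U K) : (act h g).c = h.l * h.m * h.γ g.c := rfl
@[simp] theorem act_d (h : Par K) (g : U K) : (act h g).d = sh (h.l : K) * h.m * h.γ g.d := rfl
@[simp] theorem act_y (h : Par K) (g : U K) : (act h g).y = Nr (h.l : K) * h.m * h.γ g.y := rfl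
@[simp] theorem act_z (h : Par K) (g : U K) : (act h g).z = Nr (h.l : K) * h.m ^ 2 * h.γ g.z := rfl

theorem act_Q1 (h : Par K) (g : U K) : act h g ∈ Q1 K ↔ g ∈ Q1 K := by simp [mem_Q1]
theorem act_Q2 (h : Par K) (g : U K) : act h g ∈ Q2 K ↔ g ∈ Q2 K := by simp [mem_Q2]

/-- the torus of `SL₂(q³)` -/
def ha (u : Kˣ) : Par K := ⟨u ^ 2, (Units.mk0 (Nr (u : K)) (by simp))⁻¹, 1, by simp⟩
/-- the torus of `SL₂(q)` -/
def hb (v : Kˣ) (h : sg (v : K) = v) : Par K := ⟨v⁻¹, v ^ 2, 1, by simp [h]⟩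

@[simp] theorem ha_l (u : Kˣ) : ((ha u).l : K) = (u : K) ^ 2 := by simp [ha]
@[simp] theorem ha_m (u : Kˣ) : ((ha u).m : K) = (Nr (u : K))⁻¹ := by simp [ha]
@[simp] theorem ha_γ (u : Kˣ) (x : K) : (ha u).γ x = x := rfl
@[simp] theorem hb_l (v : Kˣ) (h : sg (v : K) = v) : ((hb v h).l : K) = (v : K)⁻¹ := by simp [hb]
@[simp] theorem hb_m (v : Kˣ) (h : sg (v : K) = v) : ((hb v h).m : K) = (v : K) ^ 2 := by simp [hb]
@[simp] theorem hb_γ (v : Kˣ) (h : sg (v : K) = v) (x : K) : (hb v h).γ x = x := rfl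

/-- `A0` is the product of the inner automorphisms with the group `H` of diagonal and field automorphisms -/
def Std (A0 : Subgroup (MulAut (U K))) (H : Subgroup (Par K)) : Prop :=
  ∀ α, α ∈ A0 ↔ ∃ s, ∃ h ∈ H, α = MulAut.conj s * act h

/-! ### the reflections -/

def r1F (g : Q1 K) : Q1 K := ⟨⟨0, -g.1.y, g.1.d, -g.1.c, g.1.b, g.1.z - g.1.b * g.1.y + Tr (g.1.c * g.1.d),
  by simp, by simp, by simp⟩, rfl⟩
def r1G (g : Q1 K) : Q1 K := ⟨⟨0, g.1.y, -g.1.d, g.1.c, -g.1.b, g.1.z - g.1.b * g.1.y + Tr (g.1.c * g.1.d),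
  by simp, by simp, by simp⟩, rfl⟩

/-- the reflection on `Q1` -/
def r1 (K : Type u) [Field K] [TF K] : MulAut (Q1 K) where
  toFun := r1F
  invFun := r1G
  left_inv g := Subtype.ext (by ext <;> simp [r1F, r1G, mem_Q1.1 g.2, mul_comm]; ring)
  right_inv g := Subtype.ext (by ext <;> simp [r1F, r1G, mem_Q1.1 g.2, mul_comm]; ring)
  map_mul' g h := Subtype.ext (by
    ext <;> simp only [r1F, Subgroup.coe_mul, mul_a, mul_b, mul_c, mul_y, mul_d, mul_z, mem_Q1.1 g.2, mem_Q1.1 h.2,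
      Tr, sh, Nr, cr, sg_add, sg_sub, sg_neg, sg_mul, sg3, sg_zero, U.hb, U.hy] <;> ring)

theorem r1_coe (g : Q1 K) : (r1 K g : U K) = ⟨0, -g.1.y, g.1.d, -g.1.c, g.1.b,
    g.1.z - g.1.b * g.1.y + Tr (g.1.c * g.1.d), (r1 K g).1.hb, (r1 K g).1.hy, (r1 K g).1.hz⟩ := rfl

def r2F (g : Q2 K) : Q2 K := ⟨⟨-g.1.c, 0, g.1.a, g.1.d - cr g.1.a g.1.c,
  -g.1.z - Tr (g.1.c * g.1.d) + Tr (g.1.a * sh g.1.c), g.1.y - Tr (g.1.a * g.1.d) + Tr (sh g.1.a * g.1.c),
  by simp, by simp, by simp⟩, rfl⟩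
def r2G (g : Q2 K) : Q2 K := ⟨⟨g.1.c, 0, -g.1.a, g.1.d - cr g.1.a g.1.c,
  g.1.z + Tr (g.1.c * g.1.d) - Tr (g.1.a * sh g.1.c), -g.1.y + Tr (g.1.a * g.1.d) - Tr (sh g.1.a * g.1.c),
  by simp, by simp, by simp⟩, rfl⟩

/-- the reflection on `Q2` -/
def r2 (K : Type u) [Field K] [TF K] : MulAut (Q2 K) where
  toFun := r2F
  invFun := r2G
  left_inv g := Subtype.ext (by
    ext <;> simp only [r2F, r2G, mem_Q2.1 g.2, Tr, sh, cr, sg_add, sg_sub, sg_neg, sg_mul, sg3] <;> ring)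
  right_inv g := Subtype.ext (by
    ext <;> simp only [r2F, r2G, mem_Q2.1 g.2, Tr, sh, cr, sg_add, sg_sub, sg_neg, sg_mul, sg3] <;> ring)
  map_mul' g h := Subtype.ext (by
    ext <;> simp only [r2F, Subgroup.coe_mul, mul_a, mul_b, mul_c, mul_y, mul_d, mul_z, mem_Q2.1 g.2, mem_Q2.1 h.2,
      Tr, sh, Nr, cr, sg_add, sg_sub, sg_neg, sg_mul, sg3, sg_zero] <;> ring)

theorem r2_coe (g : Q2 K) : (r2 K g : U K) = ⟨-g.1.c, 0, g.1.a, g.1.d - cr g.1.a g.1.c,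
    -g.1.z - Tr (g.1.c * g.1.d) + Tr (g.1.a * sh g.1.c), g.1.y - Tr (g.1.a * g.1.d) + Tr (sh g.1.a * g.1.c),
    (r2 K g).1.hb, (r2 K g).1.hy, (r2 K g).1.hz⟩ := rfl

end Model

end CL.TD
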