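/-
Project TD: lifting a reflection by coprime action.
-/
import Cfsg.Agent.Grp.SZConj

set_option autoImplicit false

namespace CL.TD

open scoped Pointwise

theorem liftG {Γ : Type*} [Group Γ] [Finite Γ] {p : ℕ} [hp : Fact p.Prime] {P I A D : Subgroup Γ} [hPn : P.Normal]
    [hIn : I.Normal] (hP : IsPGroup p P) (hIP : I ≤ P) (hIA : I ≤ A) (hAP : ∀ a ∈ A, a ∈ P → a ∈ I)
    (hD : ¬ p ∣ Nat.card D) (hDA : D ≤ A) {r g : Γ} (hg : g ∈ A) (hm : r⁻¹ * g ∈ P) (hr : ∀ h ∈ D, r * h * r⁻¹ ∈ A)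
    (hc : ∀ n ∈ P, (∀ h ∈ D, Commute n h) → n ∈ I) : r ∈ A := by
  set m := r⁻¹ * g with hmd
  have cP : ∀ n ∈ P, ∀ h, n * h * n⁻¹ * h⁻¹ ∈ P := fun n hn h => by
    rw [mul_assoc, mul_assoc, ← mul_assoc h]
    exact mul_mem hn (hPn.conj_mem _ (inv_mem hn) h)
  have c : ∀ h ∈ D, m * h * m⁻¹ * h⁻¹ ∈ I := fun h hh => by
    have e : r * (m * h * m⁻¹ * h⁻¹) * r⁻¹ ∈ I := hAP _ (by
      rw [show r * (m * h * m⁻¹ * h⁻¹) * r⁻¹ = g * h * g⁻¹ * (r * h * r⁻¹)⁻¹ by rw [hmd]; group]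
      exact mul_mem (mul_mem (mul_mem hg (hDA hh)) (inv_mem hg)) (inv_mem (hr h hh))) (hPn.conj_mem _ (cP m hm h) r)
    simpa [mul_assoc] using hIn.conj_mem _ e r⁻¹
  have cop : ∀ {X : Subgroup Γ} {n : ℕ}, IsPGroup p X → ¬ p ∣ n → (Nat.card X).Coprime n := fun h hn => by
    obtain ⟨k, e⟩ := IsPGroup.iff_card.1 h
    exact e ▸ ((hp.out.coprime_iff_not_dvd).2 hn).pow_left k
  have hI := hP.to_le hIP
  have e : Nat.card (MulAut.conj m • D : Subgroup Γ) = Nat.card D :=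
    Nat.card_congr (Subgroup.equivSMul (MulAut.conj m) D).symm.toEquiv
  obtain ⟨i, hi, k⟩ := CL.Grp.schurZassenhaus_conj_of_sup_eq (N := I) (H := MulAut.conj m • D) (K := D)
    Subgroup.le_normalizer_of_normal (cop hI (e ▸ hD)) (cop hI hD) (le_antisymm (sup_le le_sup_left (by
      rintro _ ⟨h, hh, rfl⟩
      have := Subgroup.mul_mem_sup (c h hh) hh
      rwa [inv_mul_cancel_right] at this)) (sup_le le_sup_left fun h hh => by
      rw [show h = (m * h * m⁻¹ * h⁻¹)⁻¹ * (m * h * m⁻¹) by group]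
      exact Subgroup.mul_mem_sup (inv_mem (c h hh)) (Subgroup.smul_mem_pointwise_smul _ (MulAut.conj m) _ hh)))
    (.inl (have := hI.isNilpotent; inferInstance))
  have hn : i * m ∈ P := mul_mem (hIP hi) hm
  have : i * m ∈ I := hc _ hn fun h hh => by
    have h1 : i * m * h * (i * m)⁻¹ ∈ D := by
      have := k.le (Subgroup.smul_mem_pointwise_smul _ (MulAut.conj i) _
        (Subgroup.smul_mem_pointwise_smul _ (MulAut.conj m) _ hh))
      simpa [mul_assoc] using this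
    have h2 : i * m * h * (i * m)⁻¹ * h⁻¹ ∈ P ⊓ D := ⟨cP _ hn h, D.mul_mem h1 (D.inv_mem hh)⟩
    rw [Subgroup.inf_eq_bot_of_coprime (cop hP hD), Subgroup.mem_bot] at h2
    rw [Commute, SemiconjBy, ← mul_inv_eq_iff_eq_mul]
    exact mul_inv_eq_one.1 h2
  rw [show r = g * (i * m)⁻¹ * i by rw [hmd]; group]
  exact mul_mem (mul_mem hg (inv_mem (hIA this))) (hIA hi)

end CL.TD
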