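/-
Project TD: the linear group on `Q2 / Z3` and the statements of the parts about automizers and the realization.
-/
import Cfsg.Agent.TD.Defs
import Cfsg.Agent.TD.LG
import Cfsg.Agent.U5.Defs2
import Cfsg.Prelude.Def_LieTwisted

set_option autoImplicit false
set_option linter.unusedSectionVars false

namespace CL.TD

open Cfsg CL.Fus CL.U5
open scoped commutatorElement

universe u

/-! ### automorphisms trivial on the abelianization -/

section Gen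

/-- the automorphisms that are trivial modulo the commutator subgroup -/
def Cd (Q : Type*) [Group Q] : Subgroup (MulAut Q) where
  carrier := {α | ∀ x, x⁻¹ * α x ∈ commutator Q}
  one_mem' := fun x => by simp
  mul_mem' := fun {α β} hα hβ x => by
    have := mul_mem (hβ x) (hα (β x))
    rwa [mul_assoc, mul_inv_cancel_left] at this
  inv_mem' := fun {α} hα x => by
    have := inv_mem (hα (α⁻¹ x))
    rwa [MulAut.apply_inv_self, mul_inv_rev, inv_inv] at this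

variable {Q : Type*} [Group Q]

theorem mem_Cd {α : MulAut Q} : α ∈ Cd Q ↔ ∀ x, x⁻¹ * α x ∈ commutator Q := Iff.rfl

theorem aut_comm (α : MulAut Q) {x : Q} (h : x ∈ commutator Q) : α x ∈ commutator Q :=
  (Subgroup.characteristic_iff_le_comap.1 inferInstance α) h

instance : (Cd Q).Normal := ⟨fun α h β x => by
  have := aut_comm β (h (β⁻¹ x))
  rwa [map_mul, map_inv, MulAut.apply_inv_self] at this⟩

theorem conj_mem_Cd (s : Q) : MulAut.conj s ∈ Cd Q := fun x => by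
  have := Subgroup.commutator_mem_commutator (Subgroup.mem_top x⁻¹) (Subgroup.mem_top s)
  rwa [commutatorElement_def, inv_inv, mul_assoc, mul_assoc, ← mul_assoc s] at this

theorem Cd_pg [Finite Q] {p : ℕ} [hp : Fact p.Prime] (h : IsPGroup p Q) : IsPGroup p (Cd Q) := fun α => by
  refine ⟨(orderOf (α : MulAut Q)).factorization p, Subtype.ext ?_⟩
  have h0 := (orderOf_pos (α : MulAut Q)).ne'
  refine mulAut_eq_one_of_comm_comm_frattini h (C := ⊤) ?_ (fun _ _ => trivial) (fun _ => trivial)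
    fun x _ => CL.Grp.commutator_le_frattini h (mem_Cd.1 (Subtype.property _) x)
  rw [Subgroup.coe_pow, orderOf_pow_of_dvd (pow_ne_zero _ hp.out.ne_zero) (Nat.ordProj_dvd _ _)]
  exact (Nat.coprime_ordCompl hp.out h0).symm

/-- the action on the abelianization -/
theorem rhoG {Q V : Type u} [Group Q] [AddCommGroup V] (π : Q → V) (add : ∀ x y, π (x * y) = π x + π y)
    (onto : Function.Surjective π) (der : ∀ x, π x = 0 ↔ x ∈ commutator Q) :
    ∃ ρ : MulAut Q →* Au V, (∀ α x, π (α x) = ρ α (π x)) ∧ ρ.ker = Cd Q := by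
  have eqv : ∀ x y, π x = π y ↔ x⁻¹ * y ∈ commutator Q := fun x y => by
    have := add x (x⁻¹ * y)
    rw [mul_inv_cancel_left] at this
    rw [this, eq_comm, add_eq_left, der]
  have key : ∀ (α : MulAut Q) x y, π x = π y → π (α x) = π (α y) := fun α x y h => by
    rw [eqv, ← map_inv, ← map_mul]
    exact aut_comm α ((eqv x y).1 h)
  obtain ⟨f, hf⟩ : ∃ f : MulAut Q → V → V, ∀ α x, f α (π x) = π (α x) :=
    ⟨fun α v => π (α (Function.surjInv onto v)), fun α x => key α _ _ (Function.surjInv_eq onto _)⟩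
  let ρ : MulAut Q →* Au V := MonoidHom.mk' (fun α => mkAu (f α) (f α⁻¹)
    (fun v w => by
      obtain ⟨x, rfl⟩ := onto v
      obtain ⟨y, rfl⟩ := onto w
      rw [← add, hf, hf, hf, map_mul, add])
    (fun v => by
      obtain ⟨x, rfl⟩ := onto v
      rw [hf, hf, MulAut.inv_apply_self])
    (fun v => by
      obtain ⟨x, rfl⟩ := onto v
      rw [hf, hf, MulAut.apply_inv_self]))
    fun α β => au_ext fun v => by
      obtain ⟨x, rfl⟩ := onto v
      rw [au_mul, mkAu_apply, mkAu_apply, mkAu_apply, hf, hf, hf, MulAut.mul_apply]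
  have hρ : ∀ α x, π (α x) = ρ α (π x) := fun α x => (hf α x).symm
  refine ⟨ρ, hρ, Subgroup.ext fun α => ⟨fun h x => (eqv _ _).1 (by rw [hρ, MonoidHom.mem_ker.1 h, au_one]),
    fun h => au_ext fun v => ?_⟩⟩
  obtain ⟨x, rfl⟩ := onto v
  rw [← hρ, au_one]
  exact ((eqv _ _).2 (h x)).symm

end Gen

section Lin
variable {K : Type u} [Field K] [TF K]

theorem card_fix (K : Type u) [Field K] [TF K] : Nat.card {x : K // sg x = x} = TF.q K := by
  obtain ⟨t, ht⟩ := exists_ne K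
  have h1 := sub_ne_zero.2 ht.symm
  have h2 := sub_ne_zero.2 (sg2_ne ht).symm
  have h3 : sg t - sg (sg t) ≠ 0 := sub_ne_zero.2 fun e => ht (sg_inj e.symm)
  have h1' := sub_ne_zero.2 ht
  have h2' := sub_ne_zero.2 (sg2_ne ht)
  have h3' : sg (sg t) - sg t ≠ 0 := sub_ne_zero.2 fun e => ht (sg_inj e)
  refine Nat.pow_left_injective three_ne_zero ?_
  dsimp only
  rw [← card_K, pow_three, ← Nat.card_prod, ← Nat.card_prod]
  refine Nat.card_congr (Equiv.ofBijective (fun v => v.1.1 + v.2.1.1 * t + v.2.2.1 * (t * t)) ⟨?_, fun x => ?_⟩)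
  · rintro ⟨⟨x, hx⟩, ⟨y, hy⟩, z, hz⟩ ⟨⟨x', hx'⟩, ⟨y', hy'⟩, z', hz'⟩ (a : x + y * t + z * (t * t) = x' + y' * t + z' * (t * t))
    have b := congrArg sg a
    have c := congrArg sg b
    simp only [sg_add, sg_mul, hx, hy, hz, hx', hy', hz'] at b c
    have e2 : z = z' := mul_left_cancel₀ (mul_ne_zero (mul_ne_zero h1 h2) h3) (by
      linear_combination (sg t - sg (sg t)) * a - (t - sg (sg t)) * b + (t - sg t) * c)
    subst e2
    have e1 : y = y' := mul_left_cancel₀ h1 (by linear_combination a - b)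
    subst e1
    obtain rfl : x = x' := by linear_combination a
    rfl
  · refine ⟨⟨⟨Tr (x * sh t / ((t - sg t) * (t - sg (sg t)))), by simp⟩,
      ⟨-Tr (x * (sg t + sg (sg t)) / ((t - sg t) * (t - sg (sg t)))), by simp⟩,
      ⟨Tr (x / ((t - sg t) * (t - sg (sg t)))), by simp⟩⟩, ?_⟩
    simp only [Tr, sh, sg_div, sg_mul, sg_sub, sg_add, sg3]; field_simp; ring

/-! ### `Q2 / Z3` -/

def pW (g : U K) : V2 K := (g.a, g.c)

theorem pW_mul (g : U K) {h : U K} (k : h ∈ Q2 K) : pW (g * h) = pW g + pW h := by simp [pW, mem_Q2.1 k]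
theorem pW_eq_zero {g : U K} (k : g ∈ Q2 K) : pW g = 0 ↔ g ∈ Z3 K := by simp [pW, mem_Z3, mem_Q2.1 k]
theorem pW_surj (v : V2 K) : ∃ x : Q2 K, pW (x : U K) = v :=
  ⟨⟨⟨v.1, 0, v.2, 0, 0, 0, by simp, by simp, by simp⟩, rfl⟩, rfl⟩
theorem pW_conj (s : U K) {g : U K} (k : g ∈ Q2 K) : pW (s * g * s⁻¹) = Tw (-s.b) (pW g) := by
  simp only [pW, conj_a, conj_c, Tw_apply, mem_Q2.1 k]; ext <;> simp; ring
theorem pW_r2 (g : Q2 K) : pW (r2 K g : U K) = rW K (pW g) := rfl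

/-- the image of the Sylow subgroup -/
def TW (K : Type u) [Field K] [TF K] : Subgroup (Au (V2 K)) where
  carrier := {g | ∃ k, sg k = k ∧ Tw k = g}
  mul_mem' := by rintro _ _ ⟨a, h, rfl⟩ ⟨a', h', rfl⟩; exact ⟨_, by simp [h, h'], Tw_add a a'⟩
  one_mem' := ⟨_, sg_zero, Tw_zero⟩
  inv_mem' := by
    rintro _ ⟨a, h, rfl⟩
    exact ⟨-a, by simp [h], eq_inv_of_mul_eq_one_left (by rw [← Tw_add, neg_add_cancel, Tw_zero])⟩

theorem mem_TW {g : Au (V2 K)} : g ∈ TW K ↔ ∃ k, sg k = k ∧ Tw k = g := Iff.rfl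

def actW (h : Par K) : Au (V2 K) := mkAu (fun v => (h.l * h.γ v.1, h.l * h.m * h.γ v.2))
  (fun v => (h.γ.symm (v.1 / h.l), h.γ.symm (v.2 / (h.l * h.m)))) (fun v w => by ext <;> simp <;> ring)
  (fun v => by ext <;> simp) (fun v => by ext <;> simp only [RingEquiv.apply_symm_apply] <;> rw [mul_div_cancel₀] <;> simp)

theorem actW_apply (h : Par K) (v : V2 K) : actW h v = (h.l * h.γ v.1, h.l * h.m * h.γ v.2) := rfl
theorem pW_act (h : Par K) (g : U K) : pW (act h g) = actW h (pW g) := rfl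

/-- the two coordinates are linearly dependent over the fixed field -/
def Dep (v : V2 K) : Prop := v.1 * sg v.2 = sg v.1 * v.2

theorem dep_iff {v : V2 K} : Dep v ↔ v.1 = 0 ∨ ∃ k, sg k = k ∧ v.2 = k * v.1 := by
  refine ⟨fun h => ?_, ?_⟩
  · by_cases e : v.1 = 0
    · exact .inl e
    have e' : sg v.1 ≠ 0 := by simpa using e
    refine .inr ⟨v.2 / v.1, ?_, by field_simp⟩
    rw [sg_div, div_eq_div_iff e' e]; rw [Dep] at h; linear_combination h
  · rintro (h | ⟨k, h1, h2⟩)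
    · simp [Dep, h]
    · rw [Dep, h2, sg_mul, h1]; ring

/-- `g` keeps the tensors of rank at most one -/
def Rnk (g : Au (V2 K)) : Prop := ∀ v, Dep v → Dep (g v)

end Lin

/-! ### the statements of the parts -/

section Parts
variable (K : Type u) [Field K] [TF K]

/-- the essential subgroups -/
def ESS : Prop := ∀ (E : Subgroup (U K)) (M B : (U K → U K) → Prop), Crit E M B → E = Q1 K ∨ E = Q2 K

/-- the essential subgroups of a saturated fusion system -/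
def ESF : Prop := ∀ (p : ℕ) [Fact p.Prime] [CharP K p] (F : FusionSystem (⊤ : Subgroup (U K))), F.IsSaturated p →
  ∀ E, F.IsEssential p E → E = Q1 K ∨ E = Q2 K

/-- the commutator subgroups -/
def COM : Prop := (∀ x : U K, x ∈ commutator (U K) ↔ x ∈ Z4 K) ∧ (∀ x : Q1 K, x ∈ commutator (Q1 K) ↔ (x : U K) ∈ Z K) ∧
  ∀ x : Q2 K, x ∈ commutator (Q2 K) ↔ (x : U K) ∈ Z3 K

/-- the torus -/
def TOR : Prop := ∀ H : Subgroup (Par K), (∀ u, ha u ∈ H) → (∀ v hv, hb v hv ∈ H) → ∀ h : Par K, h.γ = 1 → h ∈ H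

def AU2 : Prop := ∀ (p : ℕ) [Fact p.Prime] [CharP K p] (A0 : Subgroup (MulAut (U K))), (∀ s, MulAut.conj s ∈ A0) →
  ¬ p ∣ (MulAut.conj : U K →* MulAut (U K)).range.relIndex A0 →
  (∀ α ∈ A0, (∀ x, α x ∈ Q1 K ↔ x ∈ Q1 K) ∧ ∀ x, α x ∈ Q2 K ↔ x ∈ Q2 K) →
  ∃ (β : MulAut (U K)) (H : Subgroup (Par K)), ¬ p ∣ Nat.card H ∧ Std (A0.map (MulAut.conj β).toMonoidHom) H

def RHO2 : Prop := ∃ ρ : MulAut (Q2 K) →* Au (V2 K), (∀ α (x : Q2 K), pW (α x : U K) = ρ α (pW x)) ∧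
  (∀ α, Rnk (ρ α)) ∧ ∀ (p : ℕ) [Fact p.Prime] [CharP K p], IsPGroup p ρ.ker

/-- the image of the line `{(0, c)}` is again such a line -/
def LIN2A : Prop := ∀ g : Au (V2 K), Rnk g → ¬ PW g → ∃ t ∈ TW K, ∀ c, ((t * g) (0, c)).2 = 0

def LIN2 : Prop := ∀ L : Subgroup (Au (V2 K)), TW K ≤ L → (∀ g ∈ L, Rnk g) →
  (∀ g ∈ L, PW g → ∀ t ∈ TW K, g * t * g⁻¹ ∈ TW K) ∧ ((∃ g ∈ L, ¬ PW g) →
    rW K ∈ L ∧ (∀ v hv, actW (hb v hv) ∈ L) ∧ ∀ g ∈ L, PW g ∨ ∃ t ∈ TW K, PW (rW K * t * g))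

/-- the automizer of `Q1` modulo the automorphisms trivial on `Q1 / Z` -/
def AUT1 : Prop := ∀ (p : ℕ) [Fact p.Prime] [CharP K p] (A0 : Subgroup (MulAut (U K))) (A : Subgroup (MulAut (Q1 K)))
  (H : Subgroup (Par K)), Rk1 p (Q1 K) A0 A → Std A0 H → (∀ v hv, hb v hv ∈ H) → (∀ u, ha u ∈ H) ∧
    ∃ g ∈ A, (∀ x : Q1 K, (r1 K x : U K)⁻¹ * g x ∈ Z K) ∧
      ∀ a ∈ A, (∃ α ∈ A0, Res α a) ∨ ∃ s : U K, ∃ α ∈ A0, Res α (g * MulAut.conjNormal s * a)

/-- the automizer of `Q2` modulo the automorphisms trivial on `Q2 / Z3` -/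
def AUT2 : Prop := ∀ (p : ℕ) [Fact p.Prime] [CharP K p] (A0 : Subgroup (MulAut (U K))) (A : Subgroup (MulAut (Q2 K)))
  (H : Subgroup (Par K)), Rk1 p (Q2 K) A0 A → Std A0 H → (∀ v hv, hb v hv ∈ H) ∧
    ∃ g ∈ A, (∀ x : Q2 K, (r2 K x : U K)⁻¹ * g x ∈ Z3 K) ∧
      ∀ a ∈ A, (∃ α ∈ A0, Res α a) ∨ ∃ s : U K, ∃ α ∈ A0, Res α (g * MulAut.conjNormal s * a)

/-- the centralizer of the torus in the automorphisms trivial on `Q1 / Z` -/
def CP1 : Prop := ∀ n : MulAut (Q1 K), (∀ x : Q1 K, (x : U K)⁻¹ * n x ∈ Z K) →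
  (∀ h : Par K, h.γ = 1 → ∀ x y : Q1 K, (y : U K) = act h x → (n y : U K) = act h (n x)) →
  ∃ s ∈ Q1 K, n = MulAut.conjNormal s

/-- the centralizer of the torus in the automorphisms trivial on `Q2 / Z3` -/
def CP2 : Prop := ∀ n : MulAut (Q2 K), (∀ x : Q2 K, (x : U K)⁻¹ * n x ∈ Z3 K) →
  (∀ h : Par K, h.γ = 1 → ∀ x y : Q2 K, (y : U K) = act h x → (n y : U K) = act h (n x)) → n = 1

def GEN1 : Prop := ∀ (p : ℕ) [Fact p.Prime] [CharP K p] (A0 : Subgroup (MulAut (U K))) (A : Subgroup (MulAut (Q1 K)))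
  (H : Subgroup (Par K)), Rk1 p (Q1 K) A0 A → Std A0 H → (∀ v hv, hb v hv ∈ H) → (∀ u, ha u ∈ H) ∧ r1 K ∈ A ∧
    ∀ A' : Subgroup (MulAut (Q1 K)), r1 K ∈ A' → (∀ α ∈ A0, ∀ a, Res α a → a ∈ A') → A ≤ A'

def GEN2 : Prop := ∀ (p : ℕ) [Fact p.Prime] [CharP K p] (A0 : Subgroup (MulAut (U K))) (A : Subgroup (MulAut (Q2 K)))
  (H : Subgroup (Par K)), Rk1 p (Q2 K) A0 A → Std A0 H → (∀ v hv, hb v hv ∈ H) ∧ ((∀ u, ha u ∈ H) → r2 K ∈ A ∧
    ∀ A' : Subgroup (MulAut (Q2 K)), r2 K ∈ A' → (∀ α ∈ A0, ∀ a, Res α a → a ∈ A') → A ≤ A')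

def REAL : Prop := ∀ (p : ℕ) [Fact p.Prime] [CharP K p] (H : Subgroup (Par K)), ¬ p ∣ Nat.card H →
  (∀ h : Par K, h.γ = 1 → h ∈ H) → ∃ (G : Type u) (_ : Group G) (_ : Finite G) (ι : U K →* G), Function.Injective ι ∧
    ¬ p ∣ ι.range.index ∧
    (∀ α : MulAut (U K), (∃ g, ∀ x, ι (α x) = g * ι x * g⁻¹) ↔ ∃ s, ∃ h ∈ H, α = MulAut.conj s * act h) ∧
    (∃ g, ∃ x ∈ Q1 K, ∃ y, y ∉ Q1 K ∧ ι y = g * ι x * g⁻¹) ∧ ∃ g, ∃ x ∈ Q2 K, ∃ y, y ∉ Q2 K ∧ ι y = g * ι x * g⁻¹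

def SYL : Prop := ∀ (p : ℕ) [Fact p.Prime] [CharP K p] (T : Sylow p (Cfsg.Lie.twistedD4 K (TF.q K))),
  Nonempty (↥(T : Subgroup (Cfsg.Lie.twistedD4 K (TF.q K))) ≃* U K)

end Parts

end CL.TD
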