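/-
Project TD: automorphisms of `U K` that keep `Q1` and `Q2`.
-/
import Cfsg.Agent.TD.DefsQ
import Cfsg.Agent.TD.AUa
import Cfsg.Agent.Grp.SZConj
import Cfsg.Agent.Grp.Hall

set_option autoImplicit false
set_option linter.unusedSectionVars false

namespace CL.TD

open Cfsg CL.Fus CL.U5
open scoped commutatorElement Pointwise

universe u

variable {K : Type u} [Field K] [TF K]

namespace AUb

theorem cr_span (d : K) : ∃ t x y : K, d = cr x 1 + cr y t := by
  obtain ⟨t, ht⟩ := exists_ne K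
  have := sub_ne_zero.2 ht
  refine ⟨t, -sg t * sg (d / (sg t - t)), sg (d / (sg t - t)), ?_⟩
  simp only [cr, sg_mul, sg_neg, sg3, sg_one]
  field_simp
  ring

theorem cm (g h : U K) : ⁅g, h⁆ ∈ commutator (U K) :=
  Subgroup.commutator_mem_commutator (Subgroup.mem_top g) (Subgroup.mem_top h)

theorem of_div {X : Subgroup (U K)} (hX : X ≤ commutator (U K)) {g k : U K} (hk : k ∈ commutator (U K))
    (h : g * k⁻¹ ∈ X) : g ∈ commutator (U K) := by
  simpa using mul_mem (hX h) hk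

theorem Z_le : Z K ≤ commutator (U K) := fun g hg => by
  have : g = ⁅xy g.z g.hz, xb (1 : K) sg_one⁆ := by
    ext <;> simp [xy, xb, hg.1, hg.2.1, hg.2.2.1, hg.2.2.2.1, hg.2.2.2.2]
  exact this ▸ cm _ _

theorem Z2_le : Z2 K ≤ commutator (U K) := fun g hg => by
  obtain ⟨t, ht⟩ := exists_Tr (one_ne_zero (α := K)) g.hy
  refine of_div Z_le (cm (xa 1) (xd t)) ?_
  simp [mem_Z, xa, xd, hg.1, hg.2.1, hg.2.2.1, hg.2.2.2, ← ht]

theorem Z3_le : Z3 K ≤ commutator (U K) := fun g hg => by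
  obtain ⟨t, x, y, e⟩ := cr_span g.d
  refine of_div Z2_le (mul_mem (cm (xa 1) (xc x)) (cm (xa t) (xc y))) ?_
  simp [mem_Z2, xa, xc, hg.1, hg.2.1, hg.2.2, e]

theorem Z4_le : Z4 K ≤ commutator (U K) := fun g hg => by
  refine of_div Z3_le (cm (xa g.c) (xb 1 sg_one)) ?_
  simp [mem_Z3, xa, xb, hg.1, hg.2]

theorem aut_Z4 (α : MulAut (U K)) {x : U K} (hx : x ∈ Z4 K) : α x ∈ Z4 K := by
  have h1 : commutator (U K) ≤ Z4 K := Subgroup.commutator_le.2 fun g _ h _ => comm_mem_Z4 g h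
  exact h1 (Subgroup.characteristic_iff_le_comap.1 inferInstance α (Z4_le hx))

/-- the automorphisms keeping `Q1` and `Q2` -/
def St (K : Type u) [Field K] [TF K] : Subgroup (MulAut (U K)) where
  carrier := {α | (∀ x, α x ∈ Q1 K ↔ x ∈ Q1 K) ∧ ∀ x, α x ∈ Q2 K ↔ x ∈ Q2 K}
  one_mem' := ⟨fun _ => Iff.rfl, fun _ => Iff.rfl⟩
  mul_mem' := fun h k => ⟨fun x => (h.1 _).trans (k.1 x), fun x => (h.2 _).trans (k.2 x)⟩
  inv_mem' := fun {α} h => ⟨fun x => by rw [← h.1, MulAut.apply_inv_self], fun x => by rw [← h.2, MulAut.apply_inv_self]⟩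

theorem act_St (h : Par K) : act h ∈ St K := ⟨act_Q1 h, act_Q2 h⟩

variable {α : MulAut (U K)}

theorem aut_Z2 (h : α ∈ St K) {x : U K} (hx : x ∈ Z2 K) : α x ∈ Z2 K := by
  have k : ∀ g ∈ Q2 K, ⁅g, α x⁆ = 1 := fun g hg => by
    rw [← MulAut.apply_inv_self _ α g, ← map_commutatorElement, comm_Q2_Z2 (((inv_mem h).2 g).2 hg) hx, map_one]
  obtain ⟨e1, e2⟩ := aut_Z4 α (Z3_le_Z4 (Z2_le_Z3 hx))
  have e3 : (α x).c = 0 := Tr_nondeg fun t => by simpa [xd, e1, e2, mul_comm] using congrArg U.z (k (xd t) rfl)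
  exact ⟨e1, e2, e3, Tr_nondeg fun t => by simpa [xa, e2, e3, mul_comm] using congrArg U.y (k (xa t) rfl)⟩

theorem aut_Z3 (h : α ∈ St K) {x : U K} (hx : x ∈ Z3 K) : α x ∈ Z3 K := by
  obtain ⟨e1, e2⟩ := aut_Z4 α (Z3_le_Z4 hx)
  refine ⟨e1, e2, sg_eq_zero.1 (dedekind (r0 := 0) (r1 := sg (sg (α x).c)) fun t => ?_).2.2⟩
  have := (aut_Z2 h (comm_mem_Z2 (α⁻¹ (xa t)) hx)).2.2.2
  rw [map_commutatorElement, MulAut.apply_inv_self] at this
  simp only [comm_d, xa, e1, e2, cr, sg_zero, sh_zero] at this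
  linear_combination this

theorem fa (h : α ∈ St K) (x : U K) : (α x).a = (α (xa x.a)).a := by
  have : (α ((xa x.a)⁻¹ * x)).a = 0 := (h.1 _).2 (by simp [mem_Q1, xa])
  rw [map_mul, map_inv, mul_a, inv_a] at this
  linear_combination this

theorem fb (h : α ∈ St K) (x : U K) : (α x).b = (α (xb x.b x.hb)).b := by
  have : (α ((xb x.b x.hb)⁻¹ * x)).b = 0 := (h.2 _).2 (by simp [mem_Q2, xb])
  rw [map_mul, map_inv, mul_b, inv_b] at this
  linear_combination this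

theorem fc (h : α ∈ St K) {x : U K} (hx : x ∈ Z4 K) : (α x).c = (α (xc x.c)).c := by
  have := (aut_Z3 h (x := (xc x.c)⁻¹ * x) (by simp [mem_Z3, xc, hx.1, hx.2])).2.2
  rw [map_mul, map_inv, mul_c, inv_c, inv_a, (aut_Z4 α (x := xc x.c) ⟨rfl, rfl⟩).1] at this
  linear_combination this

theorem fd (h : α ∈ St K) {x : U K} (hx : x ∈ Z4 K) : (α x).d = (α (xc x.c)).d + (α (xd x.d)).d := by
  have := (aut_Z2 h (x := (xc x.c * xd x.d)⁻¹ * x) (by simp [mem_Z2, xc, xd, hx.1, hx.2])).2.2.2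
  have e1 := (aut_Z4 α (x := xc x.c) ⟨rfl, rfl⟩).1
  have e2 := (aut_Z4 α (x := xd x.d) ⟨rfl, rfl⟩).1
  simp only [map_mul, map_inv, mul_d, inv_d, inv_a, mul_a, e1, e2, add_zero, neg_zero, cr_zero_r, sh_zero,
    mul_zero] at this
  linear_combination this

theorem a_add (h : α ∈ St K) (s t : K) : (α (xa (s + t))).a = (α (xa s)).a + (α (xa t)).a := by
  rw [← mul_a, ← map_mul]; exact (fa h (xa s * xa t)).symm

theorem a_ne (h : α ∈ St K) : (α (xa 1)).a ≠ 0 := fun k => one_ne_zero ((h.1 _).1 k)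

theorem b_ne (h : α ∈ St K) : (α (xb 1 sg_one)).b ≠ 0 := fun k => one_ne_zero ((h.2 _).1 k)

theorem rel1 (h : α ∈ St K) (s b : K) (hb : sg b = b) : (α (xc (b * s))).c = (α (xb b hb)).b * (α (xa s)).a := by
  have := fc h (comm_mem_Z4 (xa s) (xb b hb))
  rw [map_commutatorElement, comm_c, comm_c, show (α (xa s)).b = 0 from (h.2 _).2 rfl] at this
  simpa [xa, xb] using this.symm

theorem xc0 : (xc 0 : U K) = 1 := rfl

theorem rel2 (h : α ∈ St K) (s c : K) : (α (xd (cr c s))).d = cr (α (xc c)).c (α (xa s)).a := by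
  have := fd h (comm_mem_Z4 (xa s) (xc c))
  obtain ⟨e1, e2⟩ := aut_Z4 α (x := xc c) ⟨rfl, rfl⟩
  rw [map_commutatorElement, comm_d, comm_d, comm_c, e1, e2] at this
  simp only [show (xc c : U K).b = 0 from rfl, show (xc c : U K).a = 0 from rfl, show (xc c : U K).c = c from rfl,
    show (xa s : U K).a = s from rfl, zero_mul, mul_zero, sub_zero, xc0, map_one, one_d, cr_zero_r, sh_zero, add_zero,
    zero_add] at this
  exact this.symm

theorem rel3 (h : α ∈ St K) (s b : K) (hb : sg b = b) : (α (xc (b * s))).d + (α (xd (b * sh s))).d =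
    cr (α (xb b hb)).c (α (xa s)).a + (α (xb b hb)).b * sh (α (xa s)).a := by
  have := fd h (comm_mem_Z4 (xa s) (xb b hb))
  rw [map_commutatorElement, comm_d, comm_d, comm_c, show (α (xb b hb)).a = 0 from (h.1 _).2 rfl] at this
  simpa [xa, xb] using this.symm

theorem d_add (h : α ∈ St K) (s t : K) : (α (xd (s + t))).d = (α (xd s)).d + (α (xd t)).d := by
  have := fd h (x := xd s * xd t) ⟨by simp [xd], by simp [xd]⟩
  rw [map_mul, mul_d, (aut_Z4 α (x := xd s) ⟨rfl, rfl⟩).1] at this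
  simp only [mul_c, mul_d, show ∀ s : K, (xd s : U K).c = 0 from fun _ => rfl,
    show ∀ s : K, (xd s : U K).a = 0 from fun _ => rfl, show ∀ s : K, (xd s : U K).d = s from fun _ => rfl, mul_zero,
    add_zero, zero_add, cr_zero_r, sh_zero, xc0, map_one, one_d] at this
  exact this.symm

theorem a_semi (h : α ∈ St K) (s b : K) (hb : sg b = b) :
    (α (xb 1 sg_one)).b * (α (xa (b * s))).a = (α (xb b hb)).b * (α (xa s)).a := by
  rw [← rel1 h, ← rel1 h, one_mul]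

/-- the linear case -/
theorem lin (h : α ∈ St K) {l : K} (hl : sg l = l) (l0 : l ≠ 0) (l1 : l ≠ 1)
    (hb : ∀ b k, (α (xb b k)).b = (α (xb 1 sg_one)).b * b) :
    ∃ (r : K) (τ : K ≃+* K), (∀ b, sg b = b → τ b = b) ∧ ∀ x, (α (xa x)).a = r * τ x := by
  obtain ⟨t, ht⟩ := exists_ne K
  set m := (α (xb 1 sg_one)).b with hm
  have m0 : m ≠ 0 := b_ne h
  have fm : sg m = m := U.hb _
  have a2 : ∀ b s, sg b = b → (α (xa (b * s))).a = b * (α (xa s)).a := fun b s k =>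
    mul_left_cancel₀ m0 (by rw [hm, a_semi h s b k, hb, mul_assoc])
  have c1 : ∀ s, (α (xc s)).c = m * (α (xa s)).a := fun s => by rw [← rel1 h, one_mul]
  have d2 : ∀ b s, sg b = b → (α (xd (b * s))).d = b * (α (xd s)).d := fun b s k => by
    obtain ⟨t, x, y, rfl⟩ := cr_span s
    rw [mul_add, ← cr_smul k, ← cr_smul k, d_add h, d_add h, rel2 h, rel2 h, rel2 h, rel2 h, a2 _ _ k, a2 _ _ k,
      cr_smul k, cr_smul k, mul_add]
  have shl : ∀ s, sh (l * s) = l * l * sh s := fun s => by simp only [sh, sg_mul, hl]; ring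
  have E : ∀ s, (l * l - l) * ((α (xd (sh s))).d - m * sh (α (xa s)).a) =
      l * cr (α (xb 1 sg_one)).c (α (xa s)).a - cr (α (xb l hl)).c (α (xa s)).a := fun s => by
    have e1 := rel3 h (l * s) 1 sg_one
    have e2 := rel3 h s l hl
    rw [one_mul, one_mul, shl, d2 _ _ (by simp [hl]), a2 _ _ hl, cr_smul hl, shl, ← hm] at e1
    rw [d2 _ _ hl, hb] at e2
    linear_combination e1 - e2
  refine AUa.mono (σ := TF.s) TF.s3 ht (D := fun d => (α (xd d)).d) (a_add h) a2 (d_add h) d2 m0 fun s => ?_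
  have e1 := E s
  have e2 := E (l * s)
  rw [shl, d2 _ _ (by simp [hl]), a2 _ _ hl, cr_smul hl, cr_smul hl, shl] at e2
  have n : (l * l - l) * (l * l - l) ≠ 0 := mul_self_ne_zero.2 fun k =>
    mul_ne_zero l0 (sub_ne_zero.2 l1) (by linear_combination k)
  exact sub_eq_zero.1 ((mul_eq_zero.1 (show (l * l - l) * (l * l - l) * ((α (xd (sh s))).d - m * sh (α (xa s)).a) = 0 by
    linear_combination e2 - l * e1)).resolve_left n)

theorem au1 (p : ℕ) [Fact p.Prime] [CharP K p] (h : α ∈ St K) {l : K} (hl : sg l = l) (l0 : l ≠ 0) (l1 : l ≠ 1) :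
    ∃ k : Par K, ∀ x, (α x).a = (act k x).a ∧ (α x).b = (act k x).b := by
  let F : Subfield K := RingHom.eqLocusField (TF.s : K ≃+* K).toRingHom (RingHom.id K)
  have m0 := b_ne h
  have a0 := a_ne h
  set m := (α (xb 1 sg_one)).b with hm
  have fm : sg m = m := U.hb _
  let β : F →+* F :=
    { toFun := fun b => ⟨(α (xb b.1 b.2)).b / m, show sg _ = _ by rw [sg_div, U.hb, fm]; rfl⟩
      map_one' := Subtype.ext (div_self m0)
      map_mul' := fun b c => Subtype.ext (by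
        have e1 := a_semi h 1 _ (b * c).2
        have e2 := a_semi h (c.1 * 1) _ b.2
        have e3 := a_semi h 1 _ c.2
        rw [← mul_assoc] at e2
        show (α (xb (b * c).1 _)).b / m = (α (xb b.1 _)).b / m * ((α (xb c.1 _)).b / m)
        field_simp
        refine mul_right_cancel₀ a0 ?_
        erw [e1] at e2
        linear_combination m * e2 + (α (xb b.1 b.2)).b * e3)
      map_zero' := Subtype.ext (by
        show (α (xb 0 sg_zero)).b / m = 0
        rw [show (α (xb 0 sg_zero)).b = 0 from (h.2 _).2 rfl, zero_div])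
      map_add' := fun b c => Subtype.ext (by
        show (α (xb (b + c).1 _)).b / m = (α (xb b.1 _)).b / m + (α (xb c.1 _)).b / m
        rw [← add_div, ← mul_b, ← map_mul, fb h (xb b.1 b.2 * xb c.1 c.2)]
        rfl) }
  obtain ⟨γ, hγ⟩ := AUa.extend p F β
  have hb : ∀ x, (α x).b = m * γ x.b := fun x => by
    rw [fb h, hγ ⟨x.b, x.hb⟩]
    exact (mul_div_cancel₀ _ m0).symm
  let k : Par K := ⟨1, 1, γ, sg_one⟩
  have h' := mul_mem h (inv_mem (act_St k))
  have hb' : ∀ x, ((α * (act k)⁻¹) x).b = m * x.b := fun x => by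
    have := act_b k ((act k)⁻¹ x)
    rw [MulAut.apply_inv_self] at this
    rw [MulAut.mul_apply, hb, this]
    simp [k]
  obtain ⟨r, τ, e1, e2⟩ := lin h' hl l0 l1 fun b k => by rw [hb', hb']; simp [xb]
  have r0 : r ≠ 0 := fun k => a_ne h' (by rw [e2, k, zero_mul])
  refine ⟨⟨Units.mk0 r r0, Units.mk0 m m0, γ.trans τ, fm⟩, fun x => ⟨?_, ?_⟩⟩
  · have := fa h' (act k x)
    rw [e2, MulAut.mul_apply, MulAut.inv_apply_self] at this
    simpa [k] using this
  · rw [hb, ← e1 _ (sg_map γ x.hb)]; rfl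

/-- the automorphisms that are trivial modulo `Z4` -/
def C0 (K : Type u) [Field K] [TF K] : Subgroup (MulAut (U K)) where
  carrier := {α | ∀ x, (α x).a = x.a ∧ (α x).b = x.b}
  one_mem' := fun _ => ⟨rfl, rfl⟩
  mul_mem' := fun {α β} h1 h2 x => ⟨(h1 _).1.trans (h2 x).1, (h1 _).2.trans (h2 x).2⟩
  inv_mem' := fun {α} h x => by
    have := h (α⁻¹ x)
    rw [MulAut.apply_inv_self] at this
    exact ⟨this.1.symm, this.2.symm⟩

theorem mem_C0 : α ∈ C0 K ↔ ∀ x, x⁻¹ * α x ∈ Z4 K :=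
  forall_congr' fun x => by
    simp only [mem_Z4, mul_a, mul_b, inv_a, inv_b, neg_add_eq_zero]
    exact ⟨fun h => ⟨h.1.symm, h.2.symm⟩, fun h => ⟨h.1.symm, h.2.symm⟩⟩

instance : (C0 K).Normal := ⟨fun α h β => mem_C0.2 fun x => by
  have := aut_Z4 β (mem_C0.1 h (β⁻¹ x))
  rwa [map_mul, map_inv, MulAut.apply_inv_self] at this⟩

theorem C0_pg (p : ℕ) [hp : Fact p.Prime] [CharP K p] : IsPGroup p (C0 K) := fun α => by
  refine ⟨(orderOf (α : MulAut (U K))).factorization p, Subtype.ext ?_⟩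
  have h0 := (orderOf_pos (α : MulAut (U K))).ne'
  refine mulAut_eq_one_of_comm_comm_frattini (pg p) (C := ⊤) ?_ (fun _ _ => trivial) (fun _ => trivial)
    fun x _ => CL.Grp.commutator_le_frattini (pg p) (Z4_le (mem_C0.1 (Subtype.property _) x))
  rw [Subgroup.coe_pow, orderOf_pow_of_dvd (pow_ne_zero _ hp.out.ne_zero) (Nat.ordProj_dvd _ _)]
  exact (Nat.coprime_ordCompl hp.out h0).symm

theorem conj_mem (s : U K) : MulAut.conj s ∈ C0 K := fun x => ⟨conj_a s x, conj_b s x⟩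

theorem act_eq_one {h : Par K} (k : act h ∈ C0 K) : h = 1 := by
  have e1 : ∀ s : K, h.l * h.γ s = s := fun s => (k (xa s)).1
  have e2 : h.m * h.γ 1 = 1 := (k (xb 1 sg_one)).2
  have e3 : (h.l : K) = 1 := by simpa using e1 1
  exact par_ext e3 (by simpa using e2) fun x => by simpa [e3] using e1 x

theorem act_inj : Function.Injective (act : Par K →* MulAut (U K)) :=
  (injective_iff_map_eq_one _).2 fun _ hk => act_eq_one (hk ▸ one_mem _)

instance inn_normal : (MulAut.conj : U K →* MulAut (U K)).range.Normal := ⟨by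
  rintro _ ⟨s, rfl⟩ β
  exact ⟨β s, MulEquiv.ext fun x => by simp⟩⟩

theorem core (p : ℕ) [hp : Fact p.Prime] [CharP K p] (A0 : Subgroup (MulAut (U K))) (inn : ∀ s, MulAut.conj s ∈ A0)
    (hnd : ¬ p ∣ (MulAut.conj : U K →* MulAut (U K)).range.relIndex A0)
    (h : ∀ α ∈ A0, ∃ k : Par K, ∀ x, (α x).a = (act k x).a ∧ (α x).b = (act k x).b) :
    ∃ (β : MulAut (U K)) (H : Subgroup (Par K)), ¬ p ∣ Nat.card H ∧ Std (A0.map (MulAut.conj β).toMonoidHom) H := by
  have cop : ∀ {X : Subgroup (MulAut (U K))} {n : ℕ}, IsPGroup p X → ¬ p ∣ n → (Nat.card X).Coprime n :=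
    fun h hn => by
      obtain ⟨k, e⟩ := IsPGroup.iff_card.1 h
      exact e ▸ ((hp.out.coprime_iff_not_dvd).2 hn).pow_left k
  have pinn : IsPGroup p (MulAut.conj : U K →* MulAut (U K)).range :=
    (C0_pg p).to_le (by rintro _ ⟨s, rfl⟩; exact conj_mem s)
  obtain ⟨H, hA, h1, h2⟩ := CL.Grp.hall_exists_compl_in (L := A0) (by rintro _ ⟨s, rfl⟩; exact inn s) (cop pinn hnd)
  have hs : C0 K ⊔ H = C0 K ⊔ (act.range ⊓ (C0 K ⊔ H)) := by
    refine le_antisymm (sup_le le_sup_left fun α hα => ?_) (sup_le le_sup_left inf_le_right)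
    obtain ⟨k, hk⟩ := h α (hA hα)
    have hc : α * (act k)⁻¹ ∈ C0 K := fun x => by
      have := hk ((act k)⁻¹ x)
      rwa [MulAut.apply_inv_self] at this
    rw [show α = α * (act k)⁻¹ * act k by simp]
    refine Subgroup.mul_mem_sup hc ⟨⟨k, rfl⟩, ?_⟩
    rw [show act k = (α * (act k)⁻¹)⁻¹ * α by simp]
    exact Subgroup.mul_mem_sup (inv_mem hc) hα
  have hbot : (act.range ⊓ (C0 K ⊔ H)) ⊓ C0 K = ⊥ := eq_bot_iff.2 (by
    rintro _ ⟨⟨⟨k, rfl⟩, -⟩, hk⟩
    rw [act_eq_one hk, map_one]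
    exact one_mem _)
  have hK : ¬ p ∣ Nat.card (act.range ⊓ (C0 K ⊔ H) : Subgroup (MulAut (U K))) := fun hd => by
    have e1 := CL.Grp.card_sup_mul_card_inf_of_normal (act.range ⊓ (C0 K ⊔ H)) (C0 K)
    have e2 := CL.Grp.card_sup_mul_card_inf_of_normal H (C0 K)
    rw [hbot, Subgroup.card_bot, mul_one, sup_comm, ← hs] at e1
    rw [sup_comm, e1] at e2
    exact hnd (h1 ▸ hd.trans (Nat.dvd_of_mul_dvd_mul_right Nat.card_pos ⟨_, e2.symm⟩))
  obtain ⟨β, -, e⟩ := CL.Grp.schurZassenhaus_conj_of_sup_eq (N := C0 K) (H := H) (K := act.range ⊓ (C0 K ⊔ H))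
    Subgroup.le_normalizer_of_normal (cop (C0_pg p) (h1 ▸ hnd)) (cop (C0_pg p) hK) hs
    (.inl (have := (C0_pg (K := K) p).isNilpotent; inferInstance))
  refine ⟨β, (act.range ⊓ (C0 K ⊔ H)).comap act,
    fun hd => hK (hd.trans (Subgroup.card_comap_dvd_of_injective _ _ act_inj)), fun α => ⟨?_, ?_⟩⟩
  · rintro ⟨a, ha, rfl⟩
    obtain ⟨_, ⟨s, rfl⟩, k, hk, rfl⟩ := (CL.Grp.mem_sup_iff_of_le_normalizer Subgroup.le_normalizer_of_normal).1
      (((sup_comm _ _).trans h2).ge ha)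
    have h3 : β * k * β⁻¹ ∈ act.range ⊓ (C0 K ⊔ H) := e.le (Subgroup.smul_mem_pointwise_smul _ _ _ hk)
    obtain ⟨r, hr⟩ := h3.1
    refine ⟨β s, r, show act r ∈ _ from hr ▸ h3, ?_⟩
    rw [hr]
    exact MulEquiv.ext fun x => by simp
  · rintro ⟨s, r, hr, rfl⟩
    obtain ⟨k, hk, e2⟩ := (Subgroup.mem_smul_pointwise_iff_exists _ _ _).1 (e.ge hr)
    refine ⟨MulAut.conj (β⁻¹ s) * k, mul_mem (inn _) (hA hk), ?_⟩
    rw [← e2]
    exact MulEquiv.ext fun x => by simp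

theorem card8 (h : ∀ l : K, sg l = l → l ≠ 0 → l = 1) : Nat.card K = 8 := by
  have := Fintype.ofFinite K
  have q2 := two_le_q (K := K)
  obtain ⟨g, hg⟩ := IsCyclic.exists_ofOrder_eq_natCard (α := Kˣ)
  have e : g ^ (1 + TF.q K + TF.q K * TF.q K) = 1 := by
    have := h _ (sg_Nr (g : K)) (by simp)
    rw [Nr, sg_eq_pow, sg_eq_pow, ← pow_mul, ← pow_one (g : K), ← pow_mul, ← pow_mul, one_mul, one_mul, ← pow_add,
      ← pow_add] at this
    exact Units.ext (by simpa using this)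
  have k := Nat.le_of_dvd (by omega) (orderOf_dvd_of_pow_eq_one e)
  rw [hg, Nat.card_units, card_K] at k
  rw [card_K]
  rcases q2.eq_or_lt with q | q
  · rw [← q]; rfl
  · have h1 : TF.q K * TF.q K * 3 ≤ TF.q K ^ 3 := by rw [pow_succ, pow_two]; exact Nat.mul_le_mul_left _ q
    have h2 : TF.q K * 3 ≤ TF.q K * TF.q K := Nat.mul_le_mul_left _ q
    omega

/-- the action on `U / Q1` -/
def rho (K : Type u) [Field K] [TF K] : St K →* Equiv.Perm K := MonoidHom.toHomPerm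
  { toFun := fun α s => (α.1 (xa s)).a
    map_one' := rfl
    map_mul' := fun α β => funext fun s => fa α.2 (β.1 (xa s)) }

theorem rho_apply (α : St K) (s : K) : rho K α s = (α.1 (xa s)).a := rfl

theorem main (p : ℕ) [hp : Fact p.Prime] [CharP K p] (A0 : Subgroup (MulAut (U K))) (inn : ∀ s, MulAut.conj s ∈ A0)
    (hnd : ¬ p ∣ (MulAut.conj : U K →* MulAut (U K)).range.relIndex A0)
    (hq : ∀ α ∈ A0, (∀ x, α x ∈ Q1 K ↔ x ∈ Q1 K) ∧ ∀ x, α x ∈ Q2 K ↔ x ∈ Q2 K) :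
    ∃ (β : MulAut (U K)) (H : Subgroup (Par K)), ¬ p ∣ Nat.card H ∧ Std (A0.map (MulAut.conj β).toMonoidHom) H := by
  by_cases h : ∃ l : K, sg l = l ∧ l ≠ 0 ∧ l ≠ 1
  · obtain ⟨l, hl, l0, l1⟩ := h
    exact core p A0 inn hnd fun α hα => au1 p (hq α hα) hl l0 l1
  push Not at h
  obtain rfl : p = 2 := (Nat.prime_dvd_prime_iff_eq hp.out Nat.prime_two).1 ((CharP.cast_eq_zero_iff K p 2).1 (by
    have := h (-1) (by simp) (by simp)
    push_cast; linear_combination -this))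
  obtain ⟨t, ht⟩ := exists_ne K
  have hA : A0 ≤ St K := hq
  obtain ⟨_, ⟨g, rfl⟩, k⟩ := AUa.eight (card8 h) (σ := TF.s) TF.s3 ht (X := (rho K).range)
    (H := (A0.subgroupOf (St K)).map (rho K)) (by rintro _ ⟨α, rfl⟩; exact a_add α.2)
    (fun l => ⟨⟨_, act_St ⟨l, 1, 1, sg_one⟩⟩, Equiv.ext fun s => rfl⟩)
    ⟨⟨_, act_St ⟨1, 1, TF.s, sg_one⟩⟩, Equiv.ext fun s => one_mul _⟩ (Subgroup.map_le_range _ _) fun k => hnd (by
      rw [← Subgroup.relIndex_ker] at k
      rw [← Subgroup.relIndex_subgroupOf hA]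
      refine k.trans (Subgroup.relIndex_dvd_of_le_left _ ?_)
      rintro α ⟨s, e⟩
      exact Equiv.ext fun x => by rw [rho_apply, show α.1 = _ from e.symm]; exact conj_a s _)
  obtain ⟨β, H, h1, h2⟩ := core 2 (A0.map (MulAut.conj g.1).toMonoidHom)
    (fun s => ⟨_, inn (g.1⁻¹ s), MulEquiv.ext fun x => by simp⟩) (by
      rwa [← (inn_normal (K := K)).conj_smul_eq_self g.1, CL.Grp.conj_smul_eq_map,
        Subgroup.relIndex_map_map_of_injective _ _ (MulAut.conj g.1).injective]) (by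
      rintro _ ⟨α, hα, rfl⟩
      obtain ⟨l, τ, e⟩ := k _ ⟨⟨α, hA hα⟩, hα, rfl⟩
      rw [← map_inv, ← map_mul, ← map_mul] at e
      have m := (g * ⟨α, hA hα⟩ * g⁻¹).2
      have l0 : l ≠ 0 := fun z => a_ne m ((e 1).trans (by rw [z, zero_mul]))
      refine ⟨⟨Units.mk0 l l0, 1, τ, sg_one⟩, fun x => ⟨(fa m x).trans (e _), ?_⟩⟩
      show _ = 1 * τ x.b
      by_cases b : x.b = 0
      · rw [b, map_zero, mul_zero]; exact (m.2 x).2 b
      · rw [h _ x.hb b, map_one, mul_one]; exact h _ (U.hb _) fun z => b ((m.2 x).1 z))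
  refine ⟨β * g.1, H, h1, ?_⟩
  rw [Subgroup.map_map] at h2
  rwa [map_mul]

end AUb

theorem au2 : AU2 K := fun p _ _ => AUb.main p

end CL.TD
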