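/-
Project TD: more about the cubic extension.
-/
import Cfsg.Agent.TD.DefsQ

set_option autoImplicit false
set_option linter.unusedSectionVars false

namespace CL.TD

open Cfsg CL.Fus CL.U5

universe u

variable {K : Type u} [Field K] [TF K]

theorem Nr_eq_pow (x : K) : Nr x = x ^ (TF.q K ^ 2 + TF.q K + 1) := by
  simp only [Nr, sg_eq_pow]; ring

theorem Nr_fix {x : K} (h : sg x = x) : Nr x = x ^ 3 := by simp only [Nr, h]; ring

/-- the norm is onto the fixed field -/
theorem exists_Nr {s : K} (hs : sg s = s) : ∃ l, Nr l = s := by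
  by_cases h0 : s = 0
  · exact ⟨0, by simp [h0]⟩
  have q2 := two_le_q (K := K)
  let X : Subgroup Kˣ :=
    { carrier := {v | sg (v : K) = v}
      mul_mem' := fun {a b} (ha : sg (a : K) = a) (hb : sg (b : K) = b) => show sg (a * b : K) = a * b by rw [sg_mul, ha, hb]
      one_mem' := sg_one
      inv_mem' := fun {a} (ha : sg (a : K) = a) => show sg ((a⁻¹ : Kˣ) : K) = (a⁻¹ : Kˣ) by simp [ha] }
  have h1 : (powMonoidHom (TF.q K ^ 2 + TF.q K + 1) : Kˣ →* Kˣ).range ≤ X := by
    rintro _ ⟨l, rfl⟩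
    show sg ((l ^ _ : Kˣ) : K) = (l ^ _ : Kˣ)
    rw [Units.val_pow_eq_pow_val, ← Nr_eq_pow, sg_Nr]
  have h2 : Nat.card X < TF.q K := by
    rw [← card_fix K]
    exact (Nat.card_le_card_of_injective (fun v : X => (⟨⟨v.1.1, v.2⟩, v.1.ne_zero⟩ :
      {x : {x : K // sg x = x} // x.1 ≠ 0})) fun a b e =>
        Subtype.ext (Units.ext (congrArg (fun x => x.1.1) e))).trans_lt
      (Finite.card_subtype_lt (x := ⟨0, sg_zero⟩) (by simp))
  have h3 : Nat.card (powMonoidHom (TF.q K ^ 2 + TF.q K + 1) : Kˣ →* Kˣ).range = TF.q K - 1 := by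
    obtain ⟨r, hr⟩ : ∃ r, TF.q K = r + 1 := ⟨TF.q K - 1, by omega⟩
    have : Nat.card Kˣ = r * (TF.q K ^ 2 + TF.q K + 1) := by
      rw [Nat.card_units, card_K, hr]; exact Nat.sub_eq_of_eq_add (by ring)
    rw [IsCyclic.card_powMonoidHom_range, this, Nat.gcd_mul_left_left, Nat.mul_div_cancel _ (by omega), hr,
      Nat.add_sub_cancel]
  obtain ⟨l, e⟩ := (Subgroup.eq_of_le_of_card_ge h1 (by omega)).ge (show Units.mk0 s h0 ∈ X from hs)
  exact ⟨l, (Nr_eq_pow _).trans (congrArg Units.val e)⟩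

/-- the norm is not additive -/
theorem Nr_not_add {k : K} (h : ∀ s t : K, Nr (s + t) * k = Nr s * k + Nr t * k) : k = 0 := by
  by_contra k0
  have q2 := two_le_q (K := K)
  have := Nat.card_le_card_of_injective (fun s : K => (⟨Nr s, sg_Nr s⟩ : {x : K // sg x = x})) fun s t e => by
    have e' : Nr s = Nr t := congrArg Subtype.val e
    have := h (s - t) t
    rw [sub_add_cancel, e', eq_comm, add_eq_right, mul_eq_zero, Nr_eq_zero] at this
    exact sub_eq_zero.1 (this.resolve_right k0)
  rw [card_fix, card_K, pow_succ', pow_two] at this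
  have := Nat.mul_le_mul_left (TF.q K) (Nat.mul_le_mul q2 q2)
  omega

theorem cr_one_neg {u : K} (h : Tr u = 0) : cr 1 (-u) = u := by
  simp only [cr, Tr, sg_one, sg_neg] at h ⊢; linear_combination -h

theorem cr_nondeg {a : K} (h : ∀ t, cr t a = 0) : a = 0 :=
  sg_eq_zero.1 (dedekind (r0 := 0) (r1 := sg (sg a)) (r2 := sg a) fun t => by
    have := h t; simp only [cr] at this; linear_combination this).2.2

/-- the adjoint is not additive -/
theorem sh_not_add {k : K} (h : ∀ s t : K, sh (s + t) * k = sh s * k + sh t * k) : k = 0 := by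
  by_contra k0
  refine one_ne_zero (cr_nondeg (K := K) fun t => mul_right_cancel₀ k0 ?_)
  have := h t 1
  rw [sh_add] at this
  linear_combination this

/-- every element is a sum of two cross products -/
theorem exists_cr (d : K) : ∃ s t s' t', d = cr s t + cr s' t' := by
  obtain ⟨s, hs⟩ : ∃ s : K, cr s 1 ≠ 0 := by by_contra! h; exact one_ne_zero (cr_nondeg h)
  obtain ⟨t, ht⟩ := exists_Tr hs (sg_Tr d)
  have e : Tr (d - cr s t) = 0 := by
    rw [Tr_sub, ← one_mul (cr s t), Tr_cr, cr_comm 1 s, mul_comm, ht, sub_self]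
  exact ⟨s, t, 1, _, by rw [cr_one_neg e]; ring⟩

theorem Dep.swap {a c : K} (h : Dep (a, c)) : Dep (c, a) := by simp only [Dep] at h ⊢; linear_combination -h

/-- an additive map keeping all lines over the fixed field is a scalar -/
theorem scal (φ : K → K) (add : ∀ x y, φ (x + y) = φ x + φ y) (h : ∀ x, Dep (x, φ x)) :
    ∃ k, sg k = k ∧ ∀ x, φ x = k * x := by
  have k1 : sg (φ 1) = φ 1 := by simpa [Dep] using h 1
  have out : ∀ x, sg x ≠ x → φ x = φ 1 * x := fun x hx => by
    obtain ⟨l, l1, (l2 : φ x = l * x)⟩ := (dep_iff.1 (h x)).resolve_left fun e : x = 0 => hx (by simp [e])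
    obtain ⟨l', l3, (l4 : φ (x + 1) = l' * (x + 1))⟩ := (dep_iff.1 (h (x + 1))).resolve_left fun e : x + 1 = 0 =>
      hx (by simp [eq_neg_of_add_eq_zero_left e])
    rw [add, l2] at l4
    have l5 := congrArg sg l4
    simp only [sg_add, sg_mul, sg_one, l1, l3, k1] at l5
    have e : l = l' := mul_right_cancel₀ (sub_ne_zero.2 hx) (by linear_combination l5 - l4)
    rw [l2, show φ 1 = l by linear_combination l4 - (x + 1) * e]
  refine ⟨φ 1, k1, fun x => ?_⟩
  by_cases hx : sg x = x
  · obtain ⟨t, ht⟩ := exists_ne K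
    have := out (x + t) fun e => ht (by rw [sg_add, hx] at e; exact add_left_cancel e)
    rw [add, out t ht] at this
    linear_combination this
  · exact out x hx

end CL.TD
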