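/-
Project TD: the linear group on `Q1 / Z` and the statements of the parts about it.
-/
import Cfsg.Agent.TD.DefsQ
import Cfsg.Agent.TD.Fld

set_option autoImplicit false
set_option linter.unusedSectionVars false
set_option linter.unusedSimpArgs false

namespace CL.TD

open Cfsg CL.Fus CL.U5
open scoped commutatorElement

universe u

/-- the fixed field -/
def Fx (K : Type u) [Field K] [TF K] : Subfield K where
  carrier := {x | sg x = x}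
  mul_mem' := fun {a b} (ha : sg a = a) (hb : sg b = b) => show sg (a * b) = a * b by rw [sg_mul, ha, hb]
  one_mem' := sg_one
  add_mem' := fun {a b} (ha : sg a = a) (hb : sg b = b) => show sg (a + b) = a + b by rw [sg_add, ha, hb]
  zero_mem' := sg_zero
  neg_mem' := fun {a} (ha : sg a = a) => show sg (-a) = -a by rw [sg_neg, ha]
  inv_mem' := fun a (ha : sg a = a) => show sg a⁻¹ = a⁻¹ by rw [sg_inv, ha]

/-- the space `Q1 / Z` -/
@[ext] structure V8 (K : Type u) [Field K] [TF K] where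
  b : K
  c : K
  d : K
  y : K
  hb : sg b = b
  hy : sg y = y

attribute [simp] V8.hb V8.hy

section Lin
variable {K : Type u} [Field K] [TF K]

theorem mem_Fx {x : K} : x ∈ Fx K ↔ sg x = x := Iff.rfl
@[simp] theorem sg_fx (l : Fx K) : sg (l : K) = l := l.2
theorem card_Fx : Nat.card (Fx K) = TF.q K := card_fix K

/-- the restriction of an automorphism to the fixed field -/
def fxm (γ : K ≃+* K) (l : Fx K) : Fx K := ⟨γ l, sg_map γ l.2⟩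
@[simp] theorem fxm_coe (γ : K ≃+* K) (l : Fx K) : (fxm γ l : K) = γ l := rfl
theorem fxm_surj (γ : K ≃+* K) (l : Fx K) : ∃ l', fxm γ l' = l := ⟨fxm γ.symm l, Subtype.ext (by simp)⟩
theorem fxm_ne (γ : K ≃+* K) {l : Fx K} (h : l ≠ 0) : fxm γ l ≠ 0 := fun e =>
  h (Subtype.ext (by simpa using congrArg Subtype.val e))

instance : Add (V8 K) := ⟨fun u v => ⟨u.b + v.b, u.c + v.c, u.d + v.d, u.y + v.y, by simp, by simp⟩⟩
instance : Zero (V8 K) := ⟨⟨0, 0, 0, 0, by simp, by simp⟩⟩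
instance : Neg (V8 K) := ⟨fun v => ⟨-v.b, -v.c, -v.d, -v.y, by simp, by simp⟩⟩
instance : SMul (Fx K) (V8 K) := ⟨fun l v => ⟨l * v.b, l * v.c, l * v.d, l * v.y, by simp, by simp⟩⟩

@[simp] theorem add_b (u v : V8 K) : (u + v).b = u.b + v.b := rfl
@[simp] theorem add_c (u v : V8 K) : (u + v).c = u.c + v.c := rfl
@[simp] theorem add_d (u v : V8 K) : (u + v).d = u.d + v.d := rfl
@[simp] theorem add_y (u v : V8 K) : (u + v).y = u.y + v.y := rfl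
@[simp] theorem zero_b : (0 : V8 K).b = 0 := rfl
@[simp] theorem zero_c : (0 : V8 K).c = 0 := rfl
@[simp] theorem zero_d : (0 : V8 K).d = 0 := rfl
@[simp] theorem zero_y : (0 : V8 K).y = 0 := rfl
@[simp] theorem neg_b (v : V8 K) : (-v).b = -v.b := rfl
@[simp] theorem neg_c (v : V8 K) : (-v).c = -v.c := rfl
@[simp] theorem neg_d (v : V8 K) : (-v).d = -v.d := rfl
@[simp] theorem neg_y (v : V8 K) : (-v).y = -v.y := rfl
@[simp] theorem smul_b (l : Fx K) (v : V8 K) : (l • v).b = l * v.b := rfl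
@[simp] theorem smul_c (l : Fx K) (v : V8 K) : (l • v).c = l * v.c := rfl
@[simp] theorem smul_d (l : Fx K) (v : V8 K) : (l • v).d = l * v.d := rfl
@[simp] theorem smul_y (l : Fx K) (v : V8 K) : (l • v).y = l * v.y := rfl

instance : AddCommGroup (V8 K) :=
  { AddGroup.ofLeftAxioms (fun u v w => by ext <;> simp [add_assoc]) (fun v => by ext <;> simp)
      (fun v => by ext <;> simp) with add_comm := fun u v => by ext <;> simp [add_comm] }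

@[simp] theorem sub_b (u v : V8 K) : (u - v).b = u.b - v.b := by rw [sub_eq_add_neg, sub_eq_add_neg]; rfl
@[simp] theorem sub_c (u v : V8 K) : (u - v).c = u.c - v.c := by rw [sub_eq_add_neg, sub_eq_add_neg]; rfl
@[simp] theorem sub_d (u v : V8 K) : (u - v).d = u.d - v.d := by rw [sub_eq_add_neg, sub_eq_add_neg]; rfl
@[simp] theorem sub_y (u v : V8 K) : (u - v).y = u.y - v.y := by rw [sub_eq_add_neg, sub_eq_add_neg]; rfl

instance : Module (Fx K) (V8 K) where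
  one_smul v := by ext <;> simp
  mul_smul l m v := by ext <;> simp [mul_assoc]
  smul_zero l := by ext <;> simp
  smul_add l u v := by ext <;> simp [mul_add]
  add_smul l m v := by ext <;> simp [add_mul]
  zero_smul v := by ext <;> simp

instance : Finite (V8 K) := Finite.of_injective (fun g : V8 K => (g.b, g.c, g.d, g.y)) fun g h e => by
  simp only [Prod.mk.injEq] at e; exact V8.ext e.1 e.2.1 e.2.2.1 e.2.2.2

theorem v8_zero_iff {v : V8 K} : v = 0 ↔ v.b = 0 ∧ v.c = 0 ∧ v.d = 0 ∧ v.y = 0 := V8.ext_iff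

def pV (g : U K) : V8 K := ⟨g.b, g.c, g.d, g.y, g.hb, g.hy⟩

/-- the commutator form -/
def om (u v : V8 K) : K := v.b * u.y - u.b * v.y + Tr (u.c * v.d) - Tr (v.c * u.d)
/-- the squaring form in characteristic two -/
def Qf (v : V8 K) : K := v.b * v.y + Tr (v.c * v.d)

@[simp] theorem sg_om (u v : V8 K) : sg (om u v) = om u v := by simp [om]
theorem om_add_l (u u' v : V8 K) : om (u + u') v = om u v + om u' v := by
  simp only [om, add_b, add_c, add_d, add_y, add_mul, mul_add, Tr_add]; ring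
theorem om_add_r (u v v' : V8 K) : om u (v + v') = om u v + om u v' := by
  simp only [om, add_b, add_c, add_d, add_y, add_mul, mul_add, Tr_add]; ring
theorem om_smul_l (l : Fx K) (u v : V8 K) : om (l • u) v = l * om u v := by
  simp only [om, smul_b, smul_c, smul_d, smul_y, Tr, sg_mul, sg_fx]; ring
theorem om_smul_r (l : Fx K) (u v : V8 K) : om u (l • v) = l * om u v := by
  simp only [om, smul_b, smul_c, smul_d, smul_y, Tr, sg_mul, sg_fx]; ring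
theorem om_swap (u v : V8 K) : om v u = -om u v := by simp only [om]; ring
theorem om_self (u : V8 K) : om u u = 0 := by simp only [om]; ring
@[simp] theorem om_zero_l (v : V8 K) : om 0 v = 0 := by simp [om]
@[simp] theorem om_zero_r (v : V8 K) : om v 0 = 0 := by simp [om]
theorem om_neg_l (u v : V8 K) : om (-u) v = -om u v := by
  simp only [om, neg_b, neg_c, neg_d, neg_y, neg_mul, mul_neg, Tr_neg]; ring
theorem om_neg_r (u v : V8 K) : om u (-v) = -om u v := by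
  simp only [om, neg_b, neg_c, neg_d, neg_y, neg_mul, mul_neg, Tr_neg]; ring
theorem om_sub_l (u u' v : V8 K) : om (u - u') v = om u v - om u' v := by
  rw [sub_eq_add_neg, om_add_l, om_neg_l, sub_eq_add_neg]
theorem om_sub_r (u v v' : V8 K) : om u (v - v') = om u v - om u v' := by
  rw [sub_eq_add_neg, om_add_r, om_neg_r, sub_eq_add_neg]
theorem om_nondeg {u : V8 K} (h : ∀ v, om u v = 0) : u = 0 := v8_zero_iff.2
  ⟨by simpa [om] using h ⟨0, 0, 0, 1, by simp, by simp⟩,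
    Tr_nondeg fun t => by simpa [om, mul_comm] using h ⟨0, 0, t, 0, by simp, by simp⟩,
    Tr_nondeg fun t => by simpa [om] using h ⟨0, t, 0, 0, by simp, by simp⟩,
    by simpa [om] using h ⟨1, 0, 0, 0, by simp, by simp⟩⟩

theorem comm_z_Q1 {g h : U K} (k : g ∈ Q1 K) (k' : h ∈ Q1 K) : ⁅g, h⁆.z = om (pV g) (pV h) := by
  simp [om, pV, mem_Q1.1 k, mem_Q1.1 k']
theorem pV_mul {g : U K} (k : g ∈ Q1 K) (h : U K) : pV (g * h) = pV g + pV h := by ext <;> simp [pV, mem_Q1.1 k]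
theorem pV_eq_zero {g : U K} (k : g ∈ Q1 K) : pV g = 0 ↔ g ∈ Z K := by simp [v8_zero_iff, pV, mem_Z, mem_Q1.1 k]
theorem pV_surj (v : V8 K) : ∃ x : Q1 K, pV (x : U K) = v :=
  ⟨⟨⟨0, v.b, v.c, v.d, v.y, 0, v.hb, v.hy, by simp⟩, rfl⟩, rfl⟩

def MtF (a : K) (v : V8 K) : V8 K := ⟨v.b, v.c + v.b * a, v.d + cr v.c a + v.b * sh a,
  v.y + Tr (v.d * a) + Tr (v.c * sh a) + v.b * Nr a, v.hb, by simp⟩

theorem MtF_add (a a' : K) (v : V8 K) : MtF (a + a') v = MtF a (MtF a' v) := by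
  ext <;> simp only [MtF, Tr, sh, Nr, cr, sg_add, sg_mul, sg3, V8.hb] <;> ring
theorem MtF_zero (v : V8 K) : MtF 0 v = v := by ext <;> simp [MtF]

/-- the action of the root elements `xa a` -/
def Mt (a : K) : Au (V8 K) := mkAu (MtF a) (MtF (-a))
  (fun v w => by ext <;> simp only [MtF, add_b, add_c, add_d, add_y, Tr, cr, sg_add, sg_mul] <;> ring)
  (fun v => by rw [← MtF_add, neg_add_cancel, MtF_zero]) (fun v => by rw [← MtF_add, add_neg_cancel, MtF_zero])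

@[simp] theorem Mt_b (a : K) (v : V8 K) : (Mt a v).b = v.b := rfl
@[simp] theorem Mt_c (a : K) (v : V8 K) : (Mt a v).c = v.c + v.b * a := rfl
@[simp] theorem Mt_d (a : K) (v : V8 K) : (Mt a v).d = v.d + cr v.c a + v.b * sh a := rfl
@[simp] theorem Mt_y (a : K) (v : V8 K) : (Mt a v).y = v.y + Tr (v.d * a) + Tr (v.c * sh a) + v.b * Nr a := rfl
theorem Mt_add (a a' : K) : Mt (a + a') = Mt a * Mt a' := au_ext (MtF_add a a')
theorem Mt_zero : Mt (0 : K) = 1 := au_ext MtF_zero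
theorem Mt_inv (a : K) : (Mt a)⁻¹ = Mt (-a) := inv_eq_of_mul_eq_one_right (by rw [← Mt_add, add_neg_cancel, Mt_zero])
theorem Mt_comm (a a' : K) : Commute (Mt a) (Mt a') := by rw [Commute, SemiconjBy, ← Mt_add, ← Mt_add, add_comm]
theorem Mt_inj {a a' : K} (h : Mt a = Mt a') : a = a' := by
  simpa using congrArg (fun g : Au (V8 K) => (g ⟨1, 0, 0, 0, by simp, by simp⟩).c) h
theorem Mt_eq_one {a : K} : Mt a = 1 ↔ a = 0 := ⟨fun h => Mt_inj (h.trans Mt_zero.symm), fun h => h ▸ Mt_zero⟩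
theorem Mt_smul (a : K) (l : Fx K) (v : V8 K) : Mt a (l • v) = l • Mt a v := by
  ext <;> simp only [Mt_b, Mt_c, Mt_d, Mt_y, smul_b, smul_c, smul_d, smul_y, Tr, cr, sg_mul, sg_fx] <;> ring
theorem om_Mt (a : K) (u v : V8 K) : om (Mt a u) (Mt a v) = om u v := by
  simp only [om, Mt_b, Mt_c, Mt_d, Mt_y, Tr, sh, Nr, cr, sg_add, sg_mul, sg3, V8.hb]; ring
theorem om_self_Mt (a : K) (v : V8 K) : om v (Mt a v) = -(v.b ^ 2 * Nr a) - 2 * v.b * Tr (a * v.d) + 2 * Tr (sh v.c * a) := by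
  simp only [om, Mt_b, Mt_c, Mt_d, Mt_y, Tr, sh, Nr, cr, sg_add, sg_mul, sg3, V8.hb]; ring

theorem pV_conj (s : U K) {g : U K} (k : g ∈ Q1 K) : pV (s * g * s⁻¹) = Mt s.a (pV g) := by
  ext <;> simp only [pV, Mt_b, Mt_c, Mt_d, Mt_y, mul_a, mul_b, mul_c, mul_d, mul_y, inv_a, inv_b, inv_c, inv_d, inv_y,
    mem_Q1.1 k, Tr, sh, Nr, cr, sg_add, sg_sub, sg_neg, sg_mul, sg3, sg_zero, U.hb] <;> ring

/-- the image of the Sylow subgroup -/
def TM (K : Type u) [Field K] [TF K] : Subgroup (Au (V8 K)) where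
  carrier := {g | ∃ a, Mt a = g}
  mul_mem' := by rintro _ _ ⟨a, rfl⟩ ⟨a', rfl⟩; exact ⟨_, Mt_add a a'⟩
  one_mem' := ⟨_, Mt_zero⟩
  inv_mem' := by rintro _ ⟨a, rfl⟩; exact ⟨-a, (Mt_inv a).symm⟩

theorem mem_TM {g : Au (V8 K)} : g ∈ TM K ↔ ∃ a, Mt a = g := Iff.rfl
theorem Mt_mem (a : K) : Mt a ∈ TM K := ⟨a, rfl⟩

def rV (K : Type u) [Field K] [TF K] : Au (V8 K) := mkAu (fun v => ⟨-v.y, v.d, -v.c, v.b, by simp, by simp⟩)
  (fun v => ⟨v.y, -v.d, v.c, -v.b, by simp, by simp⟩) (fun v w => by ext <;> simp <;> ring) (fun v => by ext <;> simp)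
  (fun v => by ext <;> simp)

@[simp] theorem rV_b (v : V8 K) : (rV K v).b = -v.y := rfl
@[simp] theorem rV_c (v : V8 K) : (rV K v).c = v.d := rfl
@[simp] theorem rV_d (v : V8 K) : (rV K v).d = -v.c := rfl
@[simp] theorem rV_y (v : V8 K) : (rV K v).y = v.b := rfl
@[simp] theorem rVi_b (v : V8 K) : ((rV K)⁻¹ v).b = v.y := rfl
@[simp] theorem rVi_c (v : V8 K) : ((rV K)⁻¹ v).c = -v.d := rfl
@[simp] theorem rVi_d (v : V8 K) : ((rV K)⁻¹ v).d = v.c := rfl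
@[simp] theorem rVi_y (v : V8 K) : ((rV K)⁻¹ v).y = -v.b := rfl
theorem pV_r1 (g : Q1 K) : pV (r1 K g : U K) = rV K (pV g) := rfl
theorem om_rV (u v : V8 K) : om (rV K u) (rV K v) = om u v := by
  simp only [om, rV_b, rV_c, rV_d, rV_y, Tr, sg_mul, sg_neg]; ring

def actVF (h : Par K) (v : V8 K) : V8 K := ⟨h.m * h.γ v.b, h.l * h.m * h.γ v.c, sh (h.l : K) * h.m * h.γ v.d,
  Nr (h.l : K) * h.m * h.γ v.y, by simp [sg_map h.γ v.hb], by simp [sg_map h.γ v.hy]⟩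

theorem actVF_mul (h k : Par K) (v : V8 K) : actVF (h * k) v = actVF h (actVF k v) := by
  ext <;> simp only [actVF, par_mul_l, par_mul_m, par_mul_γ, map_mul, map_sh, map_Nr, sh_mul, Nr_mul] <;> ring
theorem actVF_one (v : V8 K) : actVF 1 v = v := by ext <;> simp [actVF]

/-- the diagonal and field automorphisms -/
def actV : Par K →* Au (V8 K) := MonoidHom.mk' (fun h => mkAu (actVF h) (actVF h⁻¹)
  (fun v w => by ext <;> simp [actVF, mul_add]) (fun v => by rw [← actVF_mul, inv_mul_cancel, actVF_one])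
  (fun v => by rw [← actVF_mul, mul_inv_cancel, actVF_one])) fun h k => au_ext (actVF_mul h k)

@[simp] theorem actV_b (h : Par K) (v : V8 K) : (actV h v).b = h.m * h.γ v.b := rfl
@[simp] theorem actV_c (h : Par K) (v : V8 K) : (actV h v).c = h.l * h.m * h.γ v.c := rfl
@[simp] theorem actV_d (h : Par K) (v : V8 K) : (actV h v).d = sh (h.l : K) * h.m * h.γ v.d := rfl
@[simp] theorem actV_y (h : Par K) (v : V8 K) : (actV h v).y = Nr (h.l : K) * h.m * h.γ v.y := rfl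
theorem pV_act (h : Par K) (g : U K) : pV (act h g) = actV h (pV g) := rfl
theorem actV_smul (h : Par K) (l : Fx K) (v : V8 K) : actV h (l • v) = fxm h.γ l • actV h v := by
  ext <;> simp <;> ring
theorem om_actV (h : Par K) (u v : V8 K) : om (actV h u) (actV h v) = Nr (h.l : K) * h.m ^ 2 * h.γ (om u v) := by
  simp only [om, actV_b, actV_c, actV_d, actV_y, map_add, map_sub, map_mul, map_sg, Tr, sh, Nr, sg_mul, sg3, h.hm]; ring
theorem actV_Mt (h : Par K) (a : K) : actV h * Mt a = Mt (h.l * h.γ a) * actV h := au_ext fun v => by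
  ext <;> simp only [au_mul, actV_b, actV_c, actV_d, actV_y, Mt_b, Mt_c, Mt_d, Mt_y, map_add, map_mul, map_sg, Tr, sh, Nr,
    cr, sg_mul, sg3, h.hm] <;> ring

/-- the involution `diag (1, -1, 1, -1)` -/
def hm (K : Type u) [Field K] [TF K] : Au (V8 K) := actV (hb (-1) (by simp))

@[simp] theorem hm_b (v : V8 K) : (hm K v).b = v.b := by simp [hm]
@[simp] theorem hm_c (v : V8 K) : (hm K v).c = -v.c := by simp [hm]
@[simp] theorem hm_d (v : V8 K) : (hm K v).d = v.d := by simp [hm]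
@[simp] theorem hm_y (v : V8 K) : (hm K v).y = -v.y := by simp [hm]
theorem hm_hm : hm K * hm K = 1 := au_ext fun v => by ext <;> simp [au_mul]
theorem hm_Mt (a : K) : hm K * Mt a = Mt (-a) * hm K := by rw [hm, actV_Mt]; simp
theorem om_hm (u v : V8 K) : om (hm K u) (hm K v) = -om u v := by rw [hm, om_actV]; simp
theorem hm_smul (l : Fx K) (v : V8 K) : hm K (l • v) = l • hm K v := by ext <;> simp
theorem hb_apply (v : Kˣ) (hv : sg (v : K) = v) (w : V8 K) : (actV (hb v hv) w).b = v ^ 2 * w.b ∧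
    (actV (hb v hv) w).c = v * w.c ∧ (actV (hb v hv) w).d = w.d ∧ (actV (hb v hv) w).y = (v : K)⁻¹ * w.y := by
  have := v.ne_zero
  simp only [actV_b, actV_c, actV_d, actV_y, hb_l, hb_m, hb_γ, sh, Nr, sg_inv, hv]
  refine ⟨trivial, ?_, ?_, ?_⟩ <;> field_simp

/-- the vectors `(0,0,0,1)`, `(0,A,0,β)`, `(0,0,B,0)`, `(1,0,B,β)` -/
def cv : V8 K := ⟨0, 0, 0, 1, by simp, by simp⟩
def nv (A : K) (β : Fx K) : V8 K := ⟨0, A, 0, β, by simp, β.2⟩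
def dv (B : K) : V8 K := ⟨0, 0, B, 0, by simp, by simp⟩
def fv (B : K) (β : Fx K) : V8 K := ⟨1, 0, B, β, by simp, β.2⟩

@[simp] theorem cv_b : (cv : V8 K).b = 0 := rfl
@[simp] theorem cv_c : (cv : V8 K).c = 0 := rfl
@[simp] theorem cv_d : (cv : V8 K).d = 0 := rfl
@[simp] theorem cv_y : (cv : V8 K).y = 1 := rfl
@[simp] theorem nv_b (A : K) (β : Fx K) : (nv A β).b = 0 := rfl
@[simp] theorem nv_c (A : K) (β : Fx K) : (nv A β).c = A := rfl
@[simp] theorem nv_d (A : K) (β : Fx K) : (nv A β).d = 0 := rfl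
@[simp] theorem nv_y (A : K) (β : Fx K) : (nv A β).y = β := rfl
@[simp] theorem dv_b (B : K) : (dv B).b = 0 := rfl
@[simp] theorem dv_c (B : K) : (dv B).c = 0 := rfl
@[simp] theorem dv_d (B : K) : (dv B).d = B := rfl
@[simp] theorem dv_y (B : K) : (dv B).y = 0 := rfl
@[simp] theorem fv_b (B : K) (β : Fx K) : (fv B β).b = 1 := rfl
@[simp] theorem fv_c (B : K) (β : Fx K) : (fv B β).c = 0 := rfl
@[simp] theorem fv_d (B : K) (β : Fx K) : (fv B β).d = B := rfl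
@[simp] theorem fv_y (B : K) (β : Fx K) : (fv B β).y = β := rfl
theorem om_cv (v : V8 K) : om v cv = -v.b := by simp [om]
theorem cv_ne : (cv : V8 K) ≠ 0 := fun h => one_ne_zero (congrArg V8.y h)
theorem Mt_cv (a : K) (s : Fx K) : Mt a (s • cv) = s • cv := by ext <;> simp

/-- the line `C` -/
def InC (v : V8 K) : Prop := v.b = 0 ∧ v.c = 0 ∧ v.d = 0
theorem inC_iff {v : V8 K} : InC v ↔ ∃ s : Fx K, v = s • cv :=
  ⟨fun h => ⟨⟨v.y, v.hy⟩, by ext <;> simp [h.1, h.2.1, h.2.2]⟩, by rintro ⟨s, rfl⟩; simp [InC]⟩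

/-- `g` keeps the line `C` -/
def PL (g : Au (V8 K)) : Prop := ∀ v, InC v → InC (g v)

theorem PL.inv {g : Au (V8 K)} (h : PL g) : PL g⁻¹ := fun _ hv => inv_mem_of (W := {v | InC v}) h hv
theorem PL.mul {g g' : Au (V8 K)} (h : PL g) (h' : PL g') : PL (g * g') := fun v hv => h _ (h' v hv)
theorem PL_Mt (a : K) : PL (Mt a) := fun v h => by simp [InC, h.1, h.2.1, h.2.2]
theorem PL_actV (h : Par K) : PL (actV h) := fun v h => by simp [InC, h.1, h.2.1, h.2.2]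

/-- `g` respects the forms -/
def Conf (g : Au (V8 K)) : Prop :=
  ∃ ζ : K → K, (∀ u v, om (g u) (g v) = ζ (om u v)) ∧ ((2 : K) = 0 → ∀ v, Qf v = 0 → Qf (g v) = 0)

/-- `g` is a semilinear similarity -/
def Sem (g : Au (V8 K)) : Prop := ∃ (γ : K ≃+* K) (μ : K), μ ≠ 0 ∧ sg μ = μ ∧
  (∀ (l : Fx K) v, g (l • v) = fxm γ l • g v) ∧ ∀ u v, om (g u) (g v) = μ * γ (om u v)

/-- `g` is an isometry -/
def Iso (g : Au (V8 K)) : Prop := ∀ u v, om (g u) (g v) = om u v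

theorem Iso.smul {g : Au (V8 K)} (h : Iso g) (l : Fx K) (v : V8 K) : g (l • v) = l • g v :=
  sub_eq_zero.1 (om_nondeg fun w => by rw [om_sub_l, om_smul_l, ← au_apply_inv g w, h, h, om_smul_l, sub_self])
theorem Iso.mul {g g' : Au (V8 K)} (h : Iso g) (h' : Iso g') : Iso (g * g') := fun u v => by rw [au_mul, au_mul, h, h']
theorem Iso.inv {g : Au (V8 K)} (h : Iso g) : Iso g⁻¹ := fun u v => by rw [← h, au_apply_inv, au_apply_inv]
theorem Conf.iso_conj {g t : Au (V8 K)} (h : Conf g) (ht : Iso t) : Iso (g * t * g⁻¹) := fun u v => by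
  obtain ⟨ζ, h, -⟩ := h
  rw [au_mul, au_mul, au_mul, au_mul, h, ht, ← h, au_apply_inv, au_apply_inv]
theorem Conf.perp {g : Au (V8 K)} (h : Conf g) {u v : V8 K} (k : om u v = 0) : om (g u) (g v) = 0 := by
  obtain ⟨ζ, h, -⟩ := h
  rw [h, k, ← om_zero_l (0 : V8 K), ← h, map_zero, om_zero_l]
/-- `g` keeps the hyperplane `W = {b = 0}` -/
theorem Conf.keepsW {g : Au (V8 K)} (h : Conf g) (hp : PL g) {v : V8 K} (k : v.b = 0) : (g v).b = 0 := by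
  obtain ⟨s, hs⟩ := inC_iff.1 (hp.inv cv (by simp [InC]))
  have := h.perp (u := v) (v := g⁻¹ cv) (by rw [hs, om_smul_r, om_cv, k]; simp)
  rwa [au_apply_inv, om_cv, neg_eq_zero] at this
theorem Sem.PL_of {g : Au (V8 K)} (h : Sem g) {s : Fx K} (hs : s ≠ 0) (k : InC (g (s • cv))) : PL g := fun v hv => by
  obtain ⟨γ, μ, -, -, h, -⟩ := h
  obtain ⟨t, rfl⟩ := inC_iff.1 hv
  obtain ⟨r, hr⟩ := inC_iff.1 k
  rw [show t • (cv : V8 K) = (t / s) • s • cv by rw [smul_smul, div_mul_cancel₀ _ hs], h, hr, smul_smul]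
  exact inC_iff.2 ⟨_, rfl⟩

/-- for odd characteristic the cross product with a nonzero element is bijective -/
theorem cr_inj (h2 : (2 : K) ≠ 0) {A x : K} (hA : A ≠ 0) (h : cr A x = 0) : x = 0 := by
  obtain ⟨l, -, e, rfl⟩ := cr_eq_zero hA h
  rw [(mul_eq_zero.1 e).resolve_left h2, zero_mul]
theorem cr_sub (x y z : K) : cr x (y - z) = cr x y - cr x z := by simp only [cr, sg_sub]; ring
theorem cr_surj (h2 : (2 : K) ≠ 0) {A : K} (hA : A ≠ 0) (d : K) : ∃ x, cr A x = d :=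
  Finite.injective_iff_surjective.1 (fun x y e => sub_eq_zero.1 (cr_inj h2 hA (by rw [cr_sub, e, sub_self]))) d
theorem exists_cr_ne {A : K} (hA : A ≠ 0) : ∃ x, cr A x ≠ 0 := by
  by_contra! h
  exact hA (cr_nondeg fun t => (cr_comm t A).trans (h t))

/-- an automorphism fixing the fixed field and one more element -/
theorem gal_one {γ : K ≃+* K} (h : ∀ l, sg l = l → γ l = l) {t : K} (ht : sg t ≠ t) (e : γ t = t) (x : K) : γ x = x := by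
  have h1' := sub_ne_zero.2 ht.symm
  have h2' := sub_ne_zero.2 (sg2_ne ht).symm
  have h3 : sg t - sg (sg t) ≠ 0 := sub_ne_zero.2 fun e => ht (sg_inj e.symm)
  have h1 := sub_ne_zero.2 ht
  have h2 := sub_ne_zero.2 (sg2_ne ht)
  have h3' : sg (sg t) - sg t ≠ 0 := sub_ne_zero.2 fun e => ht (sg_inj e)
  set D := (t - sg t) * (t - sg (sg t)) with hD
  have k : x = Tr (x * sh t / D) + -Tr (x * (sg t + sg (sg t)) / D) * t + Tr (x / D) * (t * t) := by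
    simp only [hD, Tr, sh, sg_div, sg_mul, sg_sub, sg_add, sg3]; field_simp; ring
  rw [k, map_add, map_add, map_mul, map_mul, map_mul, e, h _ (by simp), h _ (by simp), h _ (by simp)]

/-- the orbit of the nonzero vectors of `C` -/
def OV (L : Subgroup (Au (V8 K))) (u : V8 K) : Prop := ∃ g ∈ L, ∃ s : Fx K, s ≠ 0 ∧ g (s • cv) = u

/-- `t` lies in the Sylow subgroup of the point `u` -/
def Tp (L : Subgroup (Au (V8 K))) (u : V8 K) (t : Au (V8 K)) : Prop :=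
  ∃ g ∈ L, ∃ s : Fx K, s ≠ 0 ∧ g (s • cv) = u ∧ ∃ a, t = g * Mt a * g⁻¹

theorem OV.map {L : Subgroup (Au (V8 K))} {u : V8 K} (h : OV L u) {g : Au (V8 K)} (hg : g ∈ L) : OV L (g u) := by
  obtain ⟨k, hk, s, hs, rfl⟩ := h
  exact ⟨g * k, mul_mem hg hk, s, hs, rfl⟩
theorem OV.ne {L : Subgroup (Au (V8 K))} {u : V8 K} (h : OV L u) : u ≠ 0 := by
  obtain ⟨k, -, s, hs, rfl⟩ := h
  exact fun e => smul_ne_zero hs cv_ne (k.map_eq_zero_iff.1 e)

structure H0 (p : ℕ) (L : Subgroup (Au (V8 K))) : Prop where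
  syl : SylIn p (TM K) L
  conf : ∀ g ∈ L, Conf g
  sem : ∀ g ∈ L, Sem g
  /-- a stabilised chain invariant under a Sylow subgroup -/
  chain : ∀ (n : ℕ) (X : ℕ → AddSubgroup (V8 K)), X 0 = ⊥ → X n = ⊤ → ∀ g ∈ L,
    (∀ a i, ∀ v ∈ X i, (g * Mt a * g⁻¹ : Au (V8 K)) v ∈ X i) → ∀ s ∈ L, (∀ i, ∀ v ∈ X (i + 1), s v - v ∈ X i) → g⁻¹ * s * g ∈ TM K

structure H1 (p : ℕ) (L : Subgroup (Au (V8 K))) : Prop extends H0 p L where
  ti : ∀ g ∈ L, ∀ a a', a ≠ 0 → g * Mt a' * g⁻¹ = Mt a → PL g ∧ ∀ x, g * Mt x * g⁻¹ ∈ TM K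
  sub : ∀ X : Subgroup (Au (V8 K)), X ≤ L → ∀ g ∈ L, (∀ x, g * Mt x * g⁻¹ ∈ X) → ∀ a, a ≠ 0 → Mt a ∈ X → ∀ x, Mt x ∈ X
  tor : ∀ v hv, actV (hb v hv) ∈ L

structure H2 (p : ℕ) (L : Subgroup (Au (V8 K))) : Prop extends H1 p L where
  ns : ∀ g ∈ L, PL g → ∀ x, g * Mt x * g⁻¹ ∈ TM K
  std : ∀ g ∈ L, PL g → ∃ a h, actV h ∈ L ∧ g = Mt a * actV h

structure H3 (p : ℕ) (L : Subgroup (Au (V8 K))) : Prop extends H2 p L where
  perp : ∀ u, OV L u → u.b = 0 → InC u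

section Hyp
variable {p : ℕ} {L : Subgroup (Au (V8 K))}

theorem H0.mt (h : H0 p L) (a : K) : Mt a ∈ L := h.syl.1 (Mt_mem a)
theorem H1.hm_mem (h : H1 p L) : hm K ∈ L := h.tor _ _
theorem H0.iso (h : H0 p L) {g : Au (V8 K)} (hg : g ∈ L) (a : K) : Iso (g * Mt a * g⁻¹) :=
  (h.conf g hg).iso_conj (om_Mt a)
theorem H0.ov_smul (h : H0 p L) {u : V8 K} (hu : OV L u) {l : Fx K} (hl : l ≠ 0) : OV L (l • u) := by
  obtain ⟨g, hg, s, hs, rfl⟩ := hu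
  obtain ⟨γ, μ, -, -, k, -⟩ := h.sem g hg
  obtain ⟨l', rfl⟩ := fxm_surj γ l
  refine ⟨g, hg, l' * s, mul_ne_zero (by rintro rfl; exact hl (Subtype.ext (by simp))) hs, by rw [mul_smul, k]⟩
theorem ov_cv (L : Subgroup (Au (V8 K))) {s : Fx K} (hs : s ≠ 0) : OV L (s • cv) := ⟨1, one_mem _, s, hs, rfl⟩

end Hyp

end Lin

/-! ### the statements of the parts -/

section Parts
variable (K : Type u) [Field K] [TF K]

def RHO1 : Prop := ∃ ρ : MulAut (Q1 K) →* Au (V8 K), (∀ α (x : Q1 K), pV (α x : U K) = ρ α (pV x)) ∧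
  (∀ α, Conf (ρ α)) ∧ ∀ (p : ℕ) [Fact p.Prime] [CharP K p], IsPGroup p ρ.ker

def L1S : Prop := ∀ (p : ℕ) [Fact p.Prime] [CharP K p] (L : Subgroup (Au (V8 K))), SylIn p (TM K) L →
  (∀ g ∈ L, Conf g) → (∀ v hv, actV (hb v hv) ∈ L) → ∀ g ∈ L, PL g → ∀ t ∈ TM K, g * t * g⁻¹ ∈ TM K

def LIN1 : Prop := ∀ (p : ℕ) [Fact p.Prime] [CharP K p] (L : Subgroup (Au (V8 K))), SylIn p (TM K) L →
  (∀ g ∈ L, Conf g) → (∀ v hv, actV (hb v hv) ∈ L) → (∃ g ∈ L, ¬ PL g) →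
  (∀ g ∈ L, PL g → ∃ a h, actV h ∈ L ∧ g = Mt a * actV h) →
  rV K ∈ L ∧ (∀ u, actV (ha u) ∈ L) ∧ ∀ g ∈ L, PL g ∨ ∃ t ∈ TM K, PL (rV K * t * g)

def SEM : Prop := ∀ g : Au (V8 K), Conf g → Sem g

def CHN : Prop := ∀ (p : ℕ) [Fact p.Prime] [CharP K p] (L : Subgroup (Au (V8 K))), SylIn p (TM K) L →
  ∀ (n : ℕ) (X : ℕ → AddSubgroup (V8 K)), X 0 = ⊥ → X n = ⊤ → ∀ g ∈ L,
    (∀ a i, ∀ v ∈ X i, (g * Mt a * g⁻¹ : Au (V8 K)) v ∈ X i) →
    ∀ s ∈ L, (∀ i, ∀ v ∈ X (i + 1), s v - v ∈ X i) → g⁻¹ * s * g ∈ TM K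

def TIA : Prop := ∀ g : Au (V8 K), Conf g → Sem g → (2 : K) = 0 ∨ (6 : K) ≠ 0 → ∀ a a', a ≠ 0 →
  g * Mt a' * g⁻¹ = Mt a → PL g

def TIC : Prop := ∀ (p : ℕ) [Fact p.Prime] [CharP K p] (L : Subgroup (Au (V8 K))), H0 p L → (3 : K) = 0 →
  ∀ g ∈ L, ∀ a a', a ≠ 0 → g * Mt a' * g⁻¹ = Mt a → PL g

def TI2 : Prop := ∀ (p : ℕ) [Fact p.Prime] [CharP K p] (L : Subgroup (Au (V8 K))), H0 p L →
  ∀ g ∈ L, PL g → ∀ a a', a ≠ 0 → g * Mt a' * g⁻¹ = Mt a → ∀ x, g * Mt x * g⁻¹ ∈ TM K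

def SUB : Prop := ∀ (p : ℕ) [Fact p.Prime] [CharP K p] (L : Subgroup (Au (V8 K))), H0 p L →
  (∀ g ∈ L, ∀ a a', a ≠ 0 → g * Mt a' * g⁻¹ = Mt a → ∀ x, g * Mt x * g⁻¹ ∈ TM K) →
  ∀ X : Subgroup (Au (V8 K)), X ≤ L → ∀ g ∈ L, (∀ x, g * Mt x * g⁻¹ ∈ X) → ∀ a, a ≠ 0 → Mt a ∈ X → ∀ x, Mt x ∈ X

/-- a conjugate of `V2 = {b = c = 0}` by an element keeping `C` is `V2` or meets `V2` in `C` -/
def S1A : Prop := ∀ (p : ℕ) [Fact p.Prime] [CharP K p] (L : Subgroup (Au (V8 K))), H1 p L → ∀ g ∈ L, PL g →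
  (∀ x, g * Mt x * g⁻¹ ∈ TM K) ∨ ((2 : K) ≠ 0 ∧ ∀ B, (g (dv B)).c = 0 → B = 0)

def S1B : Prop := ∀ (p : ℕ) [Fact p.Prime] [CharP K p] (L : Subgroup (Au (V8 K))), H1 p L → (2 : K) ≠ 0 →
  (∀ g ∈ L, PL g → (∀ x, g * Mt x * g⁻¹ ∈ TM K) ∨ ∀ B, (g (dv B)).c = 0 → B = 0) →
  ∀ g ∈ L, PL g → ∀ x, g * Mt x * g⁻¹ ∈ TM K

def N02 : Prop := ∀ (p : ℕ) [Fact p.Prime] [CharP K p] (L : Subgroup (Au (V8 K))), H1 p L →
  (∀ u, OV L u → u.b = 0 → u.c = 0 → u.d = 0) ∧ ((2 : K) = 0 → ∀ u, OV L u → u.b = 0 → u.c = 0)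

def NI : Prop := ∀ (p : ℕ) [Fact p.Prime] [CharP K p] (L : Subgroup (Au (V8 K))), H2 p L → (2 : K) ≠ 0 →
  ∀ u, OV L u → hm K u = -u → ∃ g ∈ L, Commute g (hm K) ∧ ∃ s : Fx K, s ≠ 0 ∧ g (s • cv) = u

def NP : Prop := ∀ (p : ℕ) [Fact p.Prime] [CharP K p] (L : Subgroup (Au (V8 K))), H2 p L → (2 : K) ≠ 0 →
  ∀ e ∈ L, Commute e (hm K) → ∀ k, e ^ p ^ k = 1 → e = 1

def FAM : Prop := ∀ (p : ℕ) [Fact p.Prime] [CharP K p] (L : Subgroup (Au (V8 K))), H2 p L → (2 : K) ≠ 0 →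
  ∀ u w y : V8 K, hm K u = -u → hm K w = -w → hm K y = y → om u w = 0 → (∀ l : Fx K, w ≠ l • u) →
  (OV L u → om u y = 0 → ∃ t, ∃ Q : Fx K, Tp L u t ∧ t w = w + y + Q • u) ∧
  ∀ t (Q : Fx K), Tp L u t → t w = w + y + Q • u → ∀ l : Fx K, ∃ t', Tp L u t' ∧ t' u = u ∧
    t' w = w + l • y + (l ^ 2 * Q) • u ∧ t' y = y + (2 * l * Q) • u

def AN : Prop := ∀ (p : ℕ) [Fact p.Prime] [CharP K p] (L : Subgroup (Au (V8 K))), H2 p L → (2 : K) ≠ 0 →
  ∀ A β, OV L (nv A β) → A ≠ 0 → ∀ x, x ≠ 0 → Tr (sh A * x) = 0 → Tr (A * sh x) ≠ 0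

def ND : Prop := ∀ (p : ℕ) [Fact p.Prime] [CharP K p] (L : Subgroup (Au (V8 K))), H2 p L → (2 : K) ≠ 0 →
  (3 : K) ≠ 0 → ∀ A, A ≠ 0 → ¬ OV L (nv A 0)

def NF : Prop := ∀ (p : ℕ) [Fact p.Prime] [CharP K p] (L : Subgroup (Au (V8 K))), H2 p L → (2 : K) ≠ 0 →
  (3 : K) ≠ 0 → ∀ A, A ≠ 0 → ¬ ∀ β, β ≠ 0 → OV L (nv A β)

/-- at most the line through two perpendicular points: the concrete form -/
def NE : Prop := ∀ (p : ℕ) [Fact p.Prime] [CharP K p] (L : Subgroup (Au (V8 K))), H2 p L → (2 : K) ≠ 0 →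
  (3 : K) ≠ 0 → ∀ A β, A ≠ 0 → OV L (nv A β) → ∀ κ : Fx K, (∀ l : Fx K, l ≠ 0 → OV L (nv A (β + l ^ 2 * κ))) → κ = 0

def NK : Prop := ∀ (p : ℕ) [Fact p.Prime] [CharP K p] (L : Subgroup (Au (V8 K))), H2 p L → (2 : K) ≠ 0 →
  (3 : K) ≠ 0 → ∀ (u w y : V8 K) (t t' : Au (V8 K)) (Q Q' : Fx K), hm K u = -u → hm K w = -w → hm K y = y → om u w = 0 →
  (∀ l : Fx K, w ≠ l • u) → Q ≠ 0 → Tp L u t → Tp L w t' → t w = w + y + Q • u → t' u = u + y + Q' • w → Q = Q'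

def NA : Prop := ∀ (p : ℕ) [Fact p.Prime] [CharP K p] (L : Subgroup (Au (V8 K))), H2 p L → (2 : K) ≠ 0 →
  ∀ A β, A ≠ 0 → ¬ OV L (nv A β)

def CW : Prop := ∀ B β : K, sg β = β → ∃ a, Nr a + Tr (B * a) + β = 0

/-- the points outside the hyperplane -/
def FAR : Prop := ∀ (p : ℕ) [Fact p.Prime] [CharP K p] (L : Subgroup (Au (V8 K))), H3 p L → (∃ g ∈ L, ¬ PL g) →
  ∃ B, OV L (fv B 0) ∧ (∀ u, OV L u → InC u ∨ ∃ a, ∃ l : Fx K, l ≠ 0 ∧ u = l • Mt a (fv B 0)) ∧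
    ((2 : K) = 0 → 3 ≤ TF.q K → B = 0)

/-- polynomial functions of small degree -/
def PIL : Prop := 3 ≤ TF.q K → ∀ c : Fin 3 → Fin 3 → Fin 3 → K,
  (∀ a : K, ∑ i, ∑ j, ∑ k, c i j k * a ^ (i : ℕ) * sg a ^ (j : ℕ) * sg (sg a) ^ (k : ℕ) = 0) → ∀ i j k, c i j k = 0

def RF : Prop := 3 ≤ TF.q K → ∀ s B r0 r1 r2 u0 u1 u2 t0 t1 t2 w0 w1 w2 : K, s ≠ 0 →
  (∀ a : K, s * sh (r0 * a + r1 * sg a + r2 * sg (sg a) + (u0 * sh a + u1 * sg (sh a) + u2 * sg (sg (sh a)))) =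
    (Nr a + 2 * Tr (B * a)) * (t0 * a + t1 * sg a + t2 * sg (sg a) + (w0 * sh a + w1 * sg (sh a) + w2 * sg (sg (sh a))))) →
  ¬ (t0 = 0 ∧ t1 = 0 ∧ t2 = 0 ∧ w0 = 0 ∧ w1 = 0 ∧ w2 = 0) → 2 * B = 0 ∧ r0 = 0 ∧ r1 = 0 ∧ r2 = 0 ∧
    ((u0 ≠ 0 ∧ u1 = 0 ∧ u2 = 0) ∨ (u0 = 0 ∧ u1 ≠ 0 ∧ u2 = 0) ∨ (u0 = 0 ∧ u1 = 0 ∧ u2 ≠ 0))

/-- the orbit consists of `C` and the images of one further point -/
def Far (L : Subgroup (Au (V8 K))) (B : K) : Prop :=
  OV L (fv B 0) ∧ ∀ u, OV L u → InC u ∨ ∃ a, ∃ l : Fx K, l ≠ 0 ∧ u = l • Mt a (fv B 0)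

def RX : Prop := ∀ (p : ℕ) [Fact p.Prime] [CharP K p] (L : Subgroup (Au (V8 K))), H3 p L → ∀ B, Far K L B →
  ∃ r ∈ L, Iso r ∧ ∃ l : Fx K, l ≠ 0 ∧ r cv = l • fv B 0 ∧ InC (r (fv B 0))

/-- an isometry in `L` swapping the two points and inverting the others -/
def Swap (L : Subgroup (Au (V8 K))) : Prop := ∃ r ∈ L, Iso r ∧ (∃ l : Fx K, r cv = l • fv 0 0) ∧ ∃ (k : K) (γ : K ≃+* K),
  InC (r (fv 0 0)) ∧ k ≠ 0 ∧ ∀ a, a ≠ 0 → ∃ l : Fx K, r (Mt a (fv 0 0)) = l • Mt (k * γ a⁻¹) (fv 0 0)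

def L1R : Prop := ∀ (p : ℕ) [Fact p.Prime] [CharP K p] (L : Subgroup (Au (V8 K))), H3 p L → 3 ≤ TF.q K → ∀ B, Far K L B →
  ((2 : K) = 0 → B = 0) → B = 0 ∧ Swap K L

def L1Q : Prop := ∀ (p : ℕ) [Fact p.Prime] [CharP K p] (L : Subgroup (Au (V8 K))), H3 p L → TF.q K = 2 → ∀ B, Far K L B →
  B = 0 ∧ Swap K L

def L1W : Prop := ∀ L : Subgroup (Au (V8 K)), TM K ≤ L → Swap K L → ∀ x, rV K * Mt x * (rV K)⁻¹ ∈ L

def SL2 : Prop := ∀ L : Subgroup (Au (V8 K)), TM K ≤ L → (∀ x, rV K * Mt x * (rV K)⁻¹ ∈ L) →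
  rV K ∈ L ∧ ∀ u, actV (ha u) ∈ L

def ESA : Prop := ∀ (E : Subgroup (U K)) (M B : (U K → U K) → Prop), Crit E M B → ¬ E ≤ Q1 K → Z2 K ≤ E
def ESB : Prop := ∀ (E : Subgroup (U K)) (M B : (U K → U K) → Prop), Crit E M B → E ≤ Q1 K → E = Q1 K

end Parts

end CL.TD
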