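/-
Project TD: the automizer of `Q1` modulo the automorphisms trivial on `Q1 / Z`.
-/
import Cfsg.Agent.TD.Defs1

set_option autoImplicit false
set_option linter.unusedSectionVars false

namespace CL.TD

open Cfsg CL.Fus CL.U5

universe u

variable {K : Type u} [Field K] [TF K]

namespace Aut1x

theorem par_eq {a : K} {h k : Par K} (e : Mt a * actV h = actV k) : h = k := by
  have f := fun v => (au_mul _ _ v).symm.trans (DFunLike.congr_fun e v)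
  have e1 : (h.m : K) = k.m := by simpa using congrArg V8.b (f (fv 0 0))
  have e2 : ∀ x : K, (h.l : K) * h.γ x = k.l * k.γ x := fun x => by
    have := congrArg V8.c (f (nv x 0))
    simp only [Mt_c, actV_c, actV_b, nv_b, nv_c, map_zero, mul_zero, zero_mul, add_zero, e1] at this
    exact mul_left_cancel₀ k.m.ne_zero (by linear_combination this)
  have e3 : (h.l : K) = k.l := by simpa using e2 1
  exact par_ext e3 e1 fun x => mul_left_cancel₀ h.l.ne_zero (by rw [e2, e3])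

variable {ρ : MulAut (Q1 K) →* Au (V8 K)} (hρ : ∀ α (x : Q1 K), pV (α x : U K) = ρ α (pV x))
include hρ

theorem rho_eq {α : MulAut (Q1 K)} {g : Au (V8 K)} (h : ∀ x : Q1 K, pV (α x : U K) = g (pV x)) : ρ α = g :=
  au_ext fun v => by
    obtain ⟨x, rfl⟩ := pV_surj v
    rw [← hρ, h]

theorem rho_conj (s : U K) : ρ (MulAut.conjNormal s) = Mt s.a :=
  rho_eq hρ fun x => pV_conj s x.2

theorem rho_res {s : U K} {h : Par K} {a : MulAut (Q1 K)} (ha : Res (MulAut.conj s * act h) a) :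
    ρ a = Mt s.a * actV h :=
  rho_eq hρ fun x => by
    rw [ha x, au_mul, ← pV_act]
    exact pV_conj s ((act_Q1 h x).2 x.2)

theorem exists_conj {t : Au (V8 K)} (ht : t ∈ TM K) : ∃ s : U K, ρ (MulAut.conjNormal s) = t := by
  obtain ⟨k, rfl⟩ := ht
  exact ⟨xa k, rho_conj hρ _⟩

theorem conj_mem (s : U K) : ρ (MulAut.conjNormal s) ∈ TM K := ⟨_, (rho_conj hρ s).symm⟩

theorem map_T : (autInducedBy ⊤ (Q1 K)).map ρ = TM K := by
  ext g
  constructor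
  · rintro ⟨a, ha, rfl⟩
    obtain ⟨s, rfl⟩ := mem_T.1 ha
    exact conj_mem hρ s
  · intro h
    obtain ⟨s, rfl⟩ := exists_conj hρ h
    exact ⟨_, mem_T.2 ⟨_, rfl⟩, rfl⟩

end Aut1x

open Aut1x in
theorem aut1 (h0 : KER.{u}) (h1 : RHO1 K) (h2 : L1S K) (h3 : LIN1 K) : AUT1 K := by
  intro p _ _ A0 A H R S hH
  obtain ⟨ρ, hρ, hL, hk⟩ := h1
  obtain ⟨k1, -, k3⟩ := h0 (U K) p (Q1 K) A0 A _ ρ R (hk p)
  rw [map_T hρ] at k1
  have cf : ∀ g ∈ A.map ρ, Conf g := by rintro _ ⟨a, -, rfl⟩; exact hL a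
  have av : ∀ h ∈ H, actV h ∈ A.map ρ := fun h hh => by
    obtain ⟨a, ha, r⟩ := R.res _ ((S _).2 ⟨1, h, hh, rfl⟩)
    exact ⟨a, ha, by rw [rho_res hρ r, one_a, Mt_zero, one_mul]⟩
  have l1 := h2 p _ k1 cf fun v hv => av _ (hH v hv)
  have ext : ∀ a ∈ A, PL (ρ a) → ∃ α ∈ A0, Res α a := fun a ha hp => k3 a ha fun s =>
    (exists_conj hρ (l1 _ ⟨a, ha, rfl⟩ hp _ (conj_mem hρ s))).imp fun _ e => e.symm
  obtain ⟨⟨g, hg, e⟩, m2, m3⟩ := h3 p _ k1 cf (fun v hv => av _ (hH v hv)) (by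
    obtain ⟨a, ha, na⟩ := R.ne
    exact ⟨ρ a, ⟨a, ha, rfl⟩, fun hp => na (ext a ha hp)⟩) (by
    rintro _ ⟨a, ha, rfl⟩ hp
    obtain ⟨α, hα, r⟩ := ext a ha hp
    obtain ⟨s, h, hh, rfl⟩ := (S α).1 hα
    exact ⟨s.a, h, av h hh, rho_res hρ r⟩)
  refine ⟨fun v => ?_, g, hg, fun x => ?_, fun a haA => ?_⟩
  · obtain ⟨a, haA, e⟩ := m2 v
    obtain ⟨α, hα, r⟩ := ext a haA (e ▸ PL_actV _)
    obtain ⟨s, h, hh, rfl⟩ := (S α).1 hα
    rw [← par_eq ((rho_res hρ r).symm.trans e)]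
    exact hh
  · have e1 := pV_mul (r1 K x).2 ((r1 K x : U K)⁻¹ * g x)
    rw [mul_inv_cancel_left, hρ, e, pV_r1, left_eq_add] at e1
    exact (pV_eq_zero (mul_mem (inv_mem (r1 K x).2) (g x).2)).1 e1
  · rcases m3 _ ⟨a, haA, rfl⟩ with hp | ⟨t, ht, hp⟩
    · exact .inl (ext a haA hp)
    · obtain ⟨s, rfl⟩ := exists_conj hρ ht
      exact .inr ⟨s, ext _ (A.mul_mem (A.mul_mem hg (R.syl.le (mem_T.2 ⟨s, rfl⟩))) haA) (by
        rw [map_mul, map_mul, e]; exact hp)⟩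

end CL.TD
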