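/-
Project TD: the automizer of `Q2` modulo the automorphisms trivial on `Q2 / Z3`.
-/
import Cfsg.Agent.TD.Fld

set_option autoImplicit false
set_option linter.unusedSectionVars false

namespace CL.TD

open Cfsg CL.Fus CL.U5

universe u

variable {K : Type u} [Field K] [TF K]

namespace Aut2x

variable {ρ : MulAut (Q2 K) →* Au (V2 K)} (hρ : ∀ α (x : Q2 K), pW (α x : U K) = ρ α (pW x))
include hρ

theorem rho_eq {α : MulAut (Q2 K)} {g : Au (V2 K)} (h : ∀ x : Q2 K, pW (α x : U K) = g (pW x)) : ρ α = g :=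
  au_ext fun v => by
    obtain ⟨x, rfl⟩ := pW_surj v
    rw [← hρ, h]

theorem rho_conj (s : U K) : ρ (MulAut.conjNormal s) = Tw (-s.b) :=
  rho_eq hρ fun x => pW_conj s x.2

theorem rho_res {s : U K} {h : Par K} {a : MulAut (Q2 K)} (ha : Res (MulAut.conj s * act h) a) :
    ρ a = Tw (-s.b) * actW h :=
  rho_eq hρ fun x => by
    rw [ha x, au_mul, ← pW_act]
    exact pW_conj s ((act_Q2 h x).2 x.2)

theorem exists_conj {t : Au (V2 K)} (ht : t ∈ TW K) : ∃ s : U K, ρ (MulAut.conjNormal s) = t := by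
  obtain ⟨k, hk, rfl⟩ := ht
  exact ⟨xb (-k) (by rw [sg_neg, hk]), (rho_conj hρ _).trans (congrArg Tw (neg_neg k))⟩

theorem conj_mem (s : U K) : ρ (MulAut.conjNormal s) ∈ TW K :=
  ⟨_, by rw [sg_neg, s.hb], (rho_conj hρ s).symm⟩

theorem map_T : (autInducedBy ⊤ (Q2 K)).map ρ = TW K := by
  ext g
  constructor
  · rintro ⟨a, ha, rfl⟩
    obtain ⟨s, rfl⟩ := mem_T.1 ha
    exact conj_mem hρ s
  · intro h
    obtain ⟨s, rfl⟩ := exists_conj hρ h
    exact ⟨_, mem_T.2 ⟨_, rfl⟩, rfl⟩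

omit hρ in
theorem par_eq {a : K} {h : Par K} {v : Kˣ} {hv : sg (v : K) = v} (e : Tw a * actW h = actW (hb v hv)) :
    h = hb v hv := by
  have e1 : ∀ x : K, (h.l : K) * h.γ x = (v : K)⁻¹ * x := fun x => by
    have := congrArg (fun g : Au (V2 K) => (g (x, 0)).1) e
    simpa [au_mul, Tw_apply, actW_apply] using this
  have e2 : (h.l : K) = (v : K)⁻¹ := by simpa using e1 1
  have e3 : ∀ x, h.γ x = x := fun x => by
    have := e1 x
    rw [e2] at this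
    exact mul_left_cancel₀ (inv_ne_zero v.ne_zero) this
  have e4 : (h.l : K) * h.m = (v : K)⁻¹ * (v : K) ^ 2 := by
    have := congrArg (fun g : Au (V2 K) => (g (0, 1)).2) e
    simpa [au_mul, Tw_apply, actW_apply] using this
  rw [e2] at e4
  exact par_ext (by rw [hb_l, e2]) (by rw [hb_m]; exact mul_left_cancel₀ (inv_ne_zero v.ne_zero) e4) e3

end Aut2x

open Aut2x in
theorem aut2 (h0 : KER.{u}) (h1 : RHO2 K) (h2 : LIN2 K) : AUT2 K := by
  intro p _ _ A0 A H R S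
  obtain ⟨ρ, hρ, hL, hk⟩ := h1
  obtain ⟨k1, -, k3⟩ := h0 (U K) p (Q2 K) A0 A _ ρ R (hk p)
  rw [map_T hρ] at k1
  obtain ⟨l1, l2⟩ := h2 (A.map ρ) k1.le (by rintro _ ⟨a, -, rfl⟩; exact hL a)
  have ext : ∀ a ∈ A, PW (ρ a) → ∃ α ∈ A0, Res α a := fun a ha hp => k3 a ha fun s =>
    (exists_conj hρ (l1 _ ⟨a, ha, rfl⟩ hp _ (conj_mem hρ s))).imp fun _ e => e.symm
  obtain ⟨⟨g, hg, e⟩, m2, m3⟩ := l2 (by
    obtain ⟨a, ha, na⟩ := R.ne
    exact ⟨ρ a, ⟨a, ha, rfl⟩, fun hp => na (ext a ha hp)⟩)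
  refine ⟨fun v hv => ?_, g, hg, fun x => ?_, fun a haA => ?_⟩
  · obtain ⟨a, haA, e⟩ := m2 v hv
    obtain ⟨α, hα, r⟩ := ext a haA (by
      rw [e]
      intro c
      simp [actW_apply])
    obtain ⟨s, h, hh, rfl⟩ := (S α).1 hα
    rw [← par_eq ((rho_res hρ r).symm.trans e)]
    exact hh
  · have e1 := pW_mul (r2 K x : U K) (mul_mem (inv_mem (r2 K x).2) (g x).2)
    rw [mul_inv_cancel_left, hρ, e, pW_r2, left_eq_add] at e1
    exact (pW_eq_zero (mul_mem (inv_mem (r2 K x).2) (g x).2)).1 e1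
  · rcases m3 _ ⟨a, haA, rfl⟩ with hp | ⟨t, ht, hp⟩
    · exact .inl (ext a haA hp)
    · obtain ⟨s, rfl⟩ := exists_conj hρ ht
      exact .inr ⟨s, ext _ (A.mul_mem (A.mul_mem hg (R.syl.le (mem_T.2 ⟨s, rfl⟩))) haA) (by
        rw [map_mul, map_mul, e]; exact hp)⟩

end CL.TD
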