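/-
Project TD: a cubic equation over the cubic extension has a solution (Chevalley–Warning).
-/
import Cfsg.Agent.TD.Defs1
import Mathlib.FieldTheory.ChevalleyWarning

set_option autoImplicit false
set_option linter.unusedSectionVars false
set_option linter.unusedSimpArgs false

namespace CL.TD

open Cfsg CL.Fus CL.U5

universe u

namespace CWx

open MvPolynomial in
theorem cubic {F : Type u} [Field F] [Finite F] (c : Fin 4 → Fin 4 → Fin 4 → F) :
    ∃ x : Fin 4 → F, x ≠ 0 ∧ ∑ i, ∑ j, ∑ k, c i j k * (x i * x j * x k) = 0 := by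
  classical
  let _ := Fintype.ofFinite F
  obtain ⟨p, hp⟩ := CharP.exists F
  have pp : p.Prime := CharP.char_is_prime F p
  let f : MvPolynomial (Fin 4) F := ∑ i, ∑ j, ∑ k, C (c i j k) * (X i * X j * X k)
  have hd : f.totalDegree ≤ 3 :=
    totalDegree_finsetSum_le fun i _ => totalDegree_finsetSum_le fun j _ => totalDegree_finsetSum_le fun k _ =>
      (totalDegree_mul _ _).trans (by
        rw [totalDegree_C, zero_add]
        refine (totalDegree_mul _ _).trans ?_
        have := totalDegree_mul (X i : MvPolynomial (Fin 4) F) (X j)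
        rw [totalDegree_X, totalDegree_X] at this
        rw [totalDegree_X]; omega)
  have he : ∀ x : Fin 4 → F, eval x f = ∑ i, ∑ j, ∑ k, c i j k * (x i * x j * x k) := fun x => by
    simp only [f, map_sum, map_mul, eval_C, eval_X]
  have h := char_dvd_card_solutions p (f := f) (by rw [Fintype.card_fin]; omega)
  have h0 : eval (0 : Fin 4 → F) f = 0 := by rw [he]; simp
  obtain ⟨⟨x, hx⟩, hne⟩ := Fintype.exists_ne_of_one_lt_card
    (pp.one_lt.trans_le (Nat.le_of_dvd (Fintype.card_pos_iff.2 ⟨⟨0, h0⟩⟩) h)) ⟨0, h0⟩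
  exact ⟨x, fun e => hne (Subtype.ext e), (he x).symm.trans hx⟩

variable {K : Type u} [Field K] [TF K]

theorem indep {t x y z : K} (ht : sg t ≠ t) (hx : sg x = x) (hy : sg y = y) (hz : sg z = z)
    (h : x + y * t + z * t ^ 2 = 0) : x = 0 ∧ y = 0 ∧ z = 0 := by
  have h1 := congrArg sg h
  simp only [sg_add, sg_mul, sg_pow, hx, hy, hz, sg_zero] at h1
  have h2 := congrArg sg h1
  simp only [sg_add, sg_mul, sg_pow, hx, hy, hz, sg_zero] at h2
  have t1 : sg (sg t) ≠ sg t := fun e => ht (sg_inj e)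
  have t2 : sg (sg t) ≠ t := sg2_ne ht
  have e1 : y + z * (sg t + t) = 0 := mul_right_cancel₀ (sub_ne_zero.2 ht) (by linear_combination h1 - h)
  have e2 : y + z * (sg (sg t) + sg t) = 0 := mul_right_cancel₀ (sub_ne_zero.2 t1) (by linear_combination h2 - h1)
  have z0 : z = 0 := mul_right_cancel₀ (sub_ne_zero.2 t2) (by linear_combination e2 - e1)
  have y0 : y = 0 := by rw [z0] at e1; simpa using e1
  refine ⟨?_, y0, z0⟩
  rw [y0, z0] at h; simpa using h

end CWx

variable (K : Type u) [Field K] [TF K]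

theorem cw : CW K := by
  intro B β hβ
  obtain ⟨t, ht⟩ := exists_ne K
  obtain ⟨l, hl⟩ := exists_Tr (one_ne_zero (α := K)) (sg_one (K := K))
  let e : Fin 4 → K := ![1, t, t ^ 2, 0]
  let d : Fin 4 → K := ![0, 0, 0, 1]
  let c : Fin 4 → Fin 4 → Fin 4 → K := fun i j k =>
    e i * sg (e j) * sg (sg (e k)) + Tr (B * e i) * d j * d k + β * d i * d j * d k
  obtain ⟨x, hx0, hx⟩ := CWx.cubic (F := Fx K) fun i j k => ⟨Tr (l * c i j k), sg_Tr _⟩
  have hs : ∀ i, sg (x i : K) = x i := fun i => (x i).2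
  have h1 : ∑ i, ∑ j, ∑ k, Tr (l * c i j k) * ((x i : K) * x j * x k) = 0 := by
    have := congrArg (Fx K).subtype hx
    simpa only [map_sum, map_mul, map_zero, Subfield.coe_subtype] using this
  set a : K := x 0 + x 1 * t + x 2 * t ^ 2 with ha
  have h2 : Nr a + Tr (B * a) * (x 3 : K) ^ 2 + β * (x 3 : K) ^ 3 = 0 := by
    rw [← h1, ← mul_one (Nr a + _ + _), ← hl]
    simp only [Fin.sum_univ_four, c, e, d, Matrix.cons_val, ha, Nr, Tr, sg_add, sg_mul, sg_pow, sg_one, sg_zero, sg3, hs,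
      hβ]
    ring
  have h3 : (x 3 : K) ≠ 0 := fun h => by
    rw [h] at h2
    obtain ⟨a0, a1, a2⟩ := CWx.indep ht (hs 0) (hs 1) (hs 2) (Nr_eq_zero.1 (by simpa using h2))
    refine hx0 (funext fun i => Subtype.ext ?_)
    fin_cases i
    exacts [a0, a1, a2, h]
  refine ⟨(x 3 : K)⁻¹ * a, ?_⟩
  have h4 : sg (x 3 : K)⁻¹ = (x 3 : K)⁻¹ := by rw [sg_inv, hs]
  rw [Nr_mul, Nr_fix h4, mul_left_comm, Tr_smul h4]
  field_simp
  linear_combination h2

end CL.TD
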