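/-
Project TD: stabilised chains, and subgroups containing a conjugate of the Sylow subgroup.
-/
import Cfsg.Agent.TD.Defs1
import Cfsg.Agent.Fus.SylIn

set_option autoImplicit false

namespace CL.TD

open Cfsg CL.Fus CL.U5

universe u

namespace Chn

variable {V : Type u} [AddCommGroup V] [Finite V]

theorem keep {Y : ℕ → AddSubgroup V} (h0 : Y 0 = ⊥) (hm : ∀ i, Y i ≤ Y (i + 1)) {s : Au V}
    (hs : ∀ i, ∀ v ∈ Y (i + 1), s v - v ∈ Y i) (i : ℕ) : ∀ v ∈ Y i, s v ∈ Y i := fun v hv => by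
  cases i with
  | zero =>
    rw [h0, AddSubgroup.mem_bot] at hv
    rw [hv, map_zero]
    exact zero_mem _
  | succ i => simpa using add_mem (hm i (hs i v hv)) hv

/-- the stabiliser of the chain in `L` -/
def stab (L : Subgroup (Au V)) (Y : ℕ → AddSubgroup V) (h0 : Y 0 = ⊥) (hm : ∀ i, Y i ≤ Y (i + 1)) :
    Subgroup (Au V) where
  carrier := {s | s ∈ L ∧ ∀ i, ∀ v ∈ Y (i + 1), s v - v ∈ Y i}
  one_mem' := ⟨one_mem _, fun i v _ => by rw [au_one, sub_self]; exact zero_mem _⟩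
  mul_mem' := by
    rintro s t ⟨s1, s2⟩ ⟨t1, t2⟩
    refine ⟨mul_mem s1 t1, fun i v hv => ?_⟩
    simpa [au_mul] using add_mem (s2 i _ (keep h0 hm t2 _ v hv)) (t2 i v hv)
  inv_mem' := by
    rintro s ⟨s1, s2⟩
    refine ⟨inv_mem s1, fun i v hv => ?_⟩
    have := neg_mem (s2 i _ (inv_mem_of (W := (Y (i + 1) : Set V)) (keep h0 hm s2 _) hv))
    rwa [au_apply_inv, neg_sub] at this

theorem stab_isP {p : ℕ} (hp : ∀ v : V, p • v = 0) (L : Subgroup (Au V)) {Y : ℕ → AddSubgroup V} (h0 : Y 0 = ⊥)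
    (hm : ∀ i, Y i ≤ Y (i + 1)) {n : ℕ} (hn : Y n = ⊤) : IsPGroup p (stab L Y h0 hm) := by
  intro s
  have key : ∀ i, ∀ v ∈ Y i, ((s : Au V) ^ p ^ i) v = v := fun i => by
    induction i with
    | zero =>
      intro v hv
      rw [h0, AddSubgroup.mem_bot] at hv
      rw [hv, map_zero]
    | succ i ih =>
      intro v hv
      have hw := ih _ ((pow_mem s.2 (p ^ i)).2 i v hv)
      have h : ∀ k : ℕ, (((s : Au V) ^ p ^ i) ^ k) v = v + k • (((s : Au V) ^ p ^ i) v - v) := fun k => by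
        induction k with
        | zero => simp
        | succ k ik => rw [pow_succ', au_mul, ik, map_add, map_nsmul, hw, succ_nsmul]; abel
      rw [pow_succ, pow_mul, h, hp, add_zero]
  exact ⟨n, Subtype.ext (au_ext fun v => key n v (hn ▸ AddSubgroup.mem_top v))⟩

theorem gen {p : ℕ} (hp : ∀ v : V, p • v = 0) {T L : Subgroup (Au V)} (h : SylIn p T L) {n : ℕ}
    {X : ℕ → AddSubgroup V} (h0 : X 0 = ⊥) (hn : X n = ⊤) (hT : ∀ t ∈ T, ∀ i, ∀ v ∈ X i, t v ∈ X i) {s : Au V}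
    (hs : s ∈ L) (hX : ∀ i, ∀ v ∈ X (i + 1), s v - v ∈ X i) : s ∈ T := by
  let Y : ℕ → AddSubgroup V := fun i => ⨆ j ≤ i, X j
  have le : ∀ {i j}, j ≤ i → X j ≤ Y i := fun {i j} hj => le_iSup₂_of_le j hj le_rfl
  have y0 : Y 0 = ⊥ := le_bot_iff.1 (iSup₂_le fun j hj => by rw [Nat.le_zero.1 hj, h0])
  have ym : ∀ i, Y i ≤ Y (i + 1) := fun i => iSup₂_le fun j hj => le (Nat.le_succ_of_le hj)
  have yn : Y n = ⊤ := top_le_iff.1 (hn ▸ le le_rfl)
  have yT : ∀ t ∈ T, ∀ i, ∀ v ∈ Y i, t v ∈ Y i := fun t ht i =>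
    show Y i ≤ (Y i).comap t.toLinearMap.toAddMonoidHom from iSup₂_le fun j hj v hv => le hj (hT t ht j v hv)
  have ys : ∀ i, ∀ v ∈ Y (i + 1), s v - v ∈ Y i := fun i =>
    show Y (i + 1) ≤ (Y i).comap (s.toLinearMap.toAddMonoidHom - AddMonoidHom.id V) from
      iSup₂_le fun j hj v hv => by
        change s v - v ∈ Y i
        cases j with
        | zero =>
          rw [h0, AddSubgroup.mem_bot] at hv
          rw [hv, map_zero, sub_zero]
          exact zero_mem _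
        | succ j => exact le (Nat.le_of_succ_le_succ hj) (hX j v hv)
  have cj : ∀ t ∈ T, ∀ x ∈ stab L Y y0 ym, t * x * t⁻¹ ∈ stab L Y y0 ym := fun t ht x hx =>
    ⟨mul_mem (mul_mem (h.le ht) hx.1) (inv_mem (h.le ht)), fun i v hv => by
      have := yT t ht i _ (hx.2 i _ (yT _ (inv_mem ht) _ v hv))
      rwa [map_sub, au_apply_inv] at this⟩
  refine h.le_of_normalizes (stab_isP hp L y0 ym yn) (fun x hx => hx.1) (fun t ht => ?_) ⟨hs, ys⟩
  refine Subgroup.mem_normalizer_iff.2 fun x => ⟨cj t ht x, fun hx => ?_⟩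
  simpa [mul_assoc] using cj _ (inv_mem ht) _ hx

end Chn

variable (K : Type u) [Field K] [TF K]

theorem chn : CHN K := by
  intro p _ _ L h n X h0 hn g hg hT s hs hX
  have hp : ∀ v : V8 K, p • v = 0 := fun v => by
    rw [← Nat.cast_smul_eq_nsmul (Fx K), show ((p : ℕ) : Fx K) = 0 from Subtype.ext (by simp), zero_smul]
  obtain ⟨_, ⟨a, rfl⟩, e⟩ := Chn.gen hp (h.conj_of_mem hg) h0 hn (by
    rintro _ ⟨_, ⟨a, rfl⟩, rfl⟩
    exact hT a) hs hX
  refine ⟨a, ?_⟩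
  rw [← e]
  simp [mul_assoc]

theorem sub : SUB K := by
  intro p _ _ L h hti X hXL g hg hgX a ha haX x
  have h1 : SylIn p ((TM K).map (MulAut.conj g).toMonoidHom) X := (h.syl.conj_of_mem hg).mono (by
    rintro _ ⟨_, ⟨b, rfl⟩, rfl⟩
    exact hgX b) hXL
  obtain ⟨y, hy, h2⟩ := h1.exists_conj_le (Z := Subgroup.zpowers (Mt a))
    (h.syl.isPGroup.to_le (Subgroup.zpowers_le.2 (Mt_mem a))) (Subgroup.zpowers_le.2 haX)
  obtain ⟨_, ⟨a', rfl⟩, e⟩ := h2 _ (Subgroup.mem_zpowers _)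
  have e' : g * Mt a' * g⁻¹ = y * Mt a * y⁻¹ := e
  have h3 := hti (y⁻¹ * g) (mul_mem (inv_mem (hXL hy)) hg) a a' ha (by
    calc y⁻¹ * g * Mt a' * (y⁻¹ * g)⁻¹ = y⁻¹ * (g * Mt a' * g⁻¹) * y := by group
      _ = Mt a := by rw [e']; group)
  choose f hf using h3
  have hinj : Function.Injective f := fun b c hbc => Mt_inj (by
    have := (hf b).symm.trans ((congrArg Mt hbc).trans (hf c))
    simpa using this)
  obtain ⟨b, rfl⟩ := Finite.injective_iff_surjective.1 hinj x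
  have e2 : Mt (f b) = y⁻¹ * (g * Mt b * g⁻¹) * y := by rw [hf]; group
  rw [e2]
  exact mul_mem (mul_mem (inv_mem hy) (hgX b)) hy

end CL.TD
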