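/-
Project TD: the derived subgroups of `U K`, `Q1 K`, `Q2 K`, and generation of the torus.
-/
import Cfsg.Agent.TD.Fld

set_option autoImplicit false
set_option linter.unusedSectionVars false
set_option linter.unusedSimpArgs false

namespace CL.TD

open Cfsg CL.Fus CL.U5
open scoped commutatorElement

universe u

variable {K : Type u} [Field K] [TF K]

namespace Comx

theorem mem_comm_iff {G : Type*} [Group G] (Q : Subgroup G) (x : Q) : x ∈ commutator Q ↔ (x : G) ∈ ⁅Q, Q⁆ := by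
  rw [← Subgroup.map_subtype_commutator]
  exact ⟨fun h => ⟨x, h, rfl⟩, fun ⟨y, hy, e⟩ => (Subtype.ext e : y = x) ▸ hy⟩

theorem z1 {g : U K} (h : g ∈ Z K) : g ∈ ⁅Q1 K, Q1 K⁆ := by
  have e : g = ⁅xb (1 : K) sg_one, xy (-g.z) (by simp)⁆ := by
    ext <;> simp [xb, xy, h.1, h.2.1, h.2.2.1, h.2.2.2.1, h.2.2.2.2]
  rw [e]
  exact Subgroup.commutator_mem_commutator (show _ = _ from rfl) (show _ = _ from rfl)

theorem z2 {g : U K} (h : g ∈ Z2 K) : g ∈ ⁅Q2 K, Q2 K⁆ := by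
  obtain ⟨s, hs⟩ := exists_Tr (one_ne_zero (α := K)) g.hy
  obtain ⟨t, ht⟩ := exists_Tr (one_ne_zero (α := K)) g.hz
  rw [mul_one] at hs ht
  have e : g = ⁅xa (1 : K), xd s⁆ * ⁅xc (1 : K), xd t⁆ := by
    ext <;> simp [xa, xc, xd, h.1, h.2.1, h.2.2.1, h.2.2.2, hs, ht]
  rw [e]
  exact mul_mem (Subgroup.commutator_mem_commutator (show _ = _ from rfl) (show _ = _ from rfl))
    (Subgroup.commutator_mem_commutator (show _ = _ from rfl) (show _ = _ from rfl))

theorem z3 {g : U K} (h : g ∈ Z3 K) : g ∈ ⁅Q2 K, Q2 K⁆ := by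
  obtain ⟨s, t, s', t', e⟩ := exists_cr g.d
  have k : ⁅xa t, xc s⁆ * ⁅xa t', xc s'⁆ ∈ ⁅Q2 K, Q2 K⁆ :=
    mul_mem (Subgroup.commutator_mem_commutator (show _ = _ from rfl) (show _ = _ from rfl))
      (Subgroup.commutator_mem_commutator (show _ = _ from rfl) (show _ = _ from rfl))
  have k2 : g * (⁅xa t, xc s⁆ * ⁅xa t', xc s'⁆)⁻¹ ∈ Z2 K := by
    simp [mem_Z2, xa, xc, h.1, h.2.1, h.2.2, e]
  exact (mul_mem_cancel_right (inv_mem k)).1 (z2 k2)

theorem z4 {g : U K} (h : g ∈ Z4 K) : g ∈ commutator (U K) := by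
  have k : ⁅xa g.c, xb (1 : K) sg_one⁆ ∈ commutator (U K) := Subgroup.commutator_mem_commutator trivial trivial
  have k2 : g * ⁅xa g.c, xb (1 : K) sg_one⁆⁻¹ ∈ Z3 K := by
    simp [mem_Z3, xa, xb, h.1, h.2]
  exact (mul_mem_cancel_right (inv_mem k)).1 (Subgroup.commutator_mono le_top le_top (z3 k2))

end Comx

open Comx

theorem com : COM K := by
  refine ⟨fun x => ⟨fun h => ?_, z4⟩, fun x => ?_, fun x => ?_⟩
  · exact (Subgroup.commutator_le.2 fun g _ k _ => comm_mem_Z4 g k : ⁅(⊤ : Subgroup (U K)), ⊤⁆ ≤ Z4 K) h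
  · rw [mem_comm_iff]
    exact ⟨fun h => (Subgroup.commutator_le.2 fun g hg k hk => comm_Q1 hg hk : ⁅Q1 K, Q1 K⁆ ≤ Z K) h, z1⟩
  · rw [mem_comm_iff]
    exact ⟨fun h => (Subgroup.commutator_le.2 fun g hg k hk => comm_Q2 hg hk : ⁅Q2 K, Q2 K⁆ ≤ Z3 K) h, z3⟩

theorem tor : TOR K := by
  intro H h1 h2 h hγ
  let f : {h : Par K // h.γ = 1} → {h : Par K // h.γ = 1} := fun h =>
    ⟨ha h.1.l * hb h.1.m h.1.hm, RingEquiv.ext fun x => rfl⟩
  have inj : Function.Injective f := fun a b e => by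
    have el := congrArg (fun x => (x.1.l : K)) e
    have em := congrArg (fun x => (x.1.m : K)) e
    simp only [f, par_mul_l, par_mul_m, ha_l, ha_m, ha_γ, hb_l, hb_m] at el em
    have u0 := a.1.l.ne_zero
    have u1 := b.1.l.ne_zero
    have v0 := a.1.m.ne_zero
    have v1 := b.1.m.ne_zero
    have n0 : Nr (a.1.l : K) ≠ 0 := by simp
    have n1 : Nr (b.1.l : K) ≠ 0 := by simp
    obtain ⟨w, hw⟩ : ∃ w : K, (a.1.l : K) = w * b.1.l := ⟨a.1.l / b.1.l, by field_simp⟩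
    obtain ⟨k, hk⟩ : ∃ k : K, (a.1.m : K) = k * b.1.m := ⟨a.1.m / b.1.m, by field_simp⟩
    have k0 : k ≠ 0 := by rintro rfl; simp at hk
    have kf : sg k = k := by
      have := a.1.hm
      rw [hk, sg_mul, b.1.hm] at this
      exact mul_right_cancel₀ v1 this
    have nw : Nr w ≠ 0 := by rw [hw, Nr_mul] at n0; exact left_ne_zero_of_mul n0
    have e1 : w * w = k := by
      rw [hw, hk] at el
      field_simp at el
      linear_combination el
    have e2 : k ^ 2 = Nr w := by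
      rw [hw, hk, Nr_mul] at em
      field_simp at em
      linear_combination em
    have e3 : Nr w * Nr w = k ^ 3 := by rw [← Nr_mul, e1, Nr_fix kf]
    have e4 : k = 1 := mul_right_cancel₀ (pow_ne_zero 3 k0) (by rw [← e2] at e3; linear_combination e3)
    have e5 : w = 1 := by
      rcases mul_self_eq_one_iff.1 (e1.trans e4) with e | e
      · exact e
      · rw [e, e4, Nr_neg, Nr_one] at e2
        linear_combination e - e2
    exact Subtype.ext (par_ext (by rw [hw, e5, one_mul]) (by rw [hk, e4, one_mul]) fun x => by rw [a.2, b.2])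
  obtain ⟨a, e⟩ := Finite.injective_iff_surjective.1 inj ⟨h, hγ⟩
  rw [← show ha a.1.l * hb a.1.m a.1.hm = h from congrArg Subtype.val e]
  exact mul_mem (h1 _) (h2 _ _)

end CL.TD
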