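/-
Project TD: the centralizer of the torus in the automorphisms of `Q1` that are trivial on `Q1 / Z`.
-/
import Cfsg.Agent.TD.Fld

set_option autoImplicit false
set_option linter.unusedSectionVars false
set_option linter.unusedSimpArgs false

namespace CL.TD

open Cfsg CL.Fus CL.U5
open scoped commutatorElement

universe u

variable {K : Type u} [Field K] [TF K]

namespace cp1x

def qb (t : K) (h : sg t = t) : Q1 K := ⟨xb t h, rfl⟩
def qc (t : K) : Q1 K := ⟨xc t, rfl⟩
def qd (t : K) : Q1 K := ⟨xd t, rfl⟩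
def qy (t : K) (h : sg t = t) : Q1 K := ⟨xy t h, rfl⟩
def qz (t : K) (h : sg t = t) : Q1 K := ⟨xz t h, rfl⟩

theorem nfq (g : Q1 K) : g = qb g.1.b g.1.hb * qc g.1.c * qd g.1.d * qy g.1.y g.1.hy * qz g.1.z g.1.hz :=
  Subtype.ext (by ext <;> simp [qb, qc, qd, qy, qz, xb, xc, xd, xy, xz, mem_Q1.1 g.2])

theorem lin (μ : Q1 K → K) (add : ∀ x y, μ (x * y) = μ x + μ y)
    (eqv : ∀ (l m : Kˣ) (hm : sg (m : K) = m) (x y : Q1 K), (y : U K) = act ⟨l, m, 1, hm⟩ x →
      μ y = Nr (l : K) * (m : K) ^ 2 * μ x) (x : Q1 K) :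
    μ x = x.1.b * μ (qb 1 sg_one) + x.1.y * μ (qy 1 sg_one) := by
  have one : μ 1 = 0 := by have := add 1 1; rw [mul_one] at this; linear_combination -this
  have hb : ∀ t ht, μ (qb t ht) = t * μ (qb 1 sg_one) := fun t ht => by
    by_cases h0 : t = 0
    · subst h0
      rw [show qb (0 : K) ht = 1 from rfl, one, zero_mul]
    obtain ⟨l, hl⟩ := exists_Nr (s := t⁻¹) (by rw [sg_inv, ht])
    have l0 : l ≠ 0 := by rintro rfl; rw [Nr_zero] at hl; exact inv_ne_zero h0 hl.symm
    rw [eqv (Units.mk0 l l0) (Units.mk0 t h0) ht (qb 1 sg_one) (qb t ht) (by ext <;> simp [qb, xb])]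
    simp only [Units.val_mk0, hl]
    field_simp
  have hy : ∀ t ht, μ (qy t ht) = t * μ (qy 1 sg_one) := fun t ht => by
    by_cases h0 : t = 0
    · subst h0
      rw [show qy (0 : K) ht = 1 from rfl, one, zero_mul]
    obtain ⟨l, hl⟩ := exists_Nr ht
    have l0 : l ≠ 0 := by rintro rfl; rw [Nr_zero] at hl; exact h0 hl.symm
    rw [eqv (Units.mk0 l l0) 1 sg_one (qy 1 sg_one) (qy t ht) (by ext <;> simp [qy, xy, hl])]
    simp [hl]
  have hc : ∀ t, μ (qc t) = Nr t * μ (qc 1) := fun t => by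
    by_cases h0 : t = 0
    · subst h0
      rw [show qc (0 : K) = 1 from rfl, one, Nr_zero, zero_mul]
    rw [eqv (Units.mk0 t h0) 1 sg_one (qc 1) (qc t) (by ext <;> simp [qc, xc])]
    simp
  have hc0 : μ (qc 1) = 0 := Nr_not_add fun s t => by
    rw [← hc, ← hc, ← hc, ← add]
    congr 1
    exact Subtype.ext (by ext <;> simp [qc, xc])
  have hd : ∀ t, μ (qd t) = Nr t * μ (qd 1) := fun t => by
    by_cases h0 : t = 0
    · subst h0
      rw [show qd (0 : K) = 1 from rfl, one, Nr_zero, zero_mul]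
    have n0 : Nr t ≠ 0 := by simpa using h0
    have e1 : sh t⁻¹ * Nr t = t := by
      have h1 : sg t ≠ 0 := by simpa using h0
      have h2 : sg (sg t) ≠ 0 := by simpa using h0
      simp only [sh, Nr, sg_inv]; field_simp
    have e2 : Nr t⁻¹ * Nr t = 1 := by rw [← Nr_mul, inv_mul_cancel₀ h0, Nr_one]
    rw [eqv (Units.mk0 t⁻¹ (inv_ne_zero h0)) (Units.mk0 (Nr t) n0) (sg_Nr t) (qd 1) (qd t)
      (by ext <;> simp only [qd, xd, act_a, act_b, act_c, act_d, act_y, act_z, Units.val_mk0, map_zero, map_one,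
        mul_zero, mul_one, e1])]
    simp only [Units.val_mk0]
    linear_combination Nr t * μ (qd 1) * e2
  have hd0 : μ (qd 1) = 0 := Nr_not_add fun s t => by
    rw [← hd, ← hd, ← hd, ← add]
    congr 1
    exact Subtype.ext (by ext <;> simp [qd, xd])
  have hz : ∀ t ht, μ (qz t ht) = 0 := fun t ht => by
    have e : qy t ht * qb 1 sg_one = qb 1 sg_one * qy t ht * qz t ht :=
      Subtype.ext (by ext <;> simp [qb, qy, qz, xb, xy, xz])
    have := congrArg μ e
    rw [add, add, add] at this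
    linear_combination -this
  rw [congrArg μ (nfq x), add, add, add, add, hb, hc, hd, hy, hz, hc0, hd0]
  ring

end cp1x

open cp1x

theorem cp1 : CP1 K := by
  intro n hn hT
  have co : ∀ x : Q1 K, (n x : U K).b = x.1.b ∧ (n x : U K).c = x.1.c ∧ (n x : U K).d = x.1.d ∧
      (n x : U K).y = x.1.y := fun x => by
    obtain ⟨w, hw, e⟩ : ∃ w ∈ Z K, (n x : U K) = x * w := ⟨_, hn x, by rw [mul_inv_cancel_left]⟩
    obtain ⟨-, w2, w3, w4, w5⟩ := mem_Z.1 hw
    rw [e]
    simp [w2, w3, w4, w5]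
  have key := lin (fun x : Q1 K => (n x : U K).z - x.1.z) (fun x y => by
      obtain ⟨-, -, x3, x4⟩ := co x
      obtain ⟨y1, y2, -, -⟩ := co y
      simp only [map_mul, Subgroup.coe_mul, mul_z, mem_Q1.1 x.2, mem_Q1.1 (n x).2, x3, x4, y1, y2]
      ring)
    fun l m hm x y e => by
      have := hT ⟨l, m, 1, hm⟩ rfl x y e
      simp only [this, e, act_z, RingAut.one_apply]
      ring
  set β := (n (qb 1 sg_one) : U K).z - (qb (1 : K) sg_one).1.z with hβ
  set η := (n (qy 1 sg_one) : U K).z - (qy (1 : K) sg_one).1.z with hη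
  have fβ : sg β = β := by simp [hβ]
  have fη : sg (-η) = -η := by simp [hη]
  refine ⟨xb (-η) fη * xy β fβ, by simp [mem_Q1, xb, xy], MulEquiv.ext fun x => Subtype.ext ?_⟩
  obtain ⟨x1, x2, x3, x4⟩ := co x
  have x5 := key x
  rw [MulAut.conjNormal_apply]
  ext <;> simp [xb, xy, mem_Q1.1 x.2, mem_Q1.1 (n x).2, x1, x2, x3, x4]
  linear_combination x5

end CL.TD
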