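/-
Project TD: the torus has no fixed point on the automorphisms of `Q2` trivial on `Q2 / Z3`.
-/
import Cfsg.Agent.TD.Fld

set_option autoImplicit false
set_option linter.unusedSectionVars false
set_option linter.unusedSimpArgs false

namespace CL.TD

open Cfsg CL.Fus CL.U5
open scoped commutatorElement

universe u

variable {K : Type u} [Field K] [TF K]

namespace CP2x

theorem fix (n : MulAut (Q2 K)) (h3 : ∀ x : Q2 K, (x : U K)⁻¹ * n x ∈ Z3 K)
    (hT : ∀ h : Par K, h.γ = 1 → ∀ x y : Q2 K, (y : U K) = act h x → (n y : U K) = act h (n x))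
    (x : K → Q2 K) (hx : ∀ t, (x t : U K).d = 0 ∧ (x t : U K).y = 0 ∧ (x t : U K).z = 0)
    (add : ∀ s t, x (s + t) = x s * x t) (ac : (∀ t, (x t : U K).a = 0) ∨ ∀ t, (x t : U K).c = 0)
    (tor : ∀ l : Kˣ, (x l : U K) = act ⟨l, 1, 1, sg_one⟩ (x 1)) (t : K) : n (x t) = x t := by
  have hb : ∀ g : Q2 K, (g : U K).b = 0 := fun g => g.2
  have ha : ∀ g : Q2 K, (n g : U K).a = (g : U K).a := fun g => by
    have := (h3 g).1
    simp only [mul_a, inv_a] at this
    linear_combination this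
  have hc : ∀ g : Q2 K, (n g : U K).c = (g : U K).c := fun g => by
    have := (h3 g).2.2
    simp only [mul_c, inv_c, hb] at this
    linear_combination this
  have x0 : x 0 = 1 := by
    have := add 0 0
    rwa [add_zero, left_eq_mul] at this
  have sc : ∀ l : K, (n (x l) : U K).d = sh l * (n (x 1) : U K).d ∧ (n (x l) : U K).y = Nr l * (n (x 1) : U K).y ∧
      (n (x l) : U K).z = Nr l * (n (x 1) : U K).z := fun l => by
    by_cases hl : l = 0
    · subst hl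
      simp [x0]
    · have := hT _ rfl _ _ (tor (Units.mk0 l hl))
      rw [Units.val_mk0] at this
      rw [this]
      simp
  have ad : ∀ s t, (n (x (s + t)) : U K) = (n (x s) : U K) * n (x t) := fun s t => by
    rw [add, map_mul, Subgroup.coe_mul]
  have d1 : (n (x 1) : U K).d = 0 := sh_not_add fun s t => by
    rw [← (sc _).1, ← (sc s).1, ← (sc t).1, ad]
    rcases ac with e | e <;> simp [hb, ha, hc, e]
  have d0 : ∀ t, (n (x t) : U K).d = 0 := fun t => by rw [(sc t).1, d1, mul_zero]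
  have y1 : (n (x 1) : U K).y = 0 := Nr_not_add fun s t => by
    rw [← (sc _).2.1, ← (sc s).2.1, ← (sc t).2.1, ad]
    rcases ac with e | e <;> simp [hb, ha, hc, d0, e]
  have z1 : (n (x 1) : U K).z = 0 := Nr_not_add fun s t => by
    rw [← (sc _).2.2, ← (sc s).2.2, ← (sc t).2.2, ad]
    rcases ac with e | e <;> simp [hb, ha, hc, d0, e]
  refine Subtype.ext (U.ext (ha _) (by rw [hb, hb]) (hc _) (by rw [d0, (hx t).1]) ?_ ?_)
  · rw [(sc t).2.1, y1, mul_zero, (hx t).2.1]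
  · rw [(sc t).2.2, z1, mul_zero, (hx t).2.2]

theorem gen (E : Subgroup (U K)) (ha : ∀ t, xa t ∈ E) (hc : ∀ t, xc t ∈ E) : Q2 K ≤ E := by
  have cm : ∀ {g h : U K}, g ∈ E → h ∈ E → ⁅g, h⁆ ∈ E := fun hg hh =>
    E.mul_mem (E.mul_mem (E.mul_mem hg hh) (E.inv_mem hg)) (E.inv_mem hh)
  have hd : ∀ d : K, ∃ e ∈ E, e ∈ Z3 K ∧ e.d = d := fun d => by
    obtain ⟨s, t, s', t', rfl⟩ := exists_cr d
    refine ⟨⁅xa t, xc s⁆ * ⁅xa t', xc s'⁆, E.mul_mem (cm (ha _) (hc _)) (cm (ha _) (hc _)),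
      mul_mem (comm_Q2 rfl rfl) (comm_Q2 rfl rfl), ?_⟩
    simp [xa, xc]
  have hy : ∀ s h, xy s h ∈ E := fun s h => by
    obtain ⟨d, rfl⟩ := exists_Tr (one_ne_zero (α := K)) h
    obtain ⟨e, he, k, rfl⟩ := hd d
    have : xy _ h = ⁅xa (1 : K), e⁆ := by ext <;> simp [xa, xy, k.1, k.2.1, k.2.2]
    exact this ▸ cm (ha 1) he
  have hz : ∀ s h, xz s h ∈ E := fun s h => by
    obtain ⟨d, rfl⟩ := exists_Tr (one_ne_zero (α := K)) h
    obtain ⟨e, he, k, rfl⟩ := hd d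
    have : xz _ h = ⁅xc (1 : K), e⁆ := by ext <;> simp [xc, xz, k.1, k.2.1, k.2.2]
    exact this ▸ cm (hc 1) he
  have h2 : Z2 K ≤ E := fun g k => by
    have : g = xy g.y g.hy * xz g.z g.hz := by ext <;> simp [xy, xz, k.1, k.2.1, k.2.2.1, k.2.2.2]
    exact this ▸ E.mul_mem (hy _ _) (hz _ _)
  have h3 : Z3 K ≤ E := fun g k => by
    obtain ⟨e, he, k', e'⟩ := hd g.d
    have : g * e⁻¹ ∈ Z2 K := by simp [mem_Z2, k.1, k.2.1, k.2.2, k'.1, k'.2.1, k'.2.2, e']
    exact (E.mul_mem_cancel_right (E.inv_mem he)).1 (h2 this)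
  intro g k
  have : (xc g.c)⁻¹ * g * (xa g.a)⁻¹ ∈ Z3 K := by simp [mem_Z3, xa, xc, mem_Q2.1 k]
  exact (E.mul_mem_cancel_left (E.inv_mem (hc _))).1 ((E.mul_mem_cancel_right (E.inv_mem (ha _))).1 (h3 this))

end CP2x

theorem cp2 : CP2 K := by
  intro n h3 hT
  have ha := CP2x.fix n h3 hT (fun t => ⟨xa t, rfl⟩) (fun _ => ⟨rfl, rfl, rfl⟩)
    (fun s t => Subtype.ext (by ext <;> simp [xa])) (.inr fun _ => rfl) fun l => by ext <;> simp [xa]
  have hc := CP2x.fix n h3 hT (fun t => ⟨xc t, rfl⟩) (fun _ => ⟨rfl, rfl, rfl⟩)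
    (fun s t => Subtype.ext (by ext <;> simp [xc])) (.inl fun _ => rfl) fun l => by ext <;> simp [xc]
  have := CP2x.gen ((MonoidHom.eqLocus n.toMonoidHom (MonoidHom.id _)).map (Q2 K).subtype)
    (fun t => ⟨_, ha t, rfl⟩) fun t => ⟨_, hc t, rfl⟩
  refine MulEquiv.ext fun g => ?_
  obtain ⟨g', e, e'⟩ := this g.2
  obtain rfl : g' = g := Subtype.ext e'
  exact e

end CL.TD
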