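/-
Project TD: essential subgroups in odd characteristic, tools and the statements of the parts.
-/
import Cfsg.Agent.TD.Fld
import Cfsg.Agent.U5.TV
import Cfsg.Agent.U5.TV0

set_option autoImplicit false
set_option linter.unusedSectionVars false
set_option linter.unusedVariables false

namespace CL.TD

open Cfsg CL.Fus CL.U5
open scoped commutatorElement

universe u

section Gen
variable {U : Type u} [Group U]

/-- no quadratic pair on the section `V / N` -/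
def PairS (E : Subgroup U) (M B : (U → U) → Prop) (N V : Subgroup U) : Prop :=
  ∀ f x y, M f → ¬ B f → Nm E x → x ∉ E → Nm E y → y ∉ E → (∀ v ∈ V, ⁅⁅v, x⁆, x⁆ ∈ N) →
    (∀ v ∈ V, ⁅f ⁅v, y⁆, x⁆ ∈ N) → False

/-- a critical subgroup with a minimal automizer -/
structure Crit2 (E : Subgroup U) (M B : (U → U) → Prop) : Prop extends Crit E M B where
  dich : ∀ N V : Subgroup U, Inv E M N → Inv E M V → N ≤ V →
    (∀ X, N ≤ X → X ≤ V → (∀ s, Nm E s → ∀ v ∈ X, cj s v ∈ X) → Inv E M X) ∨ PairS E M B N V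

variable {E : Subgroup U} {M B : (U → U) → Prop} {N V X : Subgroup U}

theorem comm_mem_of_inv (h : Crit E M B) (hN : Inv E M N) {x n : U} (hx : Nm E x) (hn : n ∈ N) : ⁅n, x⁆ ∈ N := by
  have := mul_mem hn (inv_mem (hN.2 _ (h.conj hx) n hn))
  rwa [show n * (cj x n)⁻¹ = ⁅n, x⁆ by simp only [cj, commutatorElement_def]; group] at this

/-- either a normal subgroup of the section is invariant or there is no quadratic pair -/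
theorem Crit2.dn (h : Crit2 E M B) (hN : Inv E M N) (hV : Inv E M V) [X.Normal] (h1 : N ≤ X) (h2 : X ≤ V) :
    Inv E M X ∨ PairS E M B N V :=
  (h.dich N V hN hV (h1.trans h2)).imp_left fun k => k X h1 h2 fun s _ v hv => ‹X.Normal›.conj_mem v hv s

/-- a section centralized by an element of the normalizer outside `E` -/
theorem Crit2.db (h : Crit2 E M B) (hN : Inv E M N) (hV : Inv E M V) {x : U} (hx : Nm E x) (hx' : x ∉ E)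
    (hc : ∀ v ∈ V, ⁅v, x⁆ ∈ N) [X.Normal] (h1 : N ≤ X) (h2 : X ≤ V) : Inv E M X :=
  (h.dn hN hV h1 h2).resolve_right fun k => by
    obtain ⟨f, hf, nf⟩ := h.out
    exact k f x x hf nf hx hx' hx hx' (fun v hv => comm_mem_of_inv h.toCrit hN hx (hc v hv))
      fun v hv => comm_mem_of_inv h.toCrit hN hx (hN.2 f hf _ (hc v hv))

open TVx in
/-- transvection groups in different points of a section without quadratic pairs -/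
theorem tv2 [Finite U] (h : Crit E M B) [N.Normal] {I : Type u} (A Zc H : I → Subgroup U) (ps : PairS E M B N V)
    (hN : Inv E M N) (hV : Inv E M V) (hVc : ∀ v ∈ V, ∀ e ∈ E, ⁅e, v⁆ ∈ N)
    (hZ : ∀ i, N ≤ Zc i ∧ Zc i ≤ V ∧ Zc i ≤ H i) (nm : ∀ i, ∀ a ∈ A i, Nm E a)
    (hA : ∀ i, ∀ a ∈ A i, ∀ v ∈ V, ⁅v, a⁆ ∈ Zc i) (hAH : ∀ i, ∀ a ∈ A i, ∀ v ∈ V, v ∈ H i → ⁅v, a⁆ ∈ N)
    (htr : ∀ i, ∀ w ∈ V, w ∉ H i → ∀ z ∈ Zc i, ∃ a ∈ A i, ⁅w, a⁆⁻¹ * z ∈ N)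
    (hfix : ∀ i, ∀ a ∈ A i, a ∉ E → ∀ v ∈ V, ⁅v, a⁆ ∈ N → v ∈ H i) (hout : ∀ i, ∃ a ∈ A i, a ∉ E)
    (hcard : ∀ i j, Nat.card (Zc i) = Nat.card (Zc j)) {f : U → U} (hf : M f) (nf : ¬ B f) (i j : I) :
    (∀ z ∈ Zc i, f z ∈ H j → z ∈ N) ∧ ∀ v ∈ V, ∃ z ∈ Zc i, v⁻¹ * f z ∈ H j := by
  obtain ⟨W, _, _, c, k⟩ := exists_cl N V fun x hx y hy => hVc y hy x (hV.1 hx)
  replace nm : ∀ {i a}, a ∈ A i → Nm E a := fun {i a} ha => nm i a ha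
  have cv : ∀ {i a v}, a ∈ A i → v ∈ V → ⁅v, a⁆ ∈ Zc i := fun {i a v} ha hv => hA i a ha v hv
  have ap : ∀ {i a F v}, a ∈ A i → Ind V c (cj a) F → v ∈ V → F (c v) = c v - c ⁅v, a⁆ := fun {i a F v} ha hF hv =>
    (hF v hv).trans (k.cj_eq hv ((hZ i).2.1 (cv ha hv)))
  have nE : ∀ {i a F}, a ∈ A i → Ind V c (cj a) F → (∃ w, F w ≠ w) → a ∉ E := fun {i a F} ha hF ⟨w, hw⟩ hE => by
    obtain ⟨v, hv, rfl⟩ := k.sur w
    rw [ap ha hF hv, (k.ker _ ((hZ i).2.1 (cv ha hv))).2 (comm_symm (hVc v hv a hE)), sub_zero] at hw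
    exact hw rfl
  have NH : ∀ i, N ≤ H i := fun i => (hZ i).1.trans (hZ i).2.2
  obtain ⟨F, hF⟩ := k.exists_ind h hN hV hf
  have main := tv0 W I {F | ∃ f, M f ∧ ¬ B f ∧ Ind V c f F} (fun i => {F | ∃ a ∈ A i, Ind V c (cj a) F})
    (fun i => k.im (Zc i)) (fun i => k.im (H i)) ?_ ?_ ?_ ?_ ?_ ?_ ?_ ?_ ?_ ?_ F ⟨f, hf, nf, hF⟩ i j
  · refine ⟨fun z hz hH => ?_, fun v hv => ?_⟩
    · have zV := (hZ i).2.1 hz
      refine (k.ker z zV).1 (main.1 _ (k.mk_mem_im zV hz) ?_)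
      rw [hF z zV]
      exact k.mk_mem_im (hV.2 f hf z zV) hH
    · obtain ⟨_, ⟨z, zV, hz, rfl⟩, e⟩ := main.2 (c v)
      refine ⟨z, hz, k.mem_of_im (NH j) (mul_mem (inv_mem hv) (hV.2 f hf z zV)) ?_⟩
      rwa [k.add _ (inv_mem hv) _ (hV.2 f hf z zV), k.inv hv, neg_add_eq_sub, ← hF z zV]
  · rintro F ⟨f, hf, nf, hF⟩
    obtain ⟨g, hg, e⟩ := h.inv hf
    exact ⟨g, hg, h.outInv hf nf hg fun x hx => (e x hx).1, hF.symm fun v hv => ⟨hV.2 g hg v hv, (e v (hV.1 hv)).2⟩⟩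
  · rintro F ⟨f, hf, nf, hF⟩ i G ⟨a, ha, hG⟩ mv
    obtain ⟨g, hg, e⟩ := h.inv hf
    have ma := h.conj (nm ha)
    refine ⟨g ∘ cj a ∘ f, h.comp hg (h.comp ma hf), h.far hf nf hg (fun x hx => (e x hx).1) (nm ha) (nE ha hG mv),
      fun v hv => ?_⟩
    have fv := hV.2 f hf v hv
    show F.symm (G (F (c v))) = c (g (cj a (f v)))
    rw [hF v hv, hG _ fv, hF.symm (fun v hv => ⟨hV.2 g hg v hv, (e v (hV.1 hv)).2⟩) _ (hV.2 _ ma _ fv)]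
  · rintro i G ⟨a, ha, hG⟩
    exact ⟨a⁻¹, inv_mem ha, hG.symm fun v hv => ⟨hV.2 _ (h.conj (nm (inv_mem ha))) v hv, by simp only [cj]; group⟩⟩
  · rintro i _ ⟨z, zV, hz, rfl⟩
    exact k.mk_mem_im zV ((hZ i).2.2 hz)
  · rintro i G ⟨a, ha, hG⟩ w
    obtain ⟨v, hv, rfl⟩ := k.sur w
    rw [ap ha hG hv, sub_sub_cancel_left]
    exact neg_mem (k.mk_mem_im ((hZ i).2.1 (cv ha hv)) (cv ha hv))
  · rintro i G ⟨a, ha, hG⟩ _ ⟨v, hv, vH, rfl⟩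
    rw [ap ha hG hv, (k.ker _ ((hZ i).2.1 (cv ha hv))).2 (hAH i a ha v hv vH), sub_zero]
  · rintro i w hw _ ⟨z, zV, hz, rfl⟩
    obtain ⟨v, hv, rfl⟩ := k.sur w
    obtain ⟨a, ha, e⟩ := htr i v hv (fun vH => hw (k.mk_mem_im hv vH)) z⁻¹ (inv_mem hz)
    obtain ⟨G, hG⟩ := k.exists_ind h hN hV (h.conj (nm ha))
    refine ⟨G, ⟨a, ha, hG⟩, ?_⟩
    rw [ap ha hG hv, (k.eq_iff ((hZ i).2.1 (cv ha hv)) (inv_mem zV)).2 e, k.inv zV, sub_neg_eq_add]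
  · rintro i G ⟨a, ha, hG⟩ mv w hw
    obtain ⟨v, hv, rfl⟩ := k.sur w
    rw [ap ha hG hv, sub_eq_self] at hw
    exact k.mk_mem_im hv (hfix i a ha (nE ha hG mv) v hv ((k.ker _ ((hZ i).2.1 (cv ha hv))).1 hw))
  · intro i j
    refine Nat.eq_of_mul_eq_mul_left (Nat.card_pos (α := N)) ?_
    rw [k.card_im (hZ i).1 (hZ i).2.1, k.card_im (hZ j).1 (hZ j).2.1, hcard i j]
  · rintro F ⟨f, hf, nf, hF⟩ i j
    by_contra hc
    have fz : ∀ z ∈ Zc i, f z ∈ H j := fun z hz => by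
      have zV := (hZ i).2.1 hz
      refine k.mem_of_im (NH j) (hV.2 f hf z zV) ?_
      rw [← hF z zV]
      by_contra n
      exact hc ⟨_, k.mk_mem_im zV hz, n⟩
    obtain ⟨x, hx, xE⟩ := hout j
    obtain ⟨y, hy, yE⟩ := hout i
    exact ps f x y hf nf (nm hx) xE (nm hy) yE
      (fun e he => hAH j x hx _ ((hZ j).2.1 (hA j x hx e he)) ((hZ j).2.2 (hA j x hx e he)))
      fun e he => hAH j x hx _ (hV.2 f hf _ ((hZ i).2.1 (hA i y hy e he))) (fz _ (hA i y hy e he))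

end Gen

/-- essential subgroups are critical with a minimal automizer -/
def CRI2 : Prop := ∀ (U : Type u) [Group U] [Finite U] (p : ℕ) [Fact p.Prime], IsPGroup p U →
  ∀ F : FusionSystem (⊤ : Subgroup U), F.IsSaturated p → ∀ E, F.IsEssential p E → ∃ M B, Crit2 E M B

section Mod
variable {K : Type u} [Field K] [TF K]

/-- the commutator form on `Q2 / Z3` -/
def omw (v w : V2 K) : K := cr w.2 v.1 - cr v.2 w.1

/-- `w` is a multiple of `r` by a fixed scalar -/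
def Mu (r w : V2 K) : Prop := ∃ s, sg s = s ∧ w.1 = s * r.1 ∧ w.2 = s * r.2

/-- the vector orthogonal to both coordinates -/
def nn (r : V2 K) : K := sg r.1 * sg (sg r.2) - sg (sg r.1) * sg r.2

theorem comm_omw {g h : U K} (k : g ∈ Q2 K) (k' : h ∈ Q2 K) : ⁅g, h⁆.d = omw (pW g) (pW h) := by
  simp [omw, pW, mem_Q2.1 k, mem_Q2.1 k']

theorem comm_Z2_iff {g h : U K} (k : g ∈ Q2 K) (k' : h ∈ Q2 K) : ⁅g, h⁆ ∈ Z2 K ↔ omw (pW g) (pW h) = 0 := by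
  rw [← comm_omw k k']
  exact ⟨fun e => e.2.2.2, fun e => ⟨comm_a g h, comm_b g h, (comm_Q2 k k').2.2, e⟩⟩

/-- commutators of `Q2` with `Z3` -/
theorem comm_Q2_Z3 {g h : U K} (k : g ∈ Q2 K) (k' : h ∈ Z3 K) :
    ⁅g, h⁆.y = Tr (h.d * g.a) ∧ ⁅g, h⁆.z = Tr (h.d * g.c) := by
  simp [mem_Q2.1 k, k'.1, k'.2.1, k'.2.2, mul_comm]

theorem comm_Z3_Q2 {g h : U K} (k : g ∈ Z3 K) (k' : h ∈ Q2 K) :
    ⁅g, h⁆.y = -Tr (g.d * h.a) ∧ ⁅g, h⁆.z = -Tr (g.d * h.c) := by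
  simp [mem_Q2.1 k', k.1, k.2.1, k.2.2, mul_comm]

/-- the preimage of a pencil -/
def Pk (k : K) : Subgroup (U K) where
  carrier := {g | g.b = 0 ∧ g.c = k * g.a}
  mul_mem' := fun hg hh => ⟨by simp [hg.1, hh.1], by simp [hh.1, hg.2, hh.2, mul_add]⟩
  one_mem' := ⟨rfl, by simp⟩
  inv_mem' := fun hg => ⟨by simp [hg.1], by simp [hg.1, hg.2]⟩

theorem mem_Pk {k : K} {g : U K} : g ∈ Pk k ↔ g.b = 0 ∧ g.c = k * g.a := Iff.rfl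

/-- a line in `Z2` -/
def Ln (α γ : K) : Subgroup (U K) where
  carrier := {g | g ∈ Z2 K ∧ ∃ s, sg s = s ∧ g.y = s * α ∧ g.z = s * γ}
  mul_mem' := fun {g h} ⟨hg, s, hs, e1, e2⟩ ⟨hh, t, ht, e3, e4⟩ => ⟨mul_mem hg hh, s + t, by simp [hs, ht],
    by simp [hg.1, e1, e3, add_mul], by simp [hg.1, hg.2.2.2, hh.2.1, e2, e4, add_mul]⟩
  one_mem' := ⟨one_mem _, 0, by simp⟩
  inv_mem' := fun {g} ⟨hg, s, hs, e1, e2⟩ => ⟨inv_mem hg, -s, by simp [hs], by simp [hg.1, e1],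
    by simp [hg.1, hg.2.1, hg.2.2.2, e2]⟩

theorem mem_Ln {α γ : K} {g : U K} : g ∈ Ln α γ ↔ g ∈ Z2 K ∧ ∃ s, sg s = s ∧ g.y = s * α ∧ g.z = s * γ := Iff.rfl

theorem card_Ln {α γ : K} (h1 : sg α = α) (h2 : sg γ = γ) (h : α ≠ 0 ∨ γ ≠ 0) : Nat.card (Ln α γ) = TF.q K := by
  rw [← card_fix K]
  refine (Nat.card_congr (Equiv.ofBijective (fun s : {x : K // sg x = x} => (⟨⟨0, 0, 0, 0, s * α, s * γ, by simp,
    by simp [s.2, h1], by simp [s.2, h2]⟩, ⟨rfl, rfl, rfl, rfl⟩, s, s.2, rfl, rfl⟩ : Ln α γ)) ⟨fun s t e => ?_, ?_⟩)).symm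
  · obtain ⟨-, -, -, -, e1, e2⟩ := U.ext_iff.1 (congrArg Subtype.val e)
    exact Subtype.ext (h.elim (fun h => mul_right_cancel₀ h e1) fun h => mul_right_cancel₀ h e2)
  · rintro ⟨g, hg, s, hs, e1, e2⟩
    exact ⟨⟨s, hs⟩, Subtype.ext (U.ext hg.1.symm hg.2.1.symm hg.2.2.1.symm hg.2.2.2.symm e1.symm e2.symm)⟩

/-- the preimage of a line in `Z3 / Z2` -/
def Ld (δ : K) : Subgroup (U K) where
  carrier := {g | g ∈ Z3 K ∧ ∃ s, sg s = s ∧ g.d = s * δ}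
  mul_mem' := fun {g h} ⟨hg, s, hs, e1⟩ ⟨hh, t, ht, e3⟩ => ⟨mul_mem hg hh, s + t, by simp [hs, ht],
    by simp [hg.1, e1, e3, add_mul]⟩
  one_mem' := ⟨one_mem _, 0, by simp⟩
  inv_mem' := fun {g} ⟨hg, s, hs, e1⟩ => ⟨inv_mem hg, -s, by simp [hs], by simp [hg.1, e1]⟩

theorem mem_Ld {δ : K} {g : U K} : g ∈ Ld δ ↔ g ∈ Z3 K ∧ ∃ s, sg s = s ∧ g.d = s * δ := Iff.rfl

theorem Z2_le_Ld (δ : K) : Z2 K ≤ Ld δ := fun g hg => ⟨Z2_le_Z3 hg, 0, by simp, by simp [hg.2.2.2]⟩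

theorem card_Ld {δ δ' : K} (h : δ ≠ 0) (h' : δ' ≠ 0) : Nat.card (Ld δ) = Nat.card (Ld δ') := by
  have k : ∀ {δ δ' : K}, δ ≠ 0 → δ' ≠ 0 → Nat.card (Ld δ) ≤ Nat.card (Ld δ') := fun {δ δ'} h h' =>
    Nat.card_le_card_of_injective (fun g => ⟨⟨0, 0, 0, g.1.d / δ * δ', g.1.y, g.1.z, by simp, by simp, by simp⟩,
      ⟨rfl, rfl, rfl⟩, _, by obtain ⟨s, hs, e⟩ := g.2.2; rw [e, mul_div_cancel_right₀ _ h, hs], rfl⟩) fun g g' e => by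
      obtain ⟨-, -, -, e0, e1, e2⟩ := U.ext_iff.1 (congrArg Subtype.val e)
      exact Subtype.ext (U.ext (g.2.1.1.trans g'.2.1.1.symm) (g.2.1.2.1.trans g'.2.1.2.1.symm)
        (g.2.1.2.2.trans g'.2.1.2.2.symm) ((div_left_inj' h).1 (mul_right_cancel₀ h' e0)) e1 e2)
  exact (k h h').antisymm (k h' h)

/-- the preimage in `Q2` of the multiples of `r` -/
def Mr (r : V2 K) : Subgroup (U K) where
  carrier := {g | g ∈ Q2 K ∧ Mu r (pW g)}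
  mul_mem' := fun {g h} ⟨hg, s, hs, e1, e2⟩ ⟨hh, t, ht, e3, e4⟩ => ⟨mul_mem hg hh, s + t, by simp [hs, ht],
    by rw [pW_mul g hh, Prod.fst_add, e1, e3, add_mul], by rw [pW_mul g hh, Prod.snd_add, e2, e4, add_mul]⟩
  one_mem' := ⟨one_mem _, 0, by simp [pW]⟩
  inv_mem' := fun {g} ⟨hg, s, hs, (e1 : g.a = _), (e2 : g.c = _)⟩ => ⟨inv_mem hg, -s, by simp [hs], by simp [pW, e1],
    by simp [pW, e2, mem_Q2.1 hg]⟩

theorem mem_Mr {r : V2 K} {g : U K} : g ∈ Mr r ↔ g ∈ Q2 K ∧ Mu r (pW g) := Iff.rfl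

theorem Z3_le_Mr (r : V2 K) : Z3 K ≤ Mr r := fun g hg => ⟨hg.2.1, 0, by simp [pW, hg.1, hg.2.2]⟩

/-- the standing assumptions for an essential subgroup inside `Q2` -/
structure SX (E : Subgroup (U K)) (M B : (U K → U K) → Prop) : Prop extends Crit2 E M B where
  two : (2 : K) ≠ 0
  z2 : Z2 K ≤ E
  q2 : E ≤ Q2 K
  nq1 : ¬ E ≤ Q1 K
  npk : ∀ k, sg k = k → ¬ E ≤ Pk k

end Mod

section Parts
variable (K : Type u) [Field K] [TF K]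

def HEIS : Prop := ∀ (E : Subgroup (U K)) M B (k : K), Crit E M B → sg k = k → Z2 K ≤ E → E ≤ Pk k → Pk k ≤ E

def TWL : Prop := (2 : K) ≠ 0 → ∀ L : Subgroup (Au (V2 K)), (∀ t, ∃ g ∈ L, ∀ v, g v = (v.1, v.2 - cr t v.1)) →
  (∀ g ∈ L, PW g ∨ ∀ d, (g (0, d)).1 = 0 → d = 0) → ∀ g ∈ L, PW g

def TWG : Prop := (2 : K) ≠ 0 → ∀ M B (k : K), sg k = k → ¬ Crit2 (Pk k) M B

def XA1 : Prop := ∀ (E : Subgroup (U K)) M B, SX E M B → Inv E M (Z2 K) → Z3 K ≤ E →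
  PairS E M B (Z2 K) (czm E E (Z2 K)) → ∀ r ∈ czm E E (Z2 K), r ∉ Z3 K → ¬ czm E E (Z2 K) ≤ Mr (pW r)

def XA2 : Prop := ∀ (E : Subgroup (U K)) M B, SX E M B → Inv E M (Z2 K) → Z3 K ≤ E →
  PairS E M B (Z2 K) (czm E E (Z2 K)) → (∀ r ∈ czm E E (Z2 K), r ∉ Z3 K → ¬ czm E E (Z2 K) ≤ Mr (pW r)) →
  czm E E (Z2 K) ≤ Z3 K

def XB1 : Prop := ∀ (E : Subgroup (U K)) M B, SX E M B → PairS E M B ⊥ (cz E E) → Z3 K ≤ E → cz E E ≤ Z2 K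

def XB2 : Prop := ∀ (E : Subgroup (U K)) M B, SX E M B → ∀ r ∈ cz E E, r ∉ Z3 K → cz E E ≤ Mr (pW r) → Z3 K ≤ E

def XB3 : Prop := ∀ (E : Subgroup (U K)) M B, SX E M B → PairS E M B ⊥ (cz E E) →
  (∀ r ∈ cz E E, r ∉ Z3 K → ¬ cz E E ≤ Mr (pW r)) → cz E E ≤ Z3 K

def EY1 : Prop := ∀ (E : Subgroup (U K)) M B, (2 : K) ≠ 0 → Crit2 E M B → Z2 K ≤ E → ¬ E ≤ Q1 K → ¬ E ≤ Q2 K →
  Z3 K ≤ E ∧ Inv E M (Z K)

def EY2 : Prop := ∀ (E : Subgroup (U K)) M B, (2 : K) ≠ 0 → Crit2 E M B → Z3 K ≤ E → Inv E M (Z K) → ¬ E ≤ Q1 K →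
  ¬ E ≤ Q2 K → False

end Parts

end CL.TD
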