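/-
Project TD: essential subgroups are critical with respect to a minimal automizer.
-/
import Cfsg.Agent.TD.DefsE
import Cfsg.Agent.U5.Cri
import Cfsg.Agent.Even.Amb2

set_option autoImplicit false
set_option linter.unusedSectionVars false
set_option linter.unusedVariables false

namespace CL.TD

open Cfsg CL.Fus CL.U5 CL.U5.CRIx
open scoped commutatorElement

universe u

namespace Cri2x

variable {U : Type*} [Group U] {E X Y : Subgroup U}

/-- the automorphisms keeping `X` and acting trivially on `X / Y` -/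
def KK (E X Y : Subgroup U) (hX : X ≤ E) : Subgroup (MulAut E) where
  carrier := {α | α ∈ stabAut E X ∧ ∀ v ∈ X, v⁻¹ * autFun α v ∈ Y}
  one_mem' := ⟨one_mem _, fun v hv => by rw [autFun_one (hX hv), inv_mul_cancel]; exact one_mem _⟩
  mul_mem' := fun {α β} ha hb => ⟨mul_mem ha.1 hb.1, fun v hv => by
    have := mul_mem (hb.2 v hv) (ha.2 _ ((hb.1 v (hX hv)).2 hv))
    rwa [mul_assoc, mul_inv_cancel_left, ← autFun_mul _ _ (hX hv)] at this⟩
  inv_mem' := fun {α} ha => ⟨inv_mem ha.1, fun v hv => by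
    have := inv_mem (ha.2 _ ((inv_mem ha.1 v (hX hv)).2 hv))
    rwa [autFun_apply_inv α (hX hv), mul_inv_rev, inv_inv] at this⟩

theorem KK_conj (hX : X ≤ E) {α γ : MulAut E} (ha : α ∈ KK E X Y hX) (h1 : γ ∈ stabAut E X) (h2 : γ ∈ stabAut E Y) :
    γ * α * γ⁻¹ ∈ KK E X Y hX := ⟨mul_mem (mul_mem h1 ha.1) (inv_mem h1), fun v hv => by
  have hw := (inv_mem h1 v (hX hv)).2 hv
  have hw' := hX hw
  have := (h2 _ (mul_mem (inv_mem hw') (autFun_mem α hw'))).2 (ha.2 _ hw)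
  rwa [(homOn_autFun γ).map_mul (inv_mem hw') (autFun_mem α hw'), (homOn_autFun γ).map_inv hw',
    autFun_apply_inv γ (hX hv), ← autFun_mul _ _ hw', ← autFun_mul _ _ (hX hv)] at this⟩

theorem KK_pow {N R V : Subgroup U} (hV : V ≤ E) (hR : R ≤ E) (NR : N ≤ R) {l : MulAut E} (h1 : l ∈ KK E V R hV)
    (h2 : l ∈ KK E R N hR) (h3 : l ∈ stabAut E N) {v : U} (hv : v ∈ V) (m : ℕ) :
    (v * (v⁻¹ * autFun l v) ^ m)⁻¹ * autFun (l ^ m) v ∈ N := by
  have hr := h1.2 v hv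
  induction m with
  | zero => rw [pow_zero, pow_zero, autFun_one (hV hv), mul_one, inv_mul_cancel]; exact one_mem _
  | succ m ih =>
    have a1 := (h3 _ (hR (NR ih))).2 ih
    have a2 := h2.2 _ (pow_mem hr m)
    have b1 := hR (pow_mem hr m)
    have b2 := mul_mem (hV hv) b1
    rw [(homOn_autFun l).map_mul (inv_mem b2) (autFun_mem _ (hV hv)), (homOn_autFun l).map_inv b2,
      (homOn_autFun l).map_mul (hV hv) b1, ← autFun_mul _ _ (hV hv), ← pow_succ'] at a1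
    have := mul_mem a2 a1
    rw [pow_succ' (v⁻¹ * autFun l v), ← mul_assoc v, mul_inv_cancel_left]
    rwa [mul_inv_rev, mul_assoc, mul_assoc (autFun l _)⁻¹, mul_inv_cancel_left, ← mul_assoc, ← mul_inv_rev] at this

end Cri2x

open Cri2x in
theorem cri2_core (U : Type u) [Group U] [Finite U] (p : ℕ) [Fact p.Prime] (hU : IsPGroup p U)
    (F : FusionSystem (⊤ : Subgroup U)) (hF : F.IsSaturated p) (E : Subgroup U) (hE : F.IsEssential p E) :
    ∃ M B : (U → U) → Prop, Crit E M B ∧ ∀ N V : Subgroup U, Inv E M N → Inv E M V → N ≤ V →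
      (∀ X : Subgroup U, N ≤ X → X ≤ V → (∀ s, Nm E s → ∀ v ∈ X, cj s v ∈ X) → Inv E M X) ∨
      ∀ f x y, M f → ¬ B f → Nm E x → x ∉ E → Nm E y → y ∉ E → (∀ v ∈ V, ⁅⁅v, x⁆, x⁆ ∈ N) →
        (∀ v ∈ V, ⁅f ⁅v, y⁆, x⁆ ∈ N) → False := by
  have hS : IsPGroup p (⊤ : Subgroup U) := hU.to_subgroup _
  have hP : IsPGroup p E := hU.to_subgroup _
  obtain ⟨A, ⟨TA, AF, nA⟩, mn⟩ := (wellFounded_lt (α := Subgroup (MulAut E))).has_min
    {A | autInducedBy ⊤ E ≤ A ∧ A ≤ F.autGroup E ∧ ¬ A ≤ extAut F E}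
    ⟨_, autInducedBy_le_autGroup F le_top, le_rfl, fun k =>
      let ⟨γ, h1, h2⟩ := IsEssential.exists_notMem_extAut hS hF hE
      h2 (k h1)⟩
  have tA : ∀ {x} (hx : Nm E x), conjAut E (norm hx) ∈ A := fun hx => TA (conjAut_mem_autInducedBy _ trivial)
  have mc : ∀ {x}, Nm E x → ∃ α ∈ A, ∀ z ∈ E, autFun α z = cj x z := fun hx =>
    ⟨_, tA hx, fun z hz => autFun_conjAut _ hz⟩
  have ma : ∀ {γ}, γ ∈ A → ∃ α ∈ A, ∀ z ∈ E, autFun α z = autFun γ z := fun h => ⟨_, h, fun _ _ => rfl⟩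
  have pe : ∀ {x} (hx : Nm E x), ∃ k, conjAut E (norm hx) ^ p ^ k = 1 := fun hx =>
    (isPGroup_autInducedBy hS E ⟨_, conjAut_mem_autInducedBy (norm hx) trivial⟩).imp fun _ => congrArg Subtype.val
  have pe' : ∀ {x} (hx : Nm E x), x ∉ E → ∀ β ∈ F.autGroup E, β * conjAut E (norm hx) * β⁻¹ ∈ extAut F E →
      β ∈ extAut F E := fun hx hx' β => IsEssential.mem_extAut_of_conj hS hF hE
    (IsEssential.conjAut_mem_extAut hS hF hE trivial _) (IsEssential.conjAut_notMem_Inn hE trivial _ hx') (pe hx)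
  have lp : ∀ {x} (hx : Nm E x), x ∉ E → ∀ {P : Subgroup (MulAut E)}, IsPGroup p P → P ≤ A → conjAut E (norm hx) ∈ P →
      P ≤ extAut F E := fun hx hx' P h1 h2 h3 => IsEssential.le_extAut_of_isPGroup hS hF hE h1 (h2.trans AF) h3
    (IsEssential.conjAut_mem_extAut hS hF hE trivial (norm hx)) (IsEssential.conjAut_notMem_Inn hE trivial _ hx')
  refine ⟨fun f => ∃ α ∈ A, ∀ x ∈ E, autFun α x = f x, fun f => ∃ α ∈ extAut F E, ∀ x ∈ E, autFun α x = f x,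
    ⟨(IsEssential.lt_top hS hF hE).ne, fun ⟨α, _, k⟩ x hx => k x hx ▸ autFun_mem α hx,
    fun ⟨α, _, k⟩ x hx y hy => by rw [← k _ (mul_mem hx hy), ← k x hx, ← k y hy, (homOn_autFun α).map_mul hx hy],
    fun ⟨α, hα, k⟩ => ⟨_, ma (inv_mem hα), fun x hx =>
      ⟨by rw [← k x hx, autFun_inv_apply α hx], by rw [← k _ (autFun_mem _ hx), autFun_apply_inv α hx]⟩⟩,
    fun ⟨α, hα, k⟩ ⟨β, hβ, k'⟩ => ⟨α * β, mul_mem hα hβ, fun x hx => by
      rw [autFun_mul _ _ hx, k _ (autFun_mem _ hx), k' x hx]; rfl⟩,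
    ⟨1, one_mem _, fun x hx => autFun_one hx⟩, mc,
    fun x hx => IsCentric.centralizerIn_le hE.1 ⟨trivial, fun e he => (hx e he).eq.symm⟩, fun x hx t => ?_,
    fun N hN k => le_of_inf_normalizer_le_of_normalizes hS le_top le_top Subgroup.le_normalizer_of_normal
      fun a ha h => k a ha (nm h), ?_, fun {f g} ⟨φ, hφ, k'⟩ nf hg e ⟨β, hβ, k⟩ => nf ⟨β⁻¹, inv_mem hβ, fun x hx => ?_⟩,
    fun {f g} hf nf hg ⟨β, hβ, k⟩ ⟨α, hα, k'⟩ => nf ⟨α * β⁻¹, mul_mem hα (inv_mem hβ), fun x hx => ?_⟩,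
    fun {f g x} ⟨φ, hφ, k'⟩ nf hg e hx hx' ⟨α, hα, k⟩ => ?_,
    fun {f x y N} ⟨φ, hφ, k'⟩ nf hx hx' hy hy' hN c1 c2 c3 => ?_⟩, fun N V hN hV NV => ?_⟩
  · obtain ⟨n, C, h0, h1, h2, h3⟩ := chain t
    by_contra hx'
    have hc := mem_pCore_of_chain hP A n C (fun i γ hγ z _ hz => by
      rcases h2 i with h | h
      · rw [Subgroup.mem_bot.1 (h.le hz), (homOn_autFun γ).map_one]; exact one_mem _
      · exact h.2 _ (ma hγ) z hz) h1.ge (fun z _ hz => Subgroup.mem_bot.1 (h0.le hz)) (α := ⟨_, tA hx⟩)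
      fun i hi z hz h => by
        rw [autFun_conjAut _ hz, inv_mul_conj_eq_commutator]; exact h3 i hi _ (inv_mem h)
    have hl := lp hx hx' (isPGroup_pCore'.map (Subgroup.subtype _)) (Subgroup.map_subtype_le _) ⟨_, hc, rfl⟩
    exact nA fun β hβ => pe' hx hx' β (AF hβ)
      (hl ⟨_, (inferInstance : (pCore p _).Normal).conj_mem _ hc ⟨_, hβ⟩, rfl⟩)
  · obtain ⟨γ, h1, h2⟩ := SetLike.not_le_iff_exists.1 nA
    exact ⟨autFun γ, ma h1, fun ⟨α, hα, k⟩ => h2 (aut_ext k ▸ hα)⟩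
  · have : f x ∈ E := k' x hx ▸ autFun_mem φ hx
    rw [← autFun_inv_apply β this, k _ this, e x hx]
  · rw [autFun_mul _ _ hx, k' _ (autFun_mem _ hx), Function.comp_apply, ← k _ (autFun_mem _ hx), autFun_apply_inv β hx]
  · refine nf ⟨φ, inv_mem_iff.1 (pe' hx hx' _ (inv_mem (AF hφ)) ?_), k'⟩
    refine (congrArg (· ∈ extAut F E) (aut_ext fun z hz => ?_)).mp hα
    have h1 := autFun_mem (conjAut E (norm hx)) (autFun_mem φ hz)
    rw [inv_inv, autFun_mul _ _ hz, autFun_mul _ _ (autFun_mem φ hz), k z hz, ← e _ (autFun_mem φ⁻¹ h1),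
      ← k' _ (autFun_mem φ⁻¹ h1), autFun_apply_inv φ h1, autFun_conjAut _ (autFun_mem φ hz), k' z hz]
    rfl
  · have cN : ∀ e ∈ E, ∀ n ∈ N, e * n * e⁻¹ ∈ N := fun e he => hN.2 _ (mc (nm (Subgroup.le_normalizer he)))
    have NR : N ≤ cm E N x cN := fun n hn => ⟨hN.1 hn, c1 n hn ▸ one_mem _⟩
    have RE : cm E N x cN ≤ E := fun _ h => h.1
    have ht : conjAut E (norm hx) ∈ A ⊓ stabAut E (cm E N x cN) :=
      ⟨tA hx, mem_stabAut_of_finite RE fun z hz => by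
        rw [autFun_conjAut _ hz.1, ← cj_apply, cj_eq]
        exact mul_mem (inv_mem (NR hz.2)) hz⟩
    have hψ : φ * conjAut E (norm hy) * φ⁻¹ ∈ A ⊓ stabAut E (cm E N x cN) :=
      ⟨A.mul_mem (mul_mem hφ (tA hy)) (inv_mem hφ),
        mem_stabAut_of_finite RE fun z hz => by
          have h1 := autFun_mem φ⁻¹ hz.1
          rw [autFun_mul _ _ hz.1, autFun_mul _ _ h1, autFun_conjAut _ h1, ← cj_apply, cj_eq,
            (homOn_autFun φ).map_mul (inv_mem (hy _ h1)) h1, (homOn_autFun φ).map_inv (hy _ h1),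
            autFun_apply_inv φ hz.1]
          exact mul_mem (inv_mem ⟨autFun_mem φ (hy _ h1), k' _ (hy _ h1) ▸ c3 _ h1⟩) hz⟩
    have hc := mem_pCore_of_chain hP (A ⊓ stabAut E (cm E N x cN)) 3
      (fun i => [⊥, N, cm E N x cN].getD i E) (fun i γ hγ z hz h => match i, h with
        | 0, h => by rw [Subgroup.mem_bot.1 h, (homOn_autFun γ).map_one]; exact one_mem _
        | 1, h => hN.2 _ (ma hγ.1) z h
        | 2, h => (hγ.2 z hz).2 h
        | _ + 3, _ => autFun_mem γ hz) le_rfl (fun z _ h => Subgroup.mem_bot.1 h) (α := ⟨_, ht⟩)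
      fun i hi z hz h => by
        rw [autFun_conjAut _ hz, inv_mul_conj_eq_commutator]
        match i, hi, h with
        | 0, _, h => exact Subgroup.mem_bot.2 (c1 _ (inv_mem h))
        | 1, _, h => exact (inv_mem h : z⁻¹ ∈ cm E N x cN).2
        | 2, _, _ => exact ⟨hx _ (inv_mem hz), c2 _ (inv_mem hz)⟩
    have hl := lp hx hx' (isPGroup_pCore'.map (Subgroup.subtype _))
      ((Subgroup.map_subtype_le _).trans inf_le_left) ⟨_, hc, rfl⟩
    exact nf ⟨φ, pe' hy hy' φ (AF hφ) (pe' hx hx' _ (AF hψ.1)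
      (hl ⟨_, (inferInstance : (pCore p _).Normal).conj_mem _ hc ⟨_, hψ⟩, rfl⟩)), k'⟩
  · have st : ∀ {X : Subgroup U}, Inv E (fun f => ∃ α ∈ A, ∀ x ∈ E, autFun α x = f x) X → A ≤ stabAut E X :=
      fun h γ hγ => mem_stabAut_of_finite h.1 (h.2 _ (ma hγ))
    by_cases k0 : A ⊓ KK E V N hV.1 ⊔ autInducedBy ⊤ E ≤ extAut F E
    swap
    · have eA : A ≤ A ⊓ KK E V N hV.1 ⊔ autInducedBy ⊤ E := by
        have l : A ⊓ KK E V N hV.1 ⊔ autInducedBy ⊤ E ≤ A := sup_le inf_le_left TA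
        exact (l.eq_of_not_lt (mn _ ⟨le_sup_right, l.trans AF, k0⟩)).ge
      refine .inl fun X NX XV hX => ⟨XV.trans hV.1, fun f ⟨α, hα, k⟩ x hx => ?_⟩
      have XE := XV.trans hV.1
      have : A ⊓ KK E V N hV.1 ⊔ autInducedBy ⊤ E ≤ stabAut E X := sup_le
        (fun β hβ => mem_stabAut_of_finite XE fun v hv => by
          have := mul_mem hv (NX (hβ.2.2 v (XV hv)))
          rwa [mul_inv_cancel_left] at this)
        fun β hβ => mem_stabAut_of_finite XE fun v hv => by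
          obtain ⟨a, -, ha⟩ := mem_autInducedBy.1 hβ
          rw [ha v (XE hv)]
          exact hX a (nm (mem_normalizer_of_autFun_eq ha)) v hv
      exact k x (XE hx) ▸ (this (eA hα) x (XE hx)).2 hx
    refine .inr fun f x y ⟨φ, hφ, k'⟩ nf hx hx' hy hy' c2 c3 => ?_
    have cV : ∀ {X : Subgroup U}, Inv E (fun f => ∃ α ∈ A, ∀ x ∈ E, autFun α x = f x) X → ∀ {s}, Nm E s → ∀ v ∈ X,
        ⁅v, s⁆ ∈ X := fun h s hs v hv => by
      have := mul_mem hv (h.2 _ (mc hs) _ (inv_mem hv))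
      rwa [cj_apply, ← mul_assoc, ← mul_assoc] at this
    have cN : ∀ e ∈ V, ∀ n ∈ N, e * n * e⁻¹ ∈ N := fun e he => hN.2 _ (mc (nm (Subgroup.le_normalizer (hV.1 he))))
    have NR : N ≤ cm V N x cN := fun n hn => ⟨NV hn, cV hN hx n hn⟩
    have RE : cm V N x cN ≤ E := fun _ h => hV.1 h.1
    have ht : conjAut E (norm hx) ∈ stabAut E (cm V N x cN) := mem_stabAut_of_finite RE fun z hz => by
      rw [autFun_conjAut _ (RE hz), ← cj_apply, cj_eq]
      exact mul_mem (inv_mem (NR hz.2)) hz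
    have ψA : φ * conjAut E (norm hy) * φ⁻¹ ∈ A := A.mul_mem (mul_mem hφ (tA hy)) (inv_mem hφ)
    have hψ : φ * conjAut E (norm hy) * φ⁻¹ ∈ stabAut E (cm V N x cN) := mem_stabAut_of_finite RE fun z hz => by
      have h0 := hV.2 _ (ma (inv_mem hφ)) _ hz.1
      have h1 := hV.1 h0
      rw [autFun_mul _ _ (RE hz), autFun_mul _ _ h1, autFun_conjAut _ h1, ← cj_apply, cj_eq,
        (homOn_autFun φ).map_mul (inv_mem (hy _ h1)) h1, (homOn_autFun φ).map_inv (hy _ h1),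
        autFun_apply_inv φ (RE hz)]
      exact mul_mem (inv_mem ⟨hV.2 _ (ma hφ) _ (cV hV hy _ h0), k' _ (hy _ h1) ▸ c3 _ h0⟩) hz
    let L := A ⊓ (KK E V (cm V N x cN) hV.1 ⊓ KK E (cm V N x cN) N RE)
    have tL : conjAut E (norm hx) ∈ L := ⟨tA hx, ⟨st hV (tA hx), fun v hv => by
      rw [autFun_conjAut _ (hV.1 hv), inv_mul_conj_eq_commutator]
      exact ⟨cV hV hx _ (inv_mem hv), c2 _ (inv_mem hv)⟩⟩, ht, fun v hv => by
        rw [autFun_conjAut _ (RE hv), inv_mul_conj_eq_commutator]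
        exact (inv_mem hv : v⁻¹ ∈ cm V N x cN).2⟩
    obtain ⟨n, hn⟩ := pe hx
    obtain ⟨P, hP', tP⟩ := CL.Grp.exists_isSylowIn_ge (CL.Even.isPGroup_zpowers hn) (Subgroup.zpowers_le.2 tL)
    obtain ⟨m, hm⟩ := hU.exists_card_eq
    have hL : L ≤ extAut F E := (CL.Even.syl_sup_res hP').ge.trans (sup_le
      (lp hx hx' hP'.isPGroup (hP'.le.trans inf_le_left) (tP (Subgroup.mem_zpowers _)))
      ((CL.Even.res_le_of_pow (L := L) (K := A ⊓ KK E V N hV.1) fun l hl =>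
        ⟨m, A.pow_mem hl.1 _, st hV (A.pow_mem hl.1 _), fun v hv => by
        have := KK_pow hV.1 RE NR hl.2.1 hl.2.2 (st hN hl.1) hv (p ^ m)
        rwa [← hm, pow_card_eq_one', mul_one, hm] at this⟩).trans (le_sup_left.trans k0)))
    exact nf ⟨φ, pe' hy hy' φ (AF hφ) (pe' hx hx' _ (AF ψA) (hL ⟨A.mul_mem (A.mul_mem ψA tL.1) (inv_mem ψA),
      KK_conj _ tL.2.1 (st hV ψA) hψ, KK_conj _ tL.2.2 hψ (st hN ψA)⟩)), k'⟩

theorem cri2 : CRI2.{u} := fun U _ _ p _ hU F hF E hE =>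
  let ⟨M, B, h, d⟩ := cri2_core U p hU F hF E hE
  ⟨M, B, h, d⟩

end CL.TD
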