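/-
Project TD: critical subgroups outside `Q1` and `Q2`, part 1 (basic facts, the case `Z3 ≰ E`).
-/
import Cfsg.Agent.TD.Defs

set_option autoImplicit false
set_option linter.unusedSectionVars false
set_option linter.unusedSimpArgs false

namespace CL.TD

open Cfsg CL.Fus CL.U5
open scoped commutatorElement

universe u

namespace ESY

variable {K : Type u} [Field K] [TF K]

theorem cr0 (h2 : (2 : K) ≠ 0) {x y : K} (hx : x ≠ 0) (h : cr y x = 0) : y = 0 := by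
  obtain ⟨l, -, hl, rfl⟩ := cr_eq_zero hx ((cr_comm x y).trans h)
  rw [(mul_eq_zero.1 hl).resolve_left h2, zero_mul]

theorem c3y (g : U K) {v : U K} (k : v ∈ Z3 K) : ⁅g, v⁆.y = Tr (v.d * g.a) := by simp [k.1, k.2.1, k.2.2]

theorem c3z (g : U K) {v : U K} (k : v ∈ Z3 K) : ⁅g, v⁆.z = Tr (g.c * v.d) - g.b * v.y - g.b * Tr (v.d * g.a) := by
  simp [k.1, k.2.1, k.2.2]; ring

theorem c4d (g : U K) {v : U K} (k : v ∈ Z4 K) : ⁅g, v⁆.d = cr v.c g.a := by simp [k.1, k.2]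

theorem eqZ {x z : U K} (hx : x ∈ Z K) (hz : z ∈ Z K) (e : x.z = z.z) : x = z :=
  U.ext (hx.1.trans hz.1.symm) (hx.2.1.trans hz.2.1.symm) (hx.2.2.1.trans hz.2.2.1.symm)
    (hx.2.2.2.1.trans hz.2.2.2.1.symm) (hx.2.2.2.2.trans hz.2.2.2.2.symm) e

theorem xy_mem (t : K) (h : sg t = t) : xy t h ∈ Z2 K := ⟨rfl, rfl, rfl, rfl⟩
theorem xd_mem (t : K) : xd t ∈ Z3 K := ⟨rfl, rfl, rfl⟩
theorem xc_mem (t : K) : xc t ∈ Z4 K := ⟨rfl, rfl⟩

theorem onto {g z : U K} (hg : g.b ≠ 0) (hz : z ∈ Z K) : ∃ v ∈ Z2 K, ⁅g, v⁆ = z :=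
  ⟨xy (-z.z / g.b) (by simp), xy_mem _ _, eqZ (comm_mem_Z g (xy_mem _ _)) hz (by rw [comm_xy]; field_simp)⟩

theorem onto' {g z : U K} (ha : g.a = 0) (hg : g.c ≠ 0) (hz : z ∈ Z K) : ∃ v ∈ Z3 K, ⁅g, v⁆ = z := by
  obtain ⟨t, ht⟩ := exists_Tr hg z.hz
  exact ⟨xd t, xd_mem t, eqZ (comm_Q1 ha rfl) hz (by rw [(comm_xd g t).2, ha, mul_comm g.c, ht]; simp)⟩

theorem symm1 {x y : U K} (h : ⁅x, y⁆ = 1) : ⁅y, x⁆ = 1 := by rw [← commutatorElement_inv, h, inv_one]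

theorem c1 {E : Subgroup (U K)} {v e : U K} (hv : v ∈ cz E E) (he : e ∈ E) : ⁅e, v⁆ = 1 :=
  commutatorElement_eq_one_iff_mul_comm.2 ((mem_cz.1 hv).2 e he)

theorem Z_le_cz {E : Subgroup (U K)} (hZ : Z2 K ≤ E) : Z K ≤ cz E E := fun _ hz =>
  mem_cz.2 ⟨hZ (Z_le_Z2 hz), fun e _ => commutatorElement_eq_one_iff_mul_comm.1 (comm_Z e hz)⟩

theorem low (h2 : (2 : K) ≠ 0) {g w : U K} (ha : g.a ≠ 0) (hb : g.b ≠ 0) (k : ⁅g, w⁆ ∈ Z2 K) (wb : w.b = 0) :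
    w ∈ Z3 K := by
  have k1 := k.2.2.1
  rw [comm_c, wb, zero_mul, zero_sub, neg_eq_zero] at k1
  have wa := (mul_eq_zero.1 k1).resolve_left hb
  exact ⟨wa, wb, cr0 h2 ha ((c4d g ⟨wa, wb⟩).symm.trans k.2.2.2)⟩

theorem cenV (h2 : (2 : K) ≠ 0) {E : Subgroup (U K)} (hZ : Z2 K ≤ E) {g : U K} (hg : g ∈ E) (ha : g.a ≠ 0)
    (hb : g.b ≠ 0) : cz E E ≤ Z3 K := fun v hv => by
  refine low h2 ha hb (c1 hv hg ▸ one_mem _) ?_
  have := comm_xy v 1 sg_one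
  rw [symm1 (c1 hv (hZ (xy_mem 1 sg_one)))] at this
  simpa using this

variable {E : Subgroup (U K)} {M B : (U K → U K) → Prop}

/-- no critical subgroup of pearl type -/
theorem pearl (h : Crit E M B) (h2 : (2 : K) ≠ 0) (hZ : Z2 K ≤ E) {w : U K} (hw : w ∈ E) (ha : w.a ≠ 0) (hb : w.b ≠ 0)
    (k : ∀ e ∈ E, ⁅w, e⁆ ∈ Z2 K) : False := by
  have par : ∀ e ∈ E, ∃ μ ν : K, sg μ = μ ∧ sg ν = ν ∧ e.b = μ * w.b ∧ e.a = μ * w.a ∧ e.c = μ * w.c + ν * w.a ∧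
      2 * ν = (μ ^ 2 - μ) * w.b := fun e he => by
    obtain ⟨-, -, k1, k2⟩ := k e he
    obtain ⟨μ, hμ, eb⟩ : ∃ μ, sg μ = μ ∧ e.b = μ * w.b := ⟨e.b / w.b, by simp, by field_simp⟩
    obtain ⟨ν, hν, en⟩ : ∃ ν, sg ν = ν ∧ 2 * ν = (μ ^ 2 - μ) * w.b :=
      ⟨(μ ^ 2 - μ) * w.b / 2, by simp [hμ], by field_simp⟩
    rw [comm_c, eb] at k1
    have ea : e.a = μ * w.a := mul_left_cancel₀ hb (by linear_combination -k1)
    refine ⟨μ, ν, hμ, hν, eb, ea, sub_eq_zero.1 (cr0 h2 ha ?_), en⟩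
    rw [comm_d, eb, ea] at k2
    simp only [cr, sh, sg_mul, sg_sub, sg_add, hμ, hν] at k2 ⊢
    linear_combination k2 - sg w.a * sg (sg w.a) * en
  have e2 : ⁅E, E⁆ ≤ Z2 K := Subgroup.commutator_le.2 fun e he e' he' => by
    obtain ⟨μ, ν, hμ, hν, eb, ea, ec, en⟩ := par e he
    obtain ⟨μ', ν', hμ', hν', eb', ea', ec', en'⟩ := par e' he'
    refine ⟨comm_a _ _, comm_b _ _, by rw [comm_c, eb, ea, eb', ea']; ring, ?_⟩
    rw [comm_d, eb, ea, eb', ea', ec, ec']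
    simp only [cr, sh, sg_mul, sg_add, hμ, hν, hμ', hν']
    linear_combination μ * sg w.a * sg (sg w.a) * en' - μ' * sg w.a * sg (sg w.a) * en
  obtain ⟨t, ht, t0⟩ := exists_perp (sh w.a) (0 : K)
  obtain ⟨s, hs⟩ := exists_Tr ha (s := Tr (w.c * cr t w.a) / w.b) (by simp)
  rw [eq_div_iff hb] at hs
  let x : U K := ⟨0, 0, t, s, 0, 0, by simp, by simp, by simp⟩
  have x4 : x ∈ Z4 K := ⟨rfl, rfl⟩
  have hx : x ∈ E := by
    refine h.mem2 (h.inv_cz h.inv_top h.inv_top) (h.inv_comm h.inv_top h.inv_top) (fun e he => ?_) (fun v hv => ?_)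
      fun v hv => symm1 (comm_Q2_Z2 x4.2 (e2 hv))
    · have d3 := comm_mem_Z3 e x4
      have key : ∀ e' ∈ E, ⁅e', ⁅e, x⁆⁆ = 1 := fun e' he' => by
        obtain ⟨μ, ν, hμ, hν, eb, ea, ec, en⟩ := par e he
        obtain ⟨μ', ν', hμ', hν', eb', ea', ec', en'⟩ := par e' he'
        have dd : ⁅e, x⁆.d = cr t (μ * w.a) := by rw [c4d e x4, ea]
        have dy : ⁅e, x⁆.y = Tr (s * (μ * w.a)) + Tr (t * sh (μ * w.a)) := by simp [x, ea]
        have k := comm_mem_Z2 e' d3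
        refine eq_one_iff.2 ⟨k.1, k.2.1, k.2.2.1, k.2.2.2, ?_, ?_⟩
        · rw [c3y e' d3, dd, ea']
          simp only [Tr, cr, sh, sg_mul, sg_add, sg3, hμ, hμ'] at ht ⊢
          linear_combination 2 * μ * μ' * ht
        · rw [c3z e' d3, dd, dy, ea', eb', ec']
          simp only [Tr, cr, sh, sg_mul, sg_add, sg3, hμ, hμ', hν'] at ht hs ⊢
          linear_combination (2 * μ * ν' - μ' * w.b * μ ^ 2 - 2 * μ * μ' ^ 2 * w.b) * ht - μ * μ' * hs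
      exact mem_cz.2 ⟨h.cen _ fun e' he' => (commutatorElement_eq_one_iff_commute.1 (key e' he')).symm,
        fun e' he' => commutatorElement_eq_one_iff_mul_comm.1 (key e' he')⟩
    · obtain ⟨v', hv', e⟩ := onto hb (comm_Q1 (cenV h2 hZ hw ha hb hv).1 x4.1)
      exact e ▸ Subgroup.commutator_mem_commutator hw (hZ hv')
  obtain ⟨μ, ν, -, -, eb, -, ec, en⟩ := par x hx
  have m0 : μ = 0 := (mul_eq_zero.1 eb.symm).resolve_right hb
  rw [m0] at ec en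
  have n0 : ν = 0 := (mul_eq_zero.1 (en.trans (by ring))).resolve_left h2
  exact t0 0 sg_zero (by simpa [n0] using ec)

/-- `Z3 ≤ E` -/
theorem caseA (h : Crit E M B) (h2 : (2 : K) ≠ 0) (hZ : Z2 K ≤ E) {g : U K} (hg : g ∈ E) (ha : g.a ≠ 0)
    (hb : g.b ≠ 0) : Z3 K ≤ E := fun x hx => by_contra fun hxE => by
  have hN : Nm E x := fun e _ => hZ (comm_mem_Z2 e hx)
  obtain ⟨f, f', hf, nf, hf', -, e⟩ := h.exists_out
  have hF := h.comp hf' (h.comp (h.conj hN) hf)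
  have nF := h.far hf nf hf' (fun y hy => (e y hy).1) hN hxE
  have fix : ∀ z ∈ Z K, (f' ∘ cj x ∘ f) z = z := fun z hz => by
    have k := cenV h2 hZ hg ha hb ((h.inv_cz h.inv_top h.inv_top).2 f hf z (Z_le_cz hZ hz))
    change f' (cj x (f z)) = z
    rw [cj_eq, comm_Z3 k hx, inv_one, one_mul, (e z (hZ (Z_le_Z2 hz))).1]
  generalize f' ∘ cj x ∘ f = F at hF nF fix
  refine h.pair hF nF hN hxE hN hxE h.inv_bot (fun n hn => by rw [Subgroup.mem_bot.1 hn, commutatorElement_one_left])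
    (fun e _ => Subgroup.mem_bot.2 (comm_Z3 (Z2_le_Z3 (comm_mem_Z2 e hx)) hx))
    fun e _ => Subgroup.mem_bot.2 (comm_Z3 (by_contra fun hw => ?_) hx)
  have hv := comm_mem_Z2 e hx
  have k : ∀ e' ∈ E, ⁅e', F ⁅e, x⁆⁆ ∈ Z2 K := fun e' he' => by
    obtain ⟨e0, he0, rfl⟩ := h.surj hF he'
    rw [← h.map_comm hF he0 (hZ hv), fix _ (comm_mem_Z e0 hv)]
    exact Z_le_Z2 (comm_mem_Z e0 hv)
  have wb : (F ⁅e, x⁆).b ≠ 0 := fun wb => hw (low h2 ha hb (k g hg) wb)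
  refine pearl h h2 hZ (h.mem hF _ (hZ hv)) (fun wa => ?_) wb fun e' he' => comm_symm (k e' he')
  have := (k g hg).2.2.1
  rw [comm_c, wa, mul_zero, sub_zero] at this
  exact mul_ne_zero wb ha this

end ESY

end CL.TD
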