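/-
Project TD: critical subgroups outside `Q1` and `Q2`, part 2 (the case `Z3 ≤ E`).
-/
import Cfsg.Agent.TD.ESY1

set_option autoImplicit false
set_option linter.unusedSectionVars false
set_option linter.unusedSimpArgs false

namespace CL.TD

open Cfsg CL.Fus CL.U5
open scoped commutatorElement

universe u

namespace ESY

variable {K : Type u} [Field K] [TF K] {E : Subgroup (U K)} {M B : (U K → U K) → Prop}

theorem alg (h2 : (2 : K) ≠ 0) {c α β : K} (ha : α ≠ 0) (hn : ∀ l, sg l = l → β ≠ l * α)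
    (h1 : Tr (cr c α * α) = 0) (h3 : Tr (cr c α * β) = 0) (h4 : Tr (cr c β * β) = 0) : c = 0 := by
  have s1 : sg α ≠ 0 := by simpa using ha
  have s2 : sg (sg α) ≠ 0 := by simpa using ha
  have n1 : sg (β / α) ≠ β / α := fun e => hn _ e (div_mul_cancel₀ _ ha).symm
  have d1 : β * sg α - α * sg β ≠ 0 := fun e => n1 (by rw [sg_div]; field_simp; linear_combination -e)
  have d2 : β * sg (sg α) - α * sg (sg β) ≠ 0 := fun e => sg2_ne n1 (by
    rw [sg_div, sg_div]; field_simp; linear_combination -e)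
  refine (mul_eq_zero.1 (?_ : c * (2 * ((β * sg α - α * sg β) * (β * sg (sg α) - α * sg (sg β)))) = 0)).resolve_right
    (mul_ne_zero h2 (mul_ne_zero d1 d2))
  simp only [Tr, cr, sg_mul, sg_add, sg3] at h1 h3 h4
  linear_combination β ^ 2 * h1 - 2 * β * α * h3 + α ^ 2 * h4

theorem Zc (g : U K) {z : U K} (hz : z ∈ Z K) : ⁅z, g⁆ = 1 := symm1 (comm_Z g hz)

variable (h : Crit E M B) (h2 : (2 : K) ≠ 0) {g : U K} (hg : g ∈ E) (ha : g.a ≠ 0) (hb : g.b ≠ 0)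
include h h2 hg ha hb

theorem b1 (h3 : Z3 K ≤ E) {f : U K → U K} (hf : M f) {u : U K} (hu : u ∈ Z3 K) : f u ∈ Q1 K := by_contra fun wa => by
  have key : ∀ e ∈ E, ⁅f u, ⁅f u, e⁆⁆ = 1 := fun e he => by
    obtain ⟨e0, he0, rfl⟩ := h.surj hf he
    have k := Z2_le_Z3 (comm_symm (comm_mem_Z2 e0 hu))
    rw [← h.map_comm hf (h3 hu) he0, ← h.map_comm hf (h3 hu) (h3 k), comm_Z3 hu k, h.map_one hf]
  generalize f u = w at wa key
  obtain ⟨t, ht⟩ := exists_Tr wa sg_one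
  have k1 := congrArg U.z (key _ (h3 (xd_mem t)))
  have k2 := comm_mem_Z2 w (xd_mem t)
  rw [c3z w (Z2_le_Z3 k2), k2.2.2.2, (comm_xd w t).1, ht] at k1
  have wb : w.b = 0 := by simpa using k1
  have k3 := congrArg U.d (key g hg)
  rw [c4d w (comm_mem_Z4 w g), comm_c, wb] at k3
  exact mul_ne_zero hb wa (by simpa using cr0 h2 wa k3)

theorem invZ (h3 : Z3 K ≤ E) : Inv E M (Z K) := by
  have hZ := Z2_le_Z3.trans h3
  by_cases hI : ∀ f, M f → ∀ u ∈ Z3 K, f u ∈ Z3 K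
  · have e : cz E E ⊓ ⁅E, Z3 K⁆ = Z K := le_antisymm (fun v hv => by
      have k : v ∈ Z2 K := Subgroup.commutator_le.2 (fun e _ u hu => comm_mem_Z2 e hu) hv.2
      have := congrArg U.z (c1 hv.1 hg)
      rw [c3z g (Z2_le_Z3 k), k.2.2.2] at this
      exact ⟨k.1, k.2.1, k.2.2.1, k.2.2.2, by simpa [hb] using this⟩) fun z hz => ⟨Z_le_cz hZ hz, by
        obtain ⟨v, hv, rfl⟩ := onto hb hz
        exact Subgroup.commutator_mem_commutator hg (Z2_le_Z3 hv)⟩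
    exact e ▸ Crit.inv_inf (h.inv_cz h.inv_top h.inv_top) (h.inv_comm h.inv_top ⟨h3, hI⟩)
  · push Not at hI
    obtain ⟨f, hf, u, hu, hw⟩ := hI
    have l : cl M (Z3 K) ≤ Q1 K := cl_le_of fun f hf u hu => b1 h h2 hg ha hb h3 hf hu
    have e : ⁅cl M (Z3 K), cl M (Z3 K)⁆ = Z K := le_antisymm
      (Subgroup.commutator_le.2 fun x hx y hy => comm_Q1 (l hx) (l hy)) fun z hz => by
        have wa := l (mem_cl hf hu)
        by_cases wb : (f u).b = 0
        · obtain ⟨v, hv, rfl⟩ := onto' wa (fun wc => hw ⟨wa, wb, wc⟩) hz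
          exact Subgroup.commutator_mem_commutator (mem_cl hf hu) (h.le_cl hv)
        · obtain ⟨v, hv, rfl⟩ := onto wb hz
          exact Subgroup.commutator_mem_commutator (mem_cl hf hu) (h.le_cl (Z2_le_Z3 hv))
    exact e ▸ h.inv_comm (h.inv_cl h3) (h.inv_cl h3)

theorem le4 (h3 : Z3 K ≤ E) : Z4 K ≤ E := fun x hx => by_contra fun hxE => by
  have hN : Nm E x := fun e _ => h3 (comm_mem_Z3 e hx)
  obtain ⟨f, hf, nf⟩ := h.out
  exact h.pair hf nf hN hxE hN hxE (invZ h h2 hg ha hb h3) (fun n hn => Zc x hn)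
    (fun e _ => comm_Q1 (comm_a e x) hx.1) fun e _ => comm_Q1 (b1 h h2 hg ha hb h3 hf (comm_mem_Z3 e hx)) hx.1

theorem b4 (h4 : Z4 K ≤ E) {f : U K → U K} (hf : M f) {u : U K} (hu : u ∈ E) (ua : u ∈ Q1 K) : f u ∈ Q1 K :=
  by_contra fun wa => by
  have key : ∀ t, ⁅f u, ⁅f u, xc t⁆⁆ ∈ Z K := fun t => by
    obtain ⟨e0, he0, e⟩ := h.surj hf (h4 (xc_mem t))
    rw [← e, ← h.map_comm hf hu he0, ← h.map_comm hf hu (h4 (comm_mem_Z4 _ _))]
    exact (invZ h h2 hg ha hb (Z3_le_Z4.trans h4)).2 f hf _ (comm_Q1 ua (comm_a _ _))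
  generalize f u = w at wa key
  refine mul_ne_zero h2 (mt sh_eq_zero.1 wa) (Tr_nondeg fun t => ?_)
  have := (key t).2.2.2.2
  rw [c3y w (comm_mem_Z3 w (xc_mem t)), c4d w (xc_mem t)] at this
  simp only [xc, Tr, cr, sh, sg_mul, sg_add, sg3, sg_two] at this ⊢
  linear_combination this

theorem leQ1 (h4 : Z4 K ≤ E) : Q1 K ≤ E := fun x hx => by_contra fun hxE => by
  have hN : Nm E x := fun e _ => h4 (comm_mem_Z4 e x)
  obtain ⟨f, hf, nf⟩ := h.out
  exact h.pair hf nf hN hxE hN hxE (invZ h h2 hg ha hb (Z3_le_Z4.trans h4)) (fun n hn => Zc x hn)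
    (fun e _ => comm_Q1 (comm_a e x) hx) fun e he => comm_Q1 (b4 h h2 hg ha hb h4 hf (hN e he) (comm_a e x)) hx

theorem two (h1 : Q1 K ≤ E) {g' : U K} (hg' : g' ∈ E) (hn : ∀ l, sg l = l → g'.a ≠ l * g.a) : False := by
  have h4 := Z4_le_Q1.trans h1
  have h3 := Z3_le_Z4.trans h4
  have iZ := invZ h h2 hg ha hb h3
  have iQ : Inv E M (Q1 K) := ⟨h1, fun f hf u hu => b4 h h2 hg ha hb h4 hf (h1 hu) hu⟩
  have i3 : Inv E M (Z3 K) := ⟨h3, fun f hf u hu => by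
    have key : ∀ e ∈ E, ∀ e' ∈ E, ⁅e', ⁅e, f u⁆⁆ ∈ Z K := fun e he e' he' => by
      obtain ⟨e0, he0, rfl⟩ := h.surj hf he
      obtain ⟨e1, he1, rfl⟩ := h.surj hf he'
      rw [← h.map_comm hf he0 (h3 hu), ← h.map_comm hf he1 (h4 (comm_mem_Z4 _ _))]
      exact iZ.2 f hf _ (comm_mem_Z _ (comm_mem_Z2 _ hu))
    have wa : (f u).a = 0 := iQ.2 f hf u hu.1
    generalize f u = w at wa key
    have k1 := (key g hg g hg).2.2.2.1
    rw [c4d g (comm_mem_Z4 g w), comm_c, wa] at k1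
    have wb : w.b = 0 := by simpa [ha] using cr0 h2 ha k1
    have k2 : ∀ e ∈ E, ∀ e' ∈ E, Tr (cr w.c e.a * e'.a) = 0 := fun e he e' he' => by
      rw [← c4d e ⟨wa, wb⟩, ← c3y e' (comm_mem_Z3 e ⟨wa, wb⟩)]
      exact (key e he e' he').2.2.2.2
    exact ⟨wa, wb, alg h2 ha hn (k2 g hg g hg) (k2 g hg g' hg') (k2 g' hg' g' hg')⟩⟩
  have i4 : Inv E M (Z4 K) := (le_antisymm (fun v hv => by
    have k := ((mem_czm.1 hv).2 g hg).2.2
    have va : v.a = 0 := (mem_czm.1 hv).1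
    rw [comm_c, va] at k
    exact ⟨va, by simpa [ha] using k⟩) fun v hv => mem_czm.2 ⟨hv.1, fun e _ => comm_mem_Z3 e hv⟩ :
      czm (Q1 K) E (Z3 K) = Z4 K) ▸ h.inv_czm iQ h.inv_top i3
  have i2 : Inv E M (Z2 K) := (le_antisymm (fun v hv => by
    have k := (mem_cz.1 hv).1
    refine ⟨k.1, k.2.1, k.2.2, Tr_nondeg fun t => ?_⟩
    have := congrArg U.z (commutatorElement_eq_one_iff_mul_comm.2 ((mem_cz.1 hv).2 _ (xc_mem t)))
    rw [c3z _ k] at this
    simpa [xc] using this) fun v hv => mem_cz.2 ⟨Z2_le_Z3 hv, fun e he =>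
      commutatorElement_eq_one_iff_mul_comm.1 (comm_Q2_Z2 he.2 hv)⟩ : cz (Z3 K) (Z4 K) = Z2 K) ▸ h.inv_cz i3 i4
  exact h.ne (eq_top_iff.2 fun x _ => h.chain x (fun e _ => h4 (comm_mem_Z4 e x))
    (.step (.step (.step (.step (.step .bot iZ fun e he => Zc x he) i2 fun e he => comm_symm (comm_mem_Z x he)) i3
      fun e he => comm_symm (comm_mem_Z2 x he)) i4 fun e he => comm_symm (comm_mem_Z3 x he)) h.inv_top
      fun e _ => comm_mem_Z4 e x))

theorem one (h1 : Q1 K ≤ E) (hn : ∀ e ∈ E, ∃ l, sg l = l ∧ e.a = l * g.a) : False := by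
  have h4 := Z4_le_Q1.trans h1
  have h3 := Z3_le_Z4.trans h4
  have iZ := invZ h h2 hg ha hb h3
  have iQ : Inv E M (Q1 K) := ⟨h1, fun f hf u hu => b4 h h2 hg ha hb h4 hf (h1 hu) hu⟩
  obtain ⟨s, hs, s0⟩ := exists_perp (sh g.a) g.a
  have iV := h.inv_czm iQ h.inv_top iZ
  have V3 : czm (Q1 K) E (Z K) ≤ Z3 K := fun v hv => by
    have k := (mem_czm.1 hv).2 g hg
    have va : v.a = 0 := (mem_czm.1 hv).1
    have k1 := k.2.2.1
    rw [comm_c, va] at k1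
    exact low h2 ha hb (Z_le_Z2 k) (by simpa [ha] using k1)
  have mV : ∀ v ∈ Z3 K, Tr (v.d * g.a) = 0 → v ∈ czm (Q1 K) E (Z K) := fun v hv k => mem_czm.2 ⟨hv.1, fun e he => by
    obtain ⟨l, hl, el⟩ := hn e he
    have k1 := comm_mem_Z2 e hv
    exact ⟨k1.1, k1.2.1, k1.2.2.1, k1.2.2.2, by rw [c3y e hv, el, mul_left_comm, Tr_smul hl, k, mul_zero]⟩⟩
  have V2 : Z2 K ≤ czm (Q1 K) E (Z K) := fun v hv => mV v (Z2_le_Z3 hv) (by simp [hv.2.2.2])
  have : (czm (Q1 K) E (Z K)).Normal := normal_of fun e v hv => V2 (comm_mem_Z2 e (V3 hv))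
  generalize czm (Q1 K) E (Z K) = V at *
  have iR := h.inv_czm iQ h.inv_top iV
  have mR : ∀ v ∈ Z4 K, Tr (v.c * sh g.a) = 0 → v ∈ czm (Q1 K) E V := fun v hv k => mem_czm.2 ⟨hv.1, fun e he => by
    obtain ⟨l, hl, el⟩ := hn e he
    refine mV _ (comm_mem_Z3 e hv) ?_
    rw [c4d e hv, el]
    simp only [Tr, cr, sh, sg_mul, sg_add, sg3, hl] at k ⊢
    linear_combination 2 * l * k⟩
  have R4 : czm (Q1 K) E V ≤ Z4 K := fun v hv => by
    have k := (V3 ((mem_czm.1 hv).2 g hg)).2.2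
    have va : v.a = 0 := (mem_czm.1 hv).1
    rw [comm_c, va] at k
    exact ⟨va, by simpa [ha] using k⟩
  generalize czm (Q1 K) E V = R at *
  have cm : ∀ {X : Subgroup (U K)} {v e : U K}, v ∈ cz (Q1 K) X → e ∈ X → ⁅e, v⁆ = 1 := fun hv he =>
    commutatorElement_eq_one_iff_mul_comm.2 ((mem_cz.1 hv).2 _ he)
  have vb : ∀ {X : Subgroup (U K)} {v : U K}, Z2 K ≤ X → v ∈ cz (Q1 K) X → v.b = 0 := fun {X v} hX hv => by
    have := comm_xy v 1 sg_one
    rw [symm1 (cm hv (hX (xy_mem 1 sg_one)))] at this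
    simpa using this
  have R3 : Z3 K ≤ R := fun v hv => mR v (Z3_le_Z4 hv) (by simp [hv.2.2])
  have hx : xa s ∈ E := by
    refine h.chain _ (fun e _ => h4 (comm_mem_Z4 e _)) (.step (.step (.step (.step (.step (.step .bot iZ
      fun e he => Zc _ he) (h.inv_cz iQ iR) fun v hv => ?_) iV fun v hv => ?_) (h.inv_cz iQ iV) fun v hv => ?_) iR
      fun v hv => ?_) h.inv_top fun e _ => ?_)
    · have v3 : v ∈ Z3 K := ⟨(mem_cz.1 hv).1, vb (Z2_le_Z3.trans R3) hv, Tr_nondeg fun t => by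
        have := (comm_xd v t).2
        rw [symm1 (cm hv (R3 (xd_mem t))), show v.a = 0 from (mem_cz.1 hv).1] at this
        simpa [mul_comm] using this.symm⟩
      have k := congrArg U.z (cm hv (mR _ (xc_mem s) hs))
      rw [c3z _ v3] at k
      have k1 := comm_mem_Z2 (xa s) v3
      exact comm_symm ⟨k1.1, k1.2.1, k1.2.2.1, k1.2.2.2, by rw [c3y _ v3]; simpa [xa, xc, mul_comm] using k⟩
    · have k := comm_symm (comm_mem_Z2 (xa s) (V3 hv))
      exact mem_cz.2 ⟨k.1, fun e he => commutatorElement_eq_one_iff_mul_comm.1 (comm_Q2_Z2 (R4 he).2 k)⟩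
    · have v4 : v ∈ Z4 K := ⟨(mem_cz.1 hv).1, vb V2 hv⟩
      have k := (comm_xd v (cr s g.a)).2
      rw [symm1 (cm hv (mV _ (xd_mem _) (by
        simp only [xd, Tr, cr, sh, sg_mul, sg_add, sg3] at hs ⊢
        linear_combination 2 * hs))), v4.2] at k
      refine comm_symm (mV _ (comm_mem_Z3 _ v4) ?_)
      rw [c4d _ v4]
      simp only [xa, one_z, Tr, cr, sg_mul, sg_add, sg3] at k ⊢
      linear_combination -k
    · have k := comm_symm (comm_mem_Z3 (xa s) (R4 hv))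
      exact mem_cz.2 ⟨k.1, fun e he => commutatorElement_eq_one_iff_mul_comm.1 (comm_Z3 (V3 he) k)⟩
    · refine mR _ (comm_mem_Z4 e _) ?_
      rw [show ⁅e, xa s⁆.c = -e.b * s by simp [xa], mul_assoc, Tr_smul (by simp), hs, mul_zero]
  obtain ⟨l, hl, el⟩ := hn _ hx
  exact s0 l hl el

end ESY

open ESY

theorem esY {K : Type u} [Field K] [TF K] (h2 : (2 : K) ≠ 0) (E : Subgroup (U K)) (M B : (U K → U K) → Prop)
    (h : Crit E M B) (hZ : Z2 K ≤ E) (n1 : ¬ E ≤ Q1 K) (n2 : ¬ E ≤ Q2 K) : False := by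
  obtain ⟨g, hg, ha, hb⟩ : ∃ g ∈ E, g.a ≠ 0 ∧ g.b ≠ 0 := by
    obtain ⟨x, hx, xa⟩ := SetLike.not_le_iff_exists.1 n1
    obtain ⟨y, hy, yb⟩ := SetLike.not_le_iff_exists.1 n2
    by_cases xb : x.b = 0
    · by_cases ya : y.a = 0
      · exact ⟨x * y, mul_mem hx hy, by rwa [mul_a, ya, add_zero], by rwa [mul_b, xb, zero_add]⟩
      · exact ⟨y, hy, ya, yb⟩
    · exact ⟨x, hx, xa, xb⟩
  have h1 := leQ1 h h2 hg ha hb (le4 h h2 hg ha hb (caseA h h2 hZ hg ha hb))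
  refine one h h2 hg ha hb h1 fun e he => by_contra fun k => two h h2 hg ha hb h1 he fun l hl el => k ⟨l, hl, el⟩

end CL.TD
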