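/-
Project TD: a critical subgroup inside `Q1` is `Q1`.
-/
import Cfsg.Agent.TD.Defs1
import Cfsg.Agent.U5.TV
import Cfsg.Agent.U5.TV0

set_option autoImplicit false
set_option linter.unusedSectionVars false

namespace CL.TD

open Cfsg CL.Fus CL.U5
open scoped commutatorElement

universe u

variable {K : Type u} [Field K] [TF K]

namespace EsBx

theorem Z_ext {g k : U K} (hg : g ∈ Z K) (hk : k ∈ Z K) (e : g.z = k.z) : g = k :=
  U.ext (hg.1.trans hk.1.symm) (hg.2.1.trans hk.2.1.symm) (hg.2.2.1.trans hk.2.2.1.symm)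
    (hg.2.2.2.1.trans hk.2.2.2.1.symm) (hg.2.2.2.2.trans hk.2.2.2.2.symm) e

theorem pV_one : pV (1 : U K) = 0 := rfl

theorem pV_inv {g : U K} (k : g ∈ Q1 K) : pV g⁻¹ = -pV g :=
  eq_neg_of_add_eq_zero_left (by rw [← pV_mul (inv_mem k), inv_mul_cancel, pV_one])

theorem comm_one {g h : U K} (k : g ∈ Q1 K) (k' : h ∈ Q1 K) : ⁅g, h⁆ = 1 ↔ om (pV g) (pV h) = 0 := by
  rw [← comm_z_Q1 k k']
  exact ⟨fun e => by rw [e, one_z], fun e => Z_ext (comm_Q1 k k') (one_mem _) e⟩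

/-- the preimage of a line -/
def AA (v : V8 K) : Subgroup (U K) where
  carrier := {g | g ∈ Q1 K ∧ ∃ l : Fx K, pV g = l • v}
  mul_mem' := by
    rintro g k ⟨hg, l, e⟩ ⟨hk, m, e'⟩
    exact ⟨mul_mem hg hk, l + m, by rw [pV_mul hg, e, e', add_smul]⟩
  one_mem' := ⟨one_mem _, 0, by rw [zero_smul, pV_one]⟩
  inv_mem' := by
    rintro g ⟨hg, l, e⟩
    exact ⟨inv_mem hg, -l, by rw [pV_inv hg, e, neg_smul]⟩

/-- the preimage of a hyperplane -/
def HH (v : V8 K) : Subgroup (U K) where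
  carrier := {g | g ∈ Q1 K ∧ om (pV g) v = 0}
  mul_mem' := by
    rintro g k ⟨hg, e⟩ ⟨hk, e'⟩
    exact ⟨mul_mem hg hk, by rw [pV_mul hg, om_add_l, e, e', add_zero]⟩
  one_mem' := ⟨one_mem _, by rw [pV_one, om_zero_l]⟩
  inv_mem' := by
    rintro g ⟨hg, e⟩
    exact ⟨inv_mem hg, by rw [pV_inv hg, om_neg_l, e, neg_zero]⟩

theorem ZQ : Z K ≤ Q1 K := fun _ h => h.1

theorem ZH (v : V8 K) : Z K ≤ HH v := fun _ h => ⟨ZQ h, by rw [(pV_eq_zero (ZQ h)).2 h, om_zero_l]⟩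

/-- a hyperplane is not isotropic -/
theorem noniso (w w' : V8 K) (h : om w w' ≠ 0) : ¬ ∀ x y, om w x = 0 → om w y = 0 → om x y = 0 := fun k => by
  let c : V8 K → Fx K := fun x => ⟨om w x / om w w', by rw [mem_Fx, sg_div, sg_om, sg_om]⟩
  have p : ∀ x, om w (x - c x • w') = 0 := fun x => by
    rw [om_sub_r, om_smul_r]; simp only [c]; rw [div_mul_cancel₀ _ h, sub_self]
  have r : ∀ x y, om x y = c y * om x w' - c x * om y w' := fun x y => by
    have := k _ _ (p x) (p y)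
    simp only [om_sub_l, om_sub_r, om_smul_l, om_smul_r, om_self, om_swap y w'] at this
    linear_combination this
  obtain ⟨t, ht⟩ := exists_Tr (one_ne_zero (α := K)) sg_one
  have e12 := r (fv 0 0) cv
  have e13 := r (fv 0 0) (nv t 0)
  have e14 := r (fv 0 0) (dv 1)
  have e34 := r (nv t 0) (dv 1)
  generalize om (fv 0 0) w' = a1 at *
  generalize om cv w' = a2 at *
  generalize om (nv t 0) w' = a3 at *
  generalize om (dv 1) w' = a4 at *
  generalize (c (fv 0 0) : K) = c1 at *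
  generalize (c cv : K) = c2 at *
  generalize (c (nv t 0) : K) = c3 at *
  generalize (c (dv 1) : K) = c4 at *
  rw [mul_one] at ht
  simp [om, ht] at e12 e13 e14 e34
  have : (-1 : K) * 1 = 0 := by
    rw [e12]
    nth_rewrite 1 [e34]
    linear_combination (-(c4 * a2 - c2 * a4)) * e13 + (c3 * a2 - c2 * a3) * e14
  simp at this

end EsBx

open EsBx in
theorem esb : ESB K := by
  have hT := tv tv0.{u}
  intro E M B h hE
  by_contra hn
  obtain ⟨u0, hu0, hu0'⟩ := SetLike.exists_of_lt (lt_of_le_of_ne hE hn)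
  have hZ : Z K ≤ E := fun x hx => h.cen x fun e _ =>
    (commutatorElement_eq_one_iff_commute.1 (comm_Z e hx)).symm
  have hV : Inv E M (cz E E) := h.inv_cz h.inv_top h.inv_top
  have hZV : Z K ≤ cz E E := fun x hx => mem_cz.2 ⟨hZ hx, fun e _ =>
    commutatorElement_eq_one_iff_mul_comm.1 (comm_Z e hx)⟩
  obtain ⟨f, hf, nf⟩ := h.out
  have T := hT (U K) E M B h ⊥ (cz E E) {t : U K // t ∈ Q1 K ∧ t ∉ E} (fun i => AA (pV i.1)) (fun _ => Z K)
    (fun i => HH (pV i.1)) h.inv_bot (fun n hn x => by rw [Subgroup.mem_bot.1 hn]; simp) hV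
    (fun v hv e he => Subgroup.mem_bot.2 (commutatorElement_eq_one_iff_mul_comm.2 ((mem_cz.1 hv).2 e he)))
    (fun i => ⟨bot_le, hZV, ZH _⟩) (fun i a ha e he => comm_Q1 (hE he) ha.1)
    (by
      rintro i a ⟨ha, l, e⟩ v _ hv
      exact Subgroup.mem_bot.2 ((comm_one hv.1 ha).2 (by rw [e, om_smul_r, hv.2, mul_zero])))
    (by
      intro i w hw hw' z hz
      have wQ := hE hw.1
      have n : om (pV w) (pV i.1) ≠ 0 := fun e => hw' ⟨wQ, e⟩
      obtain ⟨a, ea⟩ := pV_surj ((⟨z.z / om (pV w) (pV i.1), by rw [mem_Fx, sg_div, sg_om, z.hz]⟩ : Fx K) • pV i.1)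
      refine ⟨a, ⟨a.2, _, ea⟩, ?_⟩
      rw [Z_ext (comm_Q1 wQ a.2) hz (by rw [comm_z_Q1 wQ a.2, ea, om_smul_r]; exact div_mul_cancel₀ _ n), inv_mul_cancel]
      exact one_mem _)
    (by
      rintro i a ⟨ha, l, e⟩ haE v hv k
      have vQ := hE hv.1
      have := (comm_one vQ ha).1 (Subgroup.mem_bot.1 k)
      rw [e, om_smul_r, mul_eq_zero] at this
      refine ⟨vQ, this.resolve_left fun l0 => haE (hZ ((pV_eq_zero ha).1 ?_))⟩
      rw [e, show l = 0 from Subtype.ext l0, zero_smul])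
    (fun i => ⟨i.1, ⟨i.2.1, 1, (one_smul _ _).symm⟩, i.2.2⟩) (fun _ _ => rfl) f hf nf
  have T1 : ∀ t ∈ Q1 K, t ∉ E → ∀ z ∈ Z K, f z ∈ HH (pV t) → z = 1 :=
    fun t ht ht' z hz k => Subgroup.mem_bot.1 ((T ⟨t, ht, ht'⟩ ⟨t, ht, ht'⟩).1 z hz k)
  have hz0 : xz (1 : K) sg_one ∈ Z K := ⟨rfl, rfl, rfl, rfl, rfl⟩
  have nz0 : xz (1 : K) sg_one ≠ 1 := fun e => one_ne_zero (congrArg U.z e)
  have wQ := hE (h.mem hf _ (hZ hz0))
  have hw : ∀ x : Q1 K, om (pV (f (xz 1 sg_one))) (pV x) = 0 → (x : U K) ∈ E := fun x k => by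
    by_contra c
    exact nz0 (T1 x x.2 c _ hz0 ⟨wQ, k⟩)
  refine noniso _ (pV u0) (fun k => hu0' (hw ⟨u0, hu0⟩ k)) fun x y hx hy => ?_
  obtain ⟨x, rfl⟩ := pV_surj x
  obtain ⟨y, rfl⟩ := pV_surj y
  refine (comm_one x.2 y.2).1 (T1 u0 hu0 hu0' _ (comm_Q1 x.2 y.2) (ZH _ ?_))
  rw [h.map_comm hf (hw x hx) (hw y hy)]
  exact comm_Q1 (hE (h.mem hf _ (hw x hx))) (hE (h.mem hf _ (hw y hy)))

end CL.TD
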