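/-
Project TD: in odd characteristic a critical subgroup outside `Q1` contains the second centre.
-/
import Cfsg.Agent.TD.EsB

set_option autoImplicit false
set_option linter.unusedSectionVars false

namespace CL.TD

open Cfsg CL.Fus CL.U5 EsBx
open scoped commutatorElement

universe u

variable {K : Type u} [Field K] [TF K]

namespace EsAx

theorem comm_z2 (g : U K) {x : U K} (hx : x ∈ Z2 K) : ⁅g, x⁆.z = -(g.b * x.y) := by
  simp [hx.1, hx.2.1, hx.2.2.1, hx.2.2.2]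

theorem xy_mem (t : K) (h : sg t = t) : xy t h ∈ Z2 K := ⟨rfl, rfl, rfl, rfl⟩

theorem exists_l {w z : U K} (hw : w ∉ Q2 K) (hz : z ∈ Z K) : ∃ x ∈ Z2 K, ⁅w, x⁆ = z :=
  ⟨xy (-z.z / w.b) (by simp), xy_mem _ _, Z_ext (comm_mem_Z _ (xy_mem _ _)) hz (by
    have : w.b ≠ 0 := hw
    rw [comm_z2 _ (xy_mem _ _)]; simp only [xy]; field_simp)⟩

end EsAx

open EsAx in
theorem esa (h2 : (2 : K) ≠ 0) : ESA K := by
  have hT := tv tv0.{u}
  intro E M B h hQ
  have hZ : Z K ≤ E := fun x hx => h.cen x fun e _ =>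
    (commutatorElement_eq_one_iff_commute.1 (comm_Z e hx)).symm
  by_contra hn
  have hV : Inv E M (cz E E) := h.inv_cz h.inv_top h.inv_top
  have hZV : Z K ≤ cz E E := fun x hx => mem_cz.2 ⟨hZ hx, fun e _ =>
    commutatorElement_eq_one_iff_mul_comm.1 (comm_Z e hx)⟩
  have T := hT (U K) E M B h ⊥ (cz E E) PUnit (fun _ => Z2 K) (fun _ => Z K) (fun _ => Q2 K)
    h.inv_bot (fun n hn x => by rw [Subgroup.mem_bot.1 hn]; simp) hV
    (fun v hv e he => Subgroup.mem_bot.2 (commutatorElement_eq_one_iff_mul_comm.2 ((mem_cz.1 hv).2 e he)))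
    (fun i => ⟨bot_le, hZV, fun _ k => k.2.1⟩) (fun i a ha e _ => comm_mem_Z e ha)
    (fun i a ha v _ hv => Subgroup.mem_bot.2 (comm_Q2_Z2 hv ha))
    (fun i w _ hw z hz => (exists_l hw hz).imp fun x e => ⟨e.1, by rw [e.2, inv_mul_cancel]; exact one_mem _⟩)
    (fun i a ha haE v _ hv => by
      have := congrArg U.z (Subgroup.mem_bot.1 hv)
      rw [comm_z2 _ ha, one_z, neg_eq_zero, mul_eq_zero] at this
      exact this.resolve_right fun e => haE (hZ ⟨ha.1, ha.2.1, ha.2.2.1, ha.2.2.2, e⟩))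
    (fun i => SetLike.not_le_iff_exists.1 hn) (fun _ _ => rfl)
  have T1 : ∀ f, M f → ¬ B f → ∀ z ∈ Z K, f z ∈ Q2 K → z = 1 :=
    fun f hf nf z hz k => Subgroup.mem_bot.1 ((T f hf nf ⟨⟩ ⟨⟩).1 z hz k)
  have T2 : ∀ f, M f → ¬ B f → ∀ v ∈ cz E E, ∃ z ∈ Z K, v⁻¹ * f z ∈ Q2 K :=
    fun f hf nf => (T f hf nf ⟨⟩ ⟨⟩).2
  clear T
  obtain ⟨f, g, hf, nf, hg, ng, efg⟩ := h.exists_out
  have hz0 : xz (1 : K) sg_one ∈ Z K := ⟨rfl, rfl, rfl, rfl, rfl⟩
  have nz0 : xz (1 : K) sg_one ≠ 1 := fun e => one_ne_zero (congrArg U.z e)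
  obtain ⟨w, hw⟩ : ∃ w, w = f (xz 1 sg_one) := ⟨_, rfl⟩
  have hwV : w ∈ cz E E := hw ▸ hV.2 f hf _ (hZV hz0)
  have b0 : w.b ≠ 0 := fun k => nz0 (T1 f hf nf _ hz0 (hw ▸ k))
  have N : ∀ x, Nm E x → ∃ t ∈ Z2 K, t * x ∈ E := by
    intro x hx
    have hw1 : cj x w ∈ cz E E := hV.2 _ (h.conj hx) _ hwV
    have hw1H : cj x w ∉ Q2 K := by
      rw [mem_Q2, cj_apply, conj_b]; exact b0
    obtain ⟨z, hz, k⟩ := T2 g hg ng _ (inv_mem (hV.2 g hg _ hw1))
    rw [inv_inv, ← h.mul hg _ (hV.1 hw1) _ (hZ hz)] at k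
    obtain ⟨t, ht, e⟩ := exists_l hw1H (inv_mem hz)
    refine ⟨t, ht, ?_⟩
    have hx1 : Nm E (t * x) := by
      intro e he
      have e1 : ⁅e, t * x⁆ = ⁅e, t⁆ * (⁅⁅e, x⁆, t⁆⁻¹ * ⁅e, x⁆) := by
        simp only [commutatorElement_def]; group
      rw [e1]
      exact mul_mem (hZ (comm_mem_Z _ ht)) (mul_mem (inv_mem (hZ (comm_mem_Z _ ht))) (hx e he))
    by_contra k1
    refine nz0 (T1 _ (h.comp hg (h.comp (h.conj hx1) hf))
      (h.far hf nf hg (fun y hy => (efg y hy).1) hx1 k1) _ hz0 ?_)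
    have e2 : cj (t * x) w = cj x w * z := by
      have e3 : cj (t * x) w = cj t (cj x w) := by simp only [cj_apply]; group
      rw [e3, cj_eq, e, inv_inv]
      exact (commutatorElement_eq_one_iff_mul_comm.1 (comm_Z _ hz)).symm
    change g (cj (t * x) (f (xz 1 sg_one))) ∈ Q2 K
    rw [← hw, e2]
    exact k
  have cw : ∀ e ∈ E, ⁅w, e⁆ = 1 := fun e he => commutatorElement_eq_one_iff_mul_comm.2 ((mem_cz.1 hwV).2 e he).symm
  have Q : ∀ e ∈ E, e.a = e.b / w.b * w.a := fun e he => by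
    have := congrArg U.c (cw e he)
    rw [comm_c, one_c] at this
    field_simp
    linear_combination -this
  have a0 : w.a ≠ 0 := fun k => hQ fun e he => by rw [mem_Q1, Q e he, k, mul_zero]
  -- the elements of `Z3` commuting with `w`
  have D : ∀ u ∈ Z3 K, Tr (u.d * w.a) = 0 → w.b * u.y = Tr (w.c * u.d) → u ∈ E := fun u hu k1 k2 => by
    obtain ⟨t, ht, m⟩ := N u fun e he => hZ (by
      have := comm_mem_Z2 e hu
      refine ⟨this.1, this.2.1, this.2.2.1, this.2.2.2, ?_⟩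
      simp only [comm_y, hu.1, hu.2.1, hu.2.2, Q e he]
      rw [mul_left_comm, Tr_smul (by simp), k1]
      simp)
    have := congrArg U.z (cw _ m)
    simp only [comm_z, mul_a, mul_b, mul_c, mul_d, mul_y, ht.1, ht.2.1, ht.2.2.1, ht.2.2.2, hu.1, hu.2.1, hu.2.2] at this
    simp [k1] at this
    have ty : t.y = 0 := mul_left_cancel₀ b0 (by linear_combination -this - k2)
    exact (E.mul_mem_cancel_left (hZ ⟨ht.1, ht.2.1, ht.2.2.1, ht.2.2.2, ty⟩)).1 m
  obtain ⟨t, ht, t0⟩ := exists_perp (sh w.a) 0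
  obtain ⟨s, hs⟩ := exists_Tr a0 (s := Tr (w.c * cr t w.a) / w.b) (by simp)
  let x : U K := ⟨0, 0, t, s, 0, 0, by simp, by simp, by simp⟩
  obtain ⟨r, hr, m⟩ := N x fun e he => by
    have l : sg (e.b / w.b) = e.b / w.b := by simp
    have ed : ⁅e, x⁆.d = e.b / w.b * cr t w.a := by simp [x, Q e he, cr_smul l]
    refine D _ (comm_mem_Z3 e ⟨rfl, rfl⟩) ?_ ?_
    · rw [ed, mul_assoc, Tr_smul l, ← Tr_cr, cr_self, mul_left_comm, Tr_smul sg_two, ht]; simp
    · rw [ed, mul_left_comm, Tr_smul l]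
      simp only [comm_y, x, Q e he, sh_mul]
      rw [mul_left_comm s, Tr_smul l, hs, mul_left_comm t, Tr_smul (l := sh (e.b / w.b)) (by simp [sh]), ht]
      simp
      field_simp
  have := congrArg U.d (cw _ m)
  simp [x, hr.1, hr.2.1, hr.2.2.1] at this
  exact t0 0 sg_zero (by rw [cr_inj h2 a0 ((cr_comm _ _).trans this), zero_mul])

end CL.TD
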