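/-
Project TD: the parts FAM and AN.
-/
import Cfsg.Agent.TD.Defs1

set_option autoImplicit false
set_option linter.unusedSectionVars false
set_option linter.unusedSimpArgs false

namespace CL.TD

open Cfsg CL.Fus CL.U5
open scoped commutatorElement

universe u

namespace Famx

variable {K : Type u} [Field K] [TF K]

theorem z2 (h2 : (2 : K) ≠ 0) {a : K} (h : a = -a) : a = 0 :=
  (mul_eq_zero.1 (show 2 * a = 0 by linear_combination h)).resolve_left h2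

theorem pls (h2 : (2 : K) ≠ 0) {g : Au (V8 K)} (cg : Commute g (hm K)) {y : V8 K} (hy : hm K (g y) = g y) :
    y.c = 0 ∧ y.y = 0 := by
  have e : hm K y = y := g.injective ((congrArg (fun k : Au (V8 K) => k y) cg.eq).trans hy)
  exact ⟨z2 h2 (by simpa using (congrArg V8.c e).symm), z2 h2 (by simpa using (congrArg V8.y e).symm)⟩

theorem mns (h2 : (2 : K) ≠ 0) {g : Au (V8 K)} (cg : Commute g (hm K)) {w : V8 K} (hw : hm K (g w) = -g w) :
    w = nv w.c ⟨w.y, w.hy⟩ := by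
  have e : hm K w = -w := g.injective ((congrArg (fun k : Au (V8 K) => k w) cg.eq).trans (hw.trans (map_neg g w).symm))
  exact V8.ext (z2 h2 (by simpa using congrArg V8.b e)) rfl (z2 h2 (by simpa using congrArg V8.d e)) rfl

theorem bz {g : Au (V8 K)} (c : Conf g⁻¹) {s : Fx K} (hs : s ≠ 0) {y : V8 K} (h : om (g (s • cv)) (g y) = 0) : y.b = 0 := by
  have := c.perp h
  rw [au_inv_apply, au_inv_apply, om_smul_l, om_swap, om_cv, neg_neg] at this
  exact (mul_eq_zero.1 this).resolve_left fun e => hs (Subtype.ext e)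

theorem mt_nv (x A : K) (β : Fx K) {s T : Fx K} (hT : (T : K) * s = Tr (A * sh x)) :
    Mt x (nv A β) = nv A β + dv (cr A x) + T • s • cv := by
  ext <;> simp [hT]

theorem mt_dv (x B : K) {s T : Fx K} (hT : (T : K) * s = Tr (B * x)) : Mt x (dv B) = dv B + T • s • cv := by
  ext <;> simp [hT]

theorem exT {s : Fx K} (hs : s ≠ 0) (a : K) : ∃ T : Fx K, (T : K) * s = Tr a :=
  ⟨⟨Tr a, sg_Tr a⟩ / s, congrArg Subtype.val (div_mul_cancel₀ _ hs)⟩

theorem cjm (g t : Au (V8 K)) (v : V8 K) : (g * t * g⁻¹ : Au (V8 K)) (g v) = g (t v) := by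
  rw [au_mul, au_mul, au_inv_apply]

theorem setup (ni : NI K) {p : ℕ} [Fact p.Prime] [CharP K p] {L : Subgroup (Au (V8 K))} (h : H2 p L) (h2 : (2 : K) ≠ 0)
    {u w y : V8 K} (ou : OV L u) (hu : hm K u = -u) (hw : hm K w = -w) (hy : hm K y = y) (nw : ∀ l : Fx K, w ≠ l • u) :
    ∃ g ∈ L, ∃ s : Fx K, s ≠ 0 ∧ g (s • cv) = u ∧ ∃ γ : K ≃+* K, (∀ (l : Fx K) v, g (l • v) = fxm γ l • g v) ∧
      ∃ A β, A ≠ 0 ∧ g (nv A β) = w ∧ ∃ y', g y' = y ∧ y'.c = 0 ∧ y'.y = 0 := by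
  obtain ⟨g, hg, cg, s, hs, rfl⟩ := ni p L h h2 u ou hu
  obtain ⟨γ, -, -, -, sm, -⟩ := h.sem g hg
  obtain ⟨w, rfl⟩ := g.surjective w
  obtain ⟨y, rfl⟩ := g.surjective y
  refine ⟨g, hg, s, hs, rfl, γ, sm, w.c, _, fun e => nw (fxm γ (⟨w.y, w.hy⟩ / s)) ?_, congrArg g (mns h2 cg hw).symm,
    y, rfl, pls h2 cg hy⟩
  rw [← sm, smul_smul, div_mul_cancel₀ _ hs]
  refine congrArg g ((mns h2 cg hw).trans ?_)
  ext <;> simp [e]

end Famx

variable (K : Type u) [Field K] [TF K]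

open Famx in
theorem fam (ni : NI K) : FAM K := by
  intro p _ _ L h h2 u w y hu hw hy _ nw
  refine ⟨fun ou uy => ?_, ?_⟩
  · obtain ⟨g, hg, s, hs, rfl, γ, sm, A, β, hA, rfl, y, rfl, yc, yy⟩ := setup ni h h2 ou hu hw hy nw
    obtain ⟨x, hx⟩ := cr_surj h2 hA y.d
    obtain ⟨T, hT⟩ := exT hs (A * sh x)
    refine ⟨g * Mt x * g⁻¹, fxm γ T, ⟨g, hg, s, hs, rfl, x, rfl⟩, ?_⟩
    rw [cjm, mt_nv x A β hT, map_add, map_add, sm,
      show dv (cr A x) = y from V8.ext (bz (h.conf _ (inv_mem hg)) hs uy).symm yc.symm hx yy.symm]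
  · rintro _ Q ⟨g0, hg0, s0, hs0, e0, a, rfl⟩ tw l
    obtain ⟨g, hg, s, hs, rfl, γ, sm, A, β, hA, rfl, y, rfl, yc, yy⟩ := setup ni h h2 ⟨g0, hg0, s0, hs0, e0⟩ hu hw hy nw
    have hk := mul_mem (inv_mem hg) hg0
    obtain ⟨x, hx⟩ := h.ns _ hk ((h.sem _ hk).PL_of hs0 (by rw [au_mul, e0, au_inv_apply]; exact inC_iff.2 ⟨s, rfl⟩)) a
    obtain ⟨Q, rfl⟩ := fxm_surj γ Q
    obtain ⟨l, rfl⟩ := fxm_surj γ l
    rw [show g0 * Mt a * g0⁻¹ = g * Mt x * g⁻¹ by rw [hx]; group, cjm, ← sm, ← map_add, ← map_add] at tw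
    have e := g.injective tw
    have eb : y.b = 0 := by simpa using (congrArg V8.b e).symm
    have ed : y.d = cr A x := by simpa using (congrArg V8.d e).symm
    have ey : (Q : K) * s = Tr (A * sh x) := by simpa [yy] using (congrArg V8.y e).symm
    obtain rfl : y = dv (cr A x) := V8.ext eb yc ed yy
    refine ⟨g * Mt (l * x) * g⁻¹, ⟨g, hg, s, hs, rfl, _, rfl⟩, by rw [cjm, Mt_cv], ?_, ?_⟩
    · rw [cjm, mt_nv (l * x) A β (s := s) (T := l ^ 2 * Q) (by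
        push_cast
        simp only [Tr, sh, sg_mul, sg_fx, sg3] at ey ⊢
        linear_combination (l : K) ^ 2 * ey), map_add, map_add, sm,
        show dv (cr A (l * x)) = l • dv (cr A x) by ext <;> simp [cr_smul (sg_fx l)], sm,
        show fxm γ (l ^ 2 * Q) = fxm γ l ^ 2 * fxm γ Q from Subtype.ext (by simp)]
    · rw [cjm, mt_dv (l * x) _ (s := s) (T := 2 * l * Q) (by
        change (2 : K) * l * Q * s = _
        simp only [Tr, sh, cr, sg_mul, sg_add, sg_fx, sg3] at ey ⊢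
        linear_combination 2 * (l : K) * ey), map_add, sm,
        show fxm γ (2 * l * Q) = 2 * fxm γ l * fxm γ Q from Subtype.ext (by
          change γ (2 * l * Q) = 2 * γ l * γ Q
          rw [map_mul, map_mul, map_ofNat])]

open Famx in
theorem an (ni : NI K) : AN K := by
  intro p _ _ L h h2 A β ou hA x hx t1 t2
  obtain ⟨g, hg, cg, s, hs, e⟩ := ni p L h h2 _ ou (by ext <;> simp)
  obtain ⟨γ, -, -, -, sm, -⟩ := h.sem g hg
  obtain ⟨y, ey⟩ := g.surjective (dv (cr A x))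
  obtain ⟨yc, yy⟩ := pls h2 cg (y := y) (by rw [ey]; ext <;> simp)
  have yb : y.b = 0 := bz (h.conf _ (inv_mem hg)) hs (by rw [e, ey]; simp [om, Tr_cr_self, t1])
  have yd : y = dv y.d := V8.ext yb yc rfl yy
  set P : Set (V8 K) := {v | ∃ l m : Fx K, v = l • nv A β + m • dv (cr A x)}
  let X : Subgroup (Au (V8 K)) :=
    { carrier := {k | k ∈ L ∧ ∀ v ∈ P, k v ∈ P}
      mul_mem' := fun a b => ⟨mul_mem a.1 b.1, fun v hv => a.2 _ (b.2 v hv)⟩
      one_mem' := ⟨one_mem _, fun _ hv => hv⟩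
      inv_mem' := fun a => ⟨inv_mem a.1, fun _ hv => inv_mem_of a.2 hv⟩ }
  have m1 : ∀ z, ∀ v ∈ P, (g * Mt z * g⁻¹ : Au (V8 K)) v ∈ P := by
    rintro z _ ⟨l, m, rfl⟩
    obtain ⟨T, hT⟩ := exT hs (y.d * z)
    refine ⟨l + m * fxm γ T, m, ?_⟩
    rw [map_add, (h.iso hg z).smul, (h.iso hg z).smul, ← e, ← ey, cjm, cjm, Mt_cv, yd, mt_dv z _ hT, map_add, sm T, smul_add,
      add_smul, mul_smul]
    abel
  have m2 : ∀ v ∈ P, Mt x v ∈ P := by
    rintro _ ⟨l, m, rfl⟩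
    refine ⟨l, l + m, ?_⟩
    rw [map_add, Mt_smul, Mt_smul, mt_nv x A β (s := 1) (T := 0) (by simp [t2]), mt_dv x _ (s := 1) (T := 0) (by
      rw [mul_comm _ x, cr_comm, Tr_cr_self, mul_comm _ A, t2]; simp), zero_smul, add_zero, add_zero, smul_add, add_smul,
      add_assoc]
  obtain ⟨z, -, hz⟩ := exists_perp 0 x
  obtain ⟨l, m, k⟩ := (h.sub X (fun _ a => a.1) g hg (fun z => ⟨mul_mem (mul_mem hg (h.mt z)) (inv_mem hg), m1 z⟩) x hx
    ⟨h.mt x, m2⟩ z).2 (nv A β) ⟨1, 0, by simp⟩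
  refine hz m (sg_fx m) (sub_eq_zero.1 (cr_inj h2 hA ?_))
  rw [cr_sub, cr_smul (sg_fx m), sub_eq_zero]
  simpa using congrArg V8.d k

end CL.TD
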