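/-
Project TD: the points of the orbit outside the hyperplane.
-/
import Cfsg.Agent.TD.Defs1

set_option autoImplicit false

namespace CL.TD

open Cfsg CL.Fus CL.U5

universe u

namespace FARx

variable {K : Type u} [Field K] [TF K] {p : ℕ} {L : Subgroup (Au (V8 K))}

theorem perp (h : H3 p L) {u1 u2 : V8 K} (h1 : OV L u1) (h2 : OV L u2) (k : om u2 u1 = 0) :
    ∃ l : Fx K, u2 = l • u1 := by
  obtain ⟨g, hg, s, hs, rfl⟩ := h1
  have e := (h.conf _ (inv_mem hg)).perp k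
  rw [show g⁻¹ (g (s • cv)) = s • cv from g.symm_apply_apply _, om_smul_r, om_cv, mul_eq_zero, neg_eq_zero] at e
  obtain ⟨t, ht⟩ := inC_iff.1 (h.perp _ (h2.map (inv_mem hg)) (e.resolve_left fun o => hs (Subtype.ext o)))
  obtain ⟨γ, μ, -, -, m, -⟩ := h.sem g hg
  exact ⟨fxm γ (t / s), by rw [← m, smul_smul, div_mul_cancel₀ _ hs, ← ht, au_apply_inv]⟩

theorem nrm (h : H3 p L) {u : V8 K} (hu : OV L u) (n : ¬ InC u) :
    ∃ B β, OV L (fv B β) ∧ ∃ a, ∃ l : Fx K, l ≠ 0 ∧ u = l • Mt a (fv B β) := by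
  have b : u.b ≠ 0 := fun e => n (h.perp u hu e)
  have l0 : (⟨u.b, u.hb⟩ : Fx K) ≠ 0 := fun e => b (congrArg Subtype.val e)
  have e : (⟨u.b, u.hb⟩ : Fx K)⁻¹ • Mt (-(u.c / u.b)) u = fv ((⟨u.b, u.hb⟩ : Fx K)⁻¹ • Mt (-(u.c / u.b)) u).d
      ⟨_, ((⟨u.b, u.hb⟩ : Fx K)⁻¹ • Mt (-(u.c / u.b)) u).hy⟩ :=
    V8.ext (by simp [b]) (by simp [b]; field_simp; ring) rfl rfl
  refine ⟨_, _, e ▸ h.toH0.ov_smul (hu.map (h.toH0.mt _)) (inv_ne_zero l0), u.c / u.b, _, l0, ?_⟩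
  rw [← e, Mt_smul, smul_inv_smul₀ l0, ← au_mul, ← Mt_add, add_neg_cancel, Mt_zero, au_one]

theorem uniq (cw : CW K) (h : H3 p L) {B B' : K} {β β' : Fx K} (h1 : OV L (fv B β)) (h2 : OV L (fv B' β')) :
    B = B' ∧ β = β' := by
  obtain ⟨a, ha⟩ := cw (B + B') (β - β') (by simp)
  obtain ⟨l, e⟩ := perp h h2 (h1.map (h.toH0.mt a)) (by
    rw [add_mul, Tr_add] at ha
    simp only [om, Mt_b, Mt_c, Mt_d, Mt_y, fv_b, fv_c, fv_d, fv_y, zero_mul, one_mul, zero_add, Tr_zero, mul_comm a]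
    linear_combination ha)
  have l1 : (l : K) = 1 := by simpa using (congrArg V8.b e).symm
  have a0 : a = 0 := by simpa using congrArg V8.c e
  exact ⟨by simpa [a0, l1] using congrArg V8.d e, Subtype.ext (by simpa [a0, l1] using congrArg V8.y e)⟩

end FARx

variable (K : Type u) [Field K] [TF K]

open FARx in
theorem far (cw : CW K) : FAR K := by
  rintro p _ _ L h ⟨g, hg, n⟩
  obtain ⟨B, β, h1, -⟩ := nrm h ((ov_cv L one_ne_zero).map hg) fun k => n ((h.sem g hg).PL_of one_ne_zero k)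
  obtain rfl : β = 0 := by
    by_cases h2 : (2 : K) = 0
    · obtain ⟨k, hk, s, -, e⟩ := h1
      obtain ⟨ζ, -, q⟩ := h.conf k hk
      have := q h2 (s • cv) (by simp [Qf])
      rw [e] at this
      exact Subtype.ext (by simpa [Qf] using this)
    · have e : hm K (fv B β) = fv B (-β) := by ext <;> simp
      have : (-β : K) = β := congrArg Subtype.val (uniq cw h (e ▸ h1.map h.toH1.hm_mem) h1).2
      exact Subtype.ext ((mul_eq_zero.1 (by linear_combination -this : (2 : K) * β = 0)).resolve_left h2)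
  refine ⟨B, h1, fun u hu => (em (InC u)).imp_right fun k => ?_, fun h2 h3 => ?_⟩
  · obtain ⟨B', β', h2, r⟩ := nrm h hu k
    obtain ⟨rfl, rfl⟩ := uniq cw h h2 h1
    exact r
  obtain ⟨v, v0, v1⟩ : ∃ v : Fx K, v ≠ 0 ∧ v ≠ 1 := by
    classical
    have := Fintype.ofFinite (Fx K)
    obtain ⟨v, hv⟩ := Finset.exists_mem_notMem_of_card_lt_card (s := {0, 1}) (t := (Finset.univ : Finset (Fx K))) (by
      rw [Finset.card_univ, ← Nat.card_eq_fintype_card, card_Fx]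
      exact Finset.card_le_two.trans_lt h3)
    exact ⟨v, by simpa using hv.2⟩
  have w0 : (v : K) ≠ 0 := fun e => v0 (Subtype.ext e)
  obtain ⟨e1, e2, e3, e4⟩ := hb_apply (Units.mk0 (v : K) w0) v.2 (fv B 0)
  have e : (v ^ 2)⁻¹ • actV (hb (Units.mk0 (v : K) w0) v.2) (fv B 0) = fv (((v : K) ^ 2)⁻¹ * B) 0 :=
    V8.ext (by rw [smul_b, e1]; simp [w0]) (by rw [smul_c, e2]; simp) (by rw [smul_d, e3]; simp)
      (by rw [smul_y, e4]; simp)
  have k := (uniq cw h (e ▸ h.toH0.ov_smul (h1.map (h.tor _ _)) (inv_ne_zero (pow_ne_zero 2 v0))) h1).1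
  by_contra b
  rw [mul_left_eq_self₀, or_iff_left b, inv_eq_one] at k
  exact v1 (Subtype.ext (sub_eq_zero.1 (pow_eq_zero_iff two_ne_zero |>.1
    (by linear_combination k + (1 - (v : K)) * h2 : ((v : K) - 1) ^ 2 = 0))))

end CL.TD
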