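/-
Project TD: the automizers of `Q1` and `Q2` are generated by the restrictions and the reflections.
-/
import Cfsg.Agent.TD.Fld

set_option autoImplicit false
set_option linter.unusedSectionVars false
set_option linter.unusedSimpArgs false
set_option linter.unnecessarySeqFocus false

namespace CL.TD

open Cfsg CL.Fus CL.U5
open scoped commutatorElement

universe u

variable {K : Type u} [Field K] [TF K]

namespace Genx

theorem gam {h : Par K} (e : h.γ = 1) (x : K) : h.γ x = x := by rw [e]; rfl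

theorem par_pow {h : Par K} (e : h.γ = 1) (n : ℕ) :
    ((h ^ n).l : K) = (h.l : K) ^ n ∧ ((h ^ n).m : K) = (h.m : K) ^ n ∧ ∀ x, (h ^ n).γ x = x := by
  induction n with
  | zero => simp
  | succ n ih => simp [pow_succ, ih.1, ih.2.1, ih.2.2, gam e]

theorem par_pow_card [Fintype K] {h : Par K} (e : h.γ = 1) : h ^ (Fintype.card K - 1) = 1 :=
  have k := par_pow e (Fintype.card K - 1)
  par_ext (k.1.trans (FiniteField.pow_card_sub_one_eq_one _ h.l.ne_zero))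
    (k.2.1.trans (FiniteField.pow_card_sub_one_eq_one _ h.m.ne_zero)) k.2.2

theorem res_pow {Q : Subgroup (U K)} {α : MulAut (U K)} {a : MulAut Q} (h : Res α a) (n : ℕ) : Res (α ^ n) (a ^ n) := by
  induction n with
  | zero => exact fun _ => rfl
  | succ n ih => rw [pow_succ, pow_succ]; exact ih.mul h

/-- the restrictions of the diagonal automorphisms -/
def Dg (Q : Subgroup (U K)) : Subgroup (MulAut Q) where
  carrier := {a | ∃ h : Par K, h.γ = 1 ∧ Res (act h) a}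
  one_mem' := ⟨1, rfl, by rw [map_one]; exact fun _ => rfl⟩
  mul_mem' := by
    rintro a b ⟨h, e, r⟩ ⟨k, e', r'⟩
    exact ⟨h * k, show h.γ * k.γ = 1 by rw [e, e', mul_one], by rw [map_mul]; exact r.mul r'⟩
  inv_mem' := by
    rintro a ⟨h, e, r⟩
    exact ⟨h⁻¹, show h.γ⁻¹ = 1 by rw [e, inv_one], by rw [map_inv]; exact r.inv⟩

theorem not_dvd_Dg (p : ℕ) [hp : Fact p.Prime] [CharP K p] (Q : Subgroup (U K)) [Finite (MulAut Q)] :
    ¬ p ∣ Nat.card (Dg Q) := fun hd => by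
  have := Fintype.ofFinite K
  obtain ⟨⟨a, h, e, r⟩, ha⟩ := exists_prime_orderOf_dvd_card' p hd
  have k := res_pow r (Fintype.card K - 1)
  rw [← map_pow, par_pow_card e, map_one] at k
  have k1 : a ^ (Fintype.card K - 1) = 1 := k.eq fun _ => rfl
  rw [← Subgroup.orderOf_coe] at ha
  have k2 := (CharP.cast_eq_zero_iff K p _).2 (ha ▸ orderOf_dvd_of_pow_eq_one k1)
  rw [Nat.cast_pred Fintype.card_pos, FiniteField.cast_card_eq_zero] at k2
  simp at k2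

theorem geng {p : ℕ} [Fact p.Prime] [CharP K p] {Q : Subgroup (U K)} [Q.Normal] {A0 : Subgroup (MulAut (U K))}
    {A : Subgroup (MulAut Q)} {H : Subgroup (Par K)} (hQ : ∀ (h : Par K) x, act h x ∈ Q ↔ x ∈ Q) (R : Rk1 p Q A0 A)
    (S : Std A0 H) (hH : ∀ h : Par K, h.γ = 1 → h ∈ H) {r g : MulAut Q} (hg : g ∈ A) (hm : r⁻¹ * g ∈ Cd Q)
    (faith : ∀ s : U K, MulAut.conjNormal s ∈ Cd Q → s ∈ Q)
    (hr : ∀ h : Par K, h.γ = 1 → ∃ h' : Par K, h'.γ = 1 ∧ ∀ x y : Q, (y : U K) = act h x → (r y : U K) = act h' (r x))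
    (cp : ∀ n ∈ Cd Q, (∀ h : Par K, h.γ = 1 → ∀ x y : Q, (y : U K) = act h x → (n y : U K) = act h (n x)) →
      ∃ s ∈ Q, n = MulAut.conjNormal s)
    (br : ∀ a ∈ A, (∃ α ∈ A0, Res α a) ∨ ∃ s : U K, ∃ α ∈ A0, Res α (g * MulAut.conjNormal s * a)) :
    r ∈ A ∧ ∀ A' : Subgroup (MulAut Q), r ∈ A' → (∀ α ∈ A0, ∀ a, Res α a → a ∈ A') → A ≤ A' := by
  have : Finite (MulAut Q) := Finite.of_injective (fun a : MulAut Q => (a : Q → Q)) DFunLike.coe_injective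
  have hP : IsPGroup p (Cd Q) := Cd_pg ((pg p).to_subgroup Q)
  have cA : ∀ s : U K, (MulAut.conjNormal s : MulAut Q) ∈ A := fun s => R.syl.le (mem_T.2 ⟨s, rfl⟩)
  have hAP : ∀ a ∈ A, a ∈ Cd Q → ∃ s ∈ Q, a = MulAut.conjNormal s := fun a ha hc => by
    have k : A ⊓ Cd Q ≤ autInducedBy ⊤ Q := R.syl.le_of_normalizes (hP.to_le inf_le_right) inf_le_left
      (R.syl.le.trans (le_trans (le_inf Subgroup.le_normalizer Subgroup.le_normalizer_of_normal)
        (Subgroup.inf_normalizer_le_normalizer_inf)))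
    obtain ⟨s, rfl⟩ := mem_T.1 (k ⟨ha, hc⟩)
    exact ⟨s, faith s hc, rfl⟩
  have hDA : Dg Q ≤ A := by
    rintro a ⟨h, e, k⟩
    obtain ⟨b, hb, k'⟩ := R.res _ ((S _).2 ⟨1, h, hH h e, by rw [map_one, one_mul]⟩)
    rwa [k.eq k']
  have hI : (MulAut.conj : Q →* MulAut Q).range.Normal := ⟨by
    rintro _ ⟨s, rfl⟩ b
    exact ⟨b s, MulEquiv.ext fun x => by simp⟩⟩
  have mI : ∀ s ∈ Q, (MulAut.conjNormal s : MulAut Q) ∈ (MulAut.conj : Q →* MulAut Q).range :=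
    fun s hs => ⟨⟨s, hs⟩, MulEquiv.ext fun x => Subtype.ext rfl⟩
  have rA : r ∈ A := by
    refine liftG (I := (MulAut.conj : Q →* MulAut Q).range) (D := Dg Q) hP ?_ ?_ (fun a ha hc => ?_) (not_dvd_Dg p Q)
      hDA hg hm ?_ fun n hn k => ?_
    · rintro _ ⟨s, rfl⟩; exact conj_mem_Cd s
    · rintro _ ⟨s, rfl⟩
      rw [show MulAut.conj s = MulAut.conjNormal (s : U K) from MulEquiv.ext fun x => Subtype.ext rfl]
      exact cA s
    · obtain ⟨s, hs, rfl⟩ := hAP a ha hc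
      exact mI s hs
    · rintro a ⟨h, e, k⟩
      obtain ⟨h', e', k'⟩ := hr h e
      refine hDA ⟨h', e', fun x => ?_⟩
      rw [MulAut.mul_apply, MulAut.mul_apply, k' _ _ (k _), MulAut.apply_inv_self]
    · obtain ⟨s, hs, rfl⟩ := cp n hn fun h e x y hy => by
        obtain ⟨a, ha⟩ := exists_res (act h) (hQ h)
        obtain rfl : y = a x := Subtype.ext (hy.trans (ha x).symm)
        rw [← ha, ← MulAut.mul_apply, (k a ⟨h, e, ha⟩).eq, MulAut.mul_apply]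
      exact mI s hs
  refine ⟨rA, fun A' r' res' a ha => ?_⟩
  have c' : ∀ s : U K, (MulAut.conjNormal s : MulAut Q) ∈ A' := fun s => res' _ (R.inn s) _ (res_conj s)
  rcases br a ha with ⟨α, hα, k⟩ | ⟨s, α, hα, k⟩
  · exact res' α hα a k
  · obtain ⟨s', -, e⟩ := hAP _ (A.mul_mem (A.inv_mem rA) hg) hm
    have g' : g ∈ A' := (A'.mul_mem_cancel_left (A'.inv_mem r')).1 (e ▸ c' s')
    exact (A'.mul_mem_cancel_left (A'.mul_mem g' (c' s))).1 (res' α hα _ k)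

theorem cd_of {Q : Subgroup (U K)} {r g : MulAut Q} (h : ∀ x, (r x)⁻¹ * g x ∈ commutator Q) : r⁻¹ * g ∈ Cd Q :=
  fun x => by
    have := aut_comm r⁻¹ (h x)
    rwa [map_mul, map_inv, MulAut.inv_apply_self] at this

theorem r1_co (g : Q1 K) : (r1 K g : U K).a = 0 ∧ (r1 K g : U K).b = -g.1.y ∧ (r1 K g : U K).c = g.1.d ∧
    (r1 K g : U K).d = -g.1.c ∧ (r1 K g : U K).y = g.1.b ∧
    (r1 K g : U K).z = g.1.z - g.1.b * g.1.y + Tr (g.1.c * g.1.d) := ⟨rfl, rfl, rfl, rfl, rfl, rfl⟩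

theorem r2_co (g : Q2 K) : (r2 K g : U K).a = -g.1.c ∧ (r2 K g : U K).b = 0 ∧ (r2 K g : U K).c = g.1.a ∧
    (r2 K g : U K).d = g.1.d - cr g.1.a g.1.c ∧
    (r2 K g : U K).y = -g.1.z - Tr (g.1.c * g.1.d) + Tr (g.1.a * sh g.1.c) ∧
    (r2 K g : U K).z = g.1.y - Tr (g.1.a * g.1.d) + Tr (sh g.1.a * g.1.c) := ⟨rfl, rfl, rfl, rfl, rfl, rfl⟩

theorem hr1 (h : Par K) (e : h.γ = 1) : ∃ h' : Par K, h'.γ = 1 ∧
    ∀ x y : Q1 K, (y : U K) = act h x → (r1 K y : U K) = act h' (r1 K x) := by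
  refine ⟨⟨h.l⁻¹, Units.mk0 (Nr (h.l : K)) (by simp) * h.m, 1, by simp⟩, rfl, fun x y hy => ?_⟩
  have l0 : (h.l : K) ≠ 0 := h.l.ne_zero
  have l1 : sg (h.l : K) ≠ 0 := by simp
  have l2 : sg (sg (h.l : K)) ≠ 0 := by simp
  ext <;> simp only [r1_co x, r1_co y, hy, act_a, act_b, act_c, act_d, act_y, act_z, gam e, RingAut.one_apply, Units.val_mul, Units.val_mk0,
    Units.val_inv_eq_inv_val, Nr, sh, Tr, sg_mul, sg_inv, sg3, h.hm] <;> field_simp <;> ring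

theorem hr2 (h : Par K) (e : h.γ = 1) : ∃ h' : Par K, h'.γ = 1 ∧
    ∀ x y : Q2 K, (y : U K) = act h x → (r2 K y : U K) = act h' (r2 K x) := by
  refine ⟨⟨h.l * h.m, h.m⁻¹, 1, by simp⟩, rfl, fun x y hy => ?_⟩
  have m0 : (h.m : K) ≠ 0 := h.m.ne_zero
  ext <;> simp only [r2_co x, r2_co y, hy, act_a, act_b, act_c, act_d, act_y, act_z, gam e, RingAut.one_apply, Units.val_mul, Units.val_mk0,
    Units.val_inv_eq_inv_val, Nr, sh, Tr, cr, sg_mul, sg_inv, sg3, h.hm] <;> field_simp <;> ring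

end Genx

open Genx in
theorem gen1 (c : COM K) (t : TOR K) (a : AUT1 K) (h : CP1 K) : GEN1 K := by
  intro p _ _ A0 A H R S hb'
  obtain ⟨ha', g, hg, k, br⟩ := a p A0 A H R S hb'
  refine ⟨ha', geng act_Q1 R S (t H ha' hb') hg (cd_of fun x => (c.2.1 _).2 (k x)) (fun s hs => ?_) hr1
    (fun n hn => h n fun x => (c.2.1 _).1 (hn x)) br⟩
  have := ((c.2.1 _).1 (hs ⟨xb 1 sg_one, rfl⟩)).2.2.1
  simp [xb] at this
  exact (mem_Q1.2 (by linear_combination this))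

open Genx in
theorem gen2 (c : COM K) (t : TOR K) (a : AUT2 K) (h : CP2 K) : GEN2 K := by
  intro p _ _ A0 A H R S
  obtain ⟨hb', g, hg, k, br⟩ := a p A0 A H R S
  refine ⟨hb', fun ha' => geng act_Q2 R S (t H ha' hb') hg (cd_of fun x => (c.2.2 _).2 (k x)) (fun s hs => ?_) hr2
    (fun n hn k' => ⟨1, one_mem _, by rw [map_one]; exact h n (fun x => (c.2.2 _).1 (hn x)) k'⟩) br⟩
  have := ((c.2.2 _).1 (hs ⟨xa 1, rfl⟩)).2.2
  simp [xa] at this
  exact (mem_Q2.2 (by linear_combination -this))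

end CL.TD
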