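/-
Project TD: the linear group on `Q1 / Z` for `q = 2`.
-/
import Cfsg.Agent.TD.Defs1

set_option autoImplicit false
set_option linter.unusedSectionVars false

namespace CL.TD

open Cfsg CL.Fus CL.U5
open scoped commutatorElement

universe u

namespace L1Q

variable {K : Type u} [Field K] [TF K]

theorem fix (hq : TF.q K = 2) {l : K} (h : sg l = l) : l = 0 ∨ l = 1 := by
  rw [sg_eq_pow, hq] at h
  exact (mul_eq_zero.1 (show l * (l - 1) = 0 by linear_combination h)).imp_right sub_eq_zero.1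

theorem two (hq : TF.q K = 2) : (2 : K) = 0 :=
  (fix hq sg_two).resolve_right fun e => one_ne_zero (α := K) (by linear_combination e)

theorem fx_one (hq : TF.q K = 2) {s : Fx K} (hs : s ≠ 0) : s = 1 :=
  Subtype.ext ((fix hq s.2).resolve_left fun e => hs (Subtype.ext e))

theorem fixγ (hq : TF.q K = 2) (γ : K ≃+* K) (l : K) (h : sg l = l) : γ l = l := by
  rcases fix hq h with rfl | rfl <;> simp

/-- the three automorphisms -/
theorem aut (hq : TF.q K = 2) (γ : K ≃+* K) :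
    (∀ x, γ x = x) ∨ (∀ x, γ x = sg x) ∨ ∀ x, γ x = sg (sg x) := by
  obtain ⟨t, ht⟩ := exists_ne K
  have e : ∀ x : K, (x - t) * (x - sg t) * (x - sg (sg t)) = x ^ 3 - Tr t * x ^ 2 + Tr (sh t) * x - Nr t := fun x => by
    simp only [Tr, sh, Nr, sg_mul, sg3]; ring
  have h0 : t ^ 3 - Tr t * t ^ 2 + Tr (sh t) * t - Nr t = 0 := by rw [← e]; ring
  have h1 := congrArg γ h0
  rw [map_sub, map_add, map_sub, map_mul, map_mul, map_pow, map_pow, fixγ hq γ _ (sg_Tr t), fixγ hq γ _ (sg_Tr _),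
    fixγ hq γ _ (sg_Nr t), map_zero, ← e, mul_eq_zero, mul_eq_zero, sub_eq_zero, sub_eq_zero, sub_eq_zero] at h1
  rcases h1 with (h1 | h1) | h1
  · exact .inl (gal_one (fixγ hq γ) ht h1)
  · refine .inr (.inl fun x => ?_)
    have := gal_one (γ := (γ.trans TF.s).trans TF.s) (fixγ hq _) ht (show sg (sg (γ t)) = t by rw [h1, sg3]) x
    rw [← show sg (sg (γ x)) = x from this, sg3, show sg (sg (γ x)) = x from this]
  · refine .inr (.inr fun x => ?_)
    have := gal_one (γ := γ.trans TF.s) (fixγ hq _) ht (show sg (γ t) = t by rw [h1, sg3]) x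
    rw [← show sg (γ x) = x from this, sg3, show sg (γ x) = x from this]

theorem Nr_one' (hq : TF.q K = 2) {l : K} (hl : l ≠ 0) : Nr l = 1 :=
  (fix hq (sg_Nr l)).resolve_left (by simpa using hl)

theorem exists_fix (hq : TF.q K = 2) {γ : K ≃+* K} (h : ¬ ∀ x, γ x = x) {l : K} (hl : l ≠ 0) :
    ∃ b, b ≠ 0 ∧ l * γ b = b := by
  have h7 := Nr_one' hq hl
  rcases (aut hq γ).resolve_left h with e | e
  · exact ⟨l⁻¹, inv_ne_zero hl, by rw [e, sg_eq_pow, hq]; field_simp⟩
  · refine ⟨l ^ 2, pow_ne_zero _ hl, ?_⟩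
    rw [Nr_eq_pow, hq] at h7
    rw [e, sg_eq_pow, sg_eq_pow, hq]
    linear_combination l ^ 2 * h7

/-- the points outside `C` -/
def P (B a : K) : V8 K := Mt a (fv B 0)

theorem P_inj {B a a' : K} (h : P B a = P B a') : a = a' := by simpa [P] using congrArg V8.c h
theorem P_ne (B a : K) : P B a ≠ cv := fun h => by simpa [P] using congrArg V8.b h
theorem Mt_P (B x a : K) : Mt x (P B a) = P B (x + a) := by rw [P, P, Mt_add, au_mul]
theorem P_zero (B : K) : P B 0 = fv B 0 := by rw [P, Mt_zero, au_one]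
theorem Mt_c0 (a : K) : Mt a cv = cv := by simpa using Mt_cv a 1

variable {p : ℕ} {L : Subgroup (Au (V8 K))} {B : K}

theorem ov (hq : TF.q K = 2) (hF : Far K L B) {u : V8 K} (hu : OV L u) : u = cv ∨ ∃ a, u = P B a := by
  rcases hF.2 u hu with h | ⟨a, l, hl, h⟩
  · obtain ⟨s, rfl⟩ := inC_iff.1 h
    rw [fx_one hq (s := s) (by rintro rfl; exact hu.ne (zero_smul _ _)), one_smul]
    exact .inl rfl
  · exact .inr ⟨a, by rw [h, fx_one hq hl, one_smul, P]⟩

theorem ov_c : OV L (cv : V8 K) := by simpa using ov_cv L (s := 1) one_ne_zero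

/-- the involution fixing `P a` and interchanging `cv` and `P 0` -/
structure R (L : Subgroup (Au (V8 K))) (B a : K) (r : Au (V8 K)) : Prop where
  mem : r ∈ L
  iso : Iso r
  sq : r * r = 1
  c : r cv = P B 0
  fx : r (P B a) = P B a
  un : ∀ u, OV L u → r u = u → u = P B a

theorem R.rr {a : K} {r : Au (V8 K)} (h : R L B a r) (v : V8 K) : r (r v) = v := by rw [← au_mul, h.sq, au_one]
theorem R.e {a : K} {r : Au (V8 K)} (h : R L B a r) : r (P B 0) = cv := by rw [← h.c, h.rr]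

theorem exists_R (h : H3 p L) (hq : TF.q K = 2) (hF : Far K L B) {a : K} (ha : a ≠ 0) : ∃ r, R L B a r := by
  have hP : ∀ a, OV L (P B a) := fun a => hF.1.map (h.mt a)
  obtain ⟨g, hg, s, hs, e⟩ := hP a
  rw [fx_one hq hs, one_smul] at e
  obtain ⟨x, hx⟩ := (ov hq hF (ov_c.map (inv_mem hg))).resolve_left fun k =>
    P_ne B a (by rw [← e, ← k, au_apply_inv, k])
  obtain ⟨y, hy⟩ := (ov hq hF ((hP 0).map (inv_mem hg))).resolve_left fun k =>
    ha (P_inj (B := B) (by rw [← e, ← k, au_apply_inv]))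
  have hxy : y - x ≠ 0 := sub_ne_zero.2 fun k => P_ne B 0 (g⁻¹.injective (by rw [hx, hy, k]))
  refine ⟨g * Mt (y - x) * g⁻¹, mul_mem (mul_mem hg (h.mt _)) (inv_mem hg), h.iso hg _, ?_, ?_, ?_, fun u hu k => ?_⟩
  · rw [show g * Mt (y - x) * g⁻¹ * (g * Mt (y - x) * g⁻¹) = g * (Mt (y - x) * Mt (y - x)) * g⁻¹ by group, ← Mt_add,
      ← two_mul, two hq, zero_mul, Mt_zero, mul_one, mul_inv_cancel]
  · rw [au_mul, au_mul, hx, Mt_P, sub_add_cancel, ← hy, au_apply_inv]
  · rw [← e, au_mul, au_mul, au_inv_apply, Mt_c0]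
  · rcases ov hq hF (hu.map (inv_mem hg)) with k' | ⟨z, k'⟩
    · rw [← e, ← k', au_apply_inv]
    · rw [au_mul, au_mul, k', Mt_P, ← au_apply_inv g u, k'] at k
      exact absurd (by simpa using P_inj (g.injective k)) hxy

end L1Q

variable (K : Type u) [Field K] [TF K]

open L1Q in
theorem l1q : L1Q K := by
  intro p _ _ L h hq B hF
  have hP : ∀ a, OV L (P B a) := fun a => hF.1.map (h.mt a)
  obtain ⟨a, ha⟩ := exists_ne K
  obtain ⟨r, hr⟩ := exists_R h hq hF one_ne_zero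
  obtain ⟨s, hs⟩ := exists_R h hq hF (a := a) (by rintro rfl; exact ha sg_zero)
  have a1 : a ≠ 1 := by rintro rfl; exact ha sg_one
  have hc : (s * r) cv = cv := by rw [au_mul, hr.c, hs.e]
  have he : (s * r) (P B 0) = P B 0 := by rw [au_mul, hr.e, hs.c]
  have hm := mul_mem hs.mem hr.mem
  obtain ⟨x, k, -, e⟩ := h.std _ hm ((h.sem _ hm).PL_of (s := 1) one_ne_zero (by rw [one_smul, hc]; simp [InC]))
  have m1 : (k.m : K) = 1 := (fix hq k.hm).resolve_left k.m.ne_zero
  obtain rfl : x = 0 := by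
    have := congrArg V8.c he
    rw [e, au_mul, P_zero] at this
    simpa using this
  rw [Mt_zero, one_mul] at e
  have hb : ∀ b, s (r (P B b)) = P B (k.l * k.γ b) := fun b => by
    rw [← au_mul, e, P, ← au_mul, actV_Mt, au_mul, ← P_zero, ← e, he, Mt_P, add_zero]
  have nf : ∀ b, b ≠ 0 → (k.l : K) * k.γ b ≠ b := fun b b0 kb => by
    by_cases hγ : ∀ x, k.γ x = x
    · rw [hγ, mul_eq_right₀ b0] at kb
      have := hb 1
      rw [hr.fx, kb, hγ, one_mul] at this
      exact a1 (P_inj (hs.un _ (hP 1) this)).symm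
    have un : ∀ c, c ≠ 0 → (k.l : K) * k.γ c = c → c = b := fun c c0 kc => by
      have e1 : k.γ (c / b) = c / b := by
        rw [map_div₀, ← mul_div_mul_left _ _ k.l.ne_zero, kb, kc]
      have e2 : sg (c / b) = c / b := by_contra fun e2 => hγ (gal_one (fixγ hq _) e2 e1)
      exact (div_eq_one_iff_eq b0).1 ((fix hq e2).resolve_left (div_ne_zero c0 b0))
    have key : ∀ {c : K} {t : Au (V8 K)}, R L B c t → s (r (t (P B b))) = t (P B b) → b = c := fun {c t} ht k1 => by
      refine P_inj (ht.un _ (hP b) ?_)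
      rcases ov hq hF ((hP b).map ht.mem) with k2 | ⟨d, k2⟩
      · exact absurd (P_inj (B := B) (by rw [← ht.c, ← k2, ht.rr])) b0
      rw [k2, hb] at k1
      by_cases d0 : d = 0
      · exact absurd (by rw [← ht.e, ← d0, ← k2, ht.rr]) (P_ne B b)
      · rw [k2, un d d0 (P_inj k1)]
    have f1 := hb b
    rw [kb] at f1
    have f2 : r (P B b) = s (P B b) := by rw [← hs.rr (r (P B b)), f1]
    exact a1 ((key hs (by rw [← f2, hr.rr, f2])).symm.trans (key hr (by rw [hr.rr, f2])))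
  have hγ : ∀ x, k.γ x = x := by_contra fun hγ => by
    obtain ⟨b, b0, kb⟩ := exists_fix hq hγ k.l.ne_zero
    exact nf b b0 kb
  have l1 : (k.l : K) ≠ 1 := by simpa using nf 1 one_ne_zero
  obtain rfl : B = 0 := by
    have := congrArg V8.d he
    rw [e, P_zero, actV_d, m1, mul_one, hγ, fv_d] at this
    by_contra B0
    exact l1 (by rw [← Nr_one' hq k.l.ne_zero, ← mul_sh, (mul_eq_right₀ B0).1 this, mul_one])
  refine ⟨rfl, r, hr.mem, hr.iso, ⟨1, by rw [one_smul, hr.c, P_zero]⟩, 1, RingEquiv.refl K,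
    by rw [← P_zero, hr.e]; simp [InC], one_ne_zero, fun c c0 => ⟨1, ?_⟩⟩
  have := Fact.mk (show Nat.Prime 7 by norm_num)
  obtain ⟨n, hn⟩ := mem_powers_of_prime_card (p := 7) (G := Kˣ) (by rw [Nat.card_units, card_K, hq]; rfl)
    (g := k.l) (g' := Units.mk0 c c0) fun e => l1 (congrArg Units.val e)
  obtain rfl : (k.l : K) ^ n = c := by simpa using congrArg Units.val hn
  rw [one_smul, one_mul]
  change r (P 0 _) = P 0 ((k.l : K) ^ n)⁻¹
  clear hn c0
  induction n with
  | zero => simpa using hr.fx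
  | succ n ih =>
    have e1 := hb ((k.l : K) ^ n)
    have e2 := hb ((k.l : K) ^ (n + 1))⁻¹
    rw [hγ, ← pow_succ', ih] at e1
    rw [hγ, show (k.l : K) * ((k.l : K) ^ (n + 1))⁻¹ = ((k.l : K) ^ n)⁻¹ by
      rw [pow_succ', mul_inv, mul_inv_cancel_left₀ k.l.ne_zero]] at e2
    rw [← e1, ← e2, hs.rr, hr.rr]

end CL.TD
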