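/-
Project TD: the isometry interchanging two points inverts the remaining points.
-/
import Cfsg.Agent.TD.Defs1

set_option autoImplicit false
set_option linter.unusedSectionVars false
set_option linter.unusedSimpArgs false

namespace CL.TD

open Cfsg CL.Fus CL.U5
open scoped commutatorElement

universe u

namespace L1R

variable {K : Type u} [Field K] [TF K]

/-- the general vector perpendicular to the two points -/
def mv (B A B' : K) : V8 K := ⟨0, A, B', -Tr (A * B), by simp, by simp⟩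

@[simp] theorem mv_b (B A B' : K) : (mv B A B').b = 0 := rfl
@[simp] theorem mv_c (B A B' : K) : (mv B A B').c = A := rfl
@[simp] theorem mv_d (B A B' : K) : (mv B A B').d = B' := rfl
@[simp] theorem mv_y (B A B' : K) : (mv B A B').y = -Tr (A * B) := rfl

theorem mv_add (B A A' C C' : K) : mv B (A + A') (C + C') = mv B A C + mv B A' C' := by
  ext <;> simp [add_mul, Tr_add]; ring

theorem mv_smul (B A C : K) {l : K} (h : sg l = l) : mv B (l * A) (l * C) = (⟨l, h⟩ : Fx K) • mv B A C := by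
  ext <;> simp [mul_assoc, Tr_smul h]

theorem om_mv (B A C : K) : om (mv B A C) (fv B 0) = 0 := by simp [om]

/-- the coefficient of `c0` -/
def nn (B a : K) : Fx K := ⟨Nr a + 2 * Tr (B * a), by simp [mem_Fx]⟩

theorem Mt_fv (B a : K) : Mt a (fv B 0) = fv B 0 + (mv B a 0 + mv B 0 (sh a)) + nn B a • cv := by
  ext <;> simp [nn, mul_comm a B]; ring

theorem lin {r : Au (V8 K)} (hr : Iso r) (f : V8 K → K) (fa : ∀ u v, f (u + v) = f u + f v)
    (fs : ∀ (l : Fx K) v, f (l • v) = l * f v) (B : K) :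
    (∃ r0 r1 r2 : K, ∀ x, f (r (mv B x 0)) = r0 * x + r1 * sg x + r2 * sg (sg x)) ∧
      ∃ r0 r1 r2 : K, ∀ x, f (r (mv B 0 x)) = r0 * x + r1 * sg x + r2 * sg (sg x) :=
  ⟨flin _ (fun x y => by rw [← fa, ← map_add, ← mv_add, add_zero]) fun l x h => by
      rw [← fs ⟨l, h⟩, ← hr.smul, ← mv_smul _ _ _ h, mul_zero],
    flin _ (fun x y => by rw [← fa, ← map_add, ← mv_add, add_zero]) fun l x h => by
      rw [← fs ⟨l, h⟩, ← hr.smul, ← mv_smul _ _ _ h, mul_zero]⟩

end L1R

open L1R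

variable (K : Type u) [Field K] [TF K]

theorem l1r (rx : RX K) (rf : RF K) : L1R K := by
  intro p _ _ L H q3 B far h2
  obtain ⟨r, hr, iso, l, hl, hc, he⟩ := rx p L H B far
  obtain ⟨s', hs⟩ := inC_iff.1 he
  have s0 : s' ≠ 0 := by
    rintro rfl
    rw [zero_smul, map_eq_zero_iff _ r.injective] at hs
    exact one_ne_zero (congrArg V8.b hs)
  have l0 : (l : K) ≠ 0 := fun e => hl (Subtype.ext e)
  have hb : ∀ A C, (r (mv B A C)).b = 0 := fun A C => by
    have := iso (mv B A C) (fv B 0)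
    rw [om_mv, hs, om_smul_r, om_cv, mul_eq_zero, neg_eq_zero] at this
    exact this.resolve_left fun e => s0 (Subtype.ext e)
  obtain ⟨⟨r0, r1, r2, hR⟩, u0, u1, u2, hU⟩ := lin iso V8.c add_c smul_c B
  obtain ⟨⟨t0, t1, t2, hT⟩, w0, w1, w2, hW⟩ := lin iso V8.d add_d smul_d B
  have key : ∀ a, a ≠ 0 → ∃ (ψ : K) (lam : Fx K), r (Mt a (fv B 0)) = lam • Mt ψ (fv B 0) ∧
      (lam : K) = nn B a * l ∧ (r (mv B a 0)).c + (r (mv B 0 (sh a))).c = lam * ψ ∧
      (r (mv B a 0)).d + (r (mv B 0 (sh a))).d = lam * sh ψ := fun a ha => by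
    have e : r (Mt a (fv B 0)) = s' • cv + (r (mv B a 0) + r (mv B 0 (sh a))) + nn B a • l • fv B 0 := by
      rw [Mt_fv, map_add, map_add, map_add, iso.smul, hs, hc]
    rcases far.2 _ ((far.1.map (H.mt a)).map hr) with k | ⟨ψ, lam, -, k⟩
    · obtain ⟨s, k⟩ := inC_iff.1 k
      have : r (Mt a (fv B 0)) = r ((s / s') • fv B 0) := by
        rw [iso.smul, hs, smul_smul, div_mul_cancel₀ _ s0, k]
      exact absurd (by simpa using congrArg V8.c (r.injective this)) ha
    · have k' := e.symm.trans k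
      have e1 := congrArg V8.b k'
      have e2 := congrArg V8.c k'
      have e3 := congrArg V8.d k'
      simp only [add_b, add_c, add_d, smul_b, smul_c, smul_d, cv_b, cv_c, cv_d, fv_b, fv_c, fv_d, Mt_b, Mt_c, Mt_d,
        hb, cr_zero_l] at e1 e2 e3
      exact ⟨ψ, lam, k, by linear_combination -e1, by linear_combination e2, by linear_combination e3 - B * e1⟩
  obtain ⟨b2, z0, z1, z2, hu⟩ := rf q3 (l : K)⁻¹ B r0 r1 r2 u0 u1 u2 t0 t1 t2 w0 w1 w2 (inv_ne_zero l0) (fun a => by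
    by_cases ha : a = 0
    · simp [ha]
    obtain ⟨ψ, lam, -, e1, e2, e3⟩ := key a ha
    rw [← hR, ← hU, ← hT, ← hW, e2, e3, sh_mul, show sh (lam : K) = lam * lam by simp [sh]]
    change _ = (nn B a : K) * _
    rw [inv_mul_eq_iff_eq_mul₀ l0]
    linear_combination (lam * sh ψ) * e1) (by
    rintro ⟨rfl, rfl, rfl, rfl, rfl, rfl⟩
    obtain ⟨A, hA⟩ := exists_Tr (x := (1 : K)) (s := 1) one_ne_zero sg_one
    have := iso (mv B A 0) (mv B 0 1)
    simp only [om, hb, hT, hW, mv_b, mv_c, mv_d, mv_y, hA, zero_mul, mul_zero, add_zero, sub_zero, Tr_zero,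
      zero_add] at this
    exact zero_ne_one this)
  have B0 : B = 0 := by
    by_cases h : (2 : K) = 0
    · exact h2 h
    · exact (mul_eq_zero.1 b2).resolve_left h
  subst B0 z0 z1 z2
  have fin : ∀ (v : K) (γ : K ≃+* K), v ≠ 0 → (∀ x, u0 * x + u1 * sg x + u2 * sg (sg x) = v * γ x) →
      (∀ a, γ (Nr a) = Nr a) → Swap K L := fun v γ hv e1 e2 => by
    refine ⟨r, hr, iso, ⟨l, hc⟩, v / l, γ, he, div_ne_zero hv l0, fun a ha => ?_⟩
    obtain ⟨ψ, lam, k, k1, k2, -⟩ := key a ha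
    refine ⟨lam, ?_⟩
    have n0 : Nr a ≠ 0 := by simpa using ha
    have k3 : sh a = Nr a * a⁻¹ := by rw [← mul_sh]; field_simp
    rw [hR, hU, e1, k3, map_mul, e2, k1] at k2
    have k4 : (nn 0 a : K) = Nr a := by simp [nn]
    rw [k4] at k2
    have : ψ = v / l * γ a⁻¹ := by
      refine mul_left_cancel₀ (mul_ne_zero n0 l0) ?_
      rw [← k2]; field_simp; ring
    rw [← this, k]
  refine ⟨rfl, ?_⟩
  rcases hu with ⟨h, rfl, rfl⟩ | ⟨rfl, h, rfl⟩ | ⟨rfl, rfl, h⟩
  · exact fin _ (RingEquiv.refl K) h (fun x => by simp) fun a => rfl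
  · exact fin _ TF.s h (fun x => by simp [sg]) fun a => sg_Nr a
  · exact fin _ ((TF.s : K ≃+* K).trans TF.s) h (fun x => by simp [sg]) fun a => by
      change sg (sg (Nr a)) = Nr a
      rw [sg_Nr, sg_Nr]

end CL.TD
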