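/-
Project TD: the opposite root group and the subgroup `SL₂(q³)`.
-/
import Cfsg.Agent.TD.Defs1

set_option autoImplicit false
set_option linter.unusedSimpArgs false

namespace CL.TD

open Cfsg CL.Fus CL.U5
open scoped commutatorElement

universe u

namespace L1Wx

variable {K : Type u} [Field K] [TF K]

theorem perp {u : V8 K} (h0 : om u cv = 0) (h : ∀ a, om u (Mt a (fv 0 0)) = 0) : u = 0 := by
  have hb : u.b = 0 := by simpa [om_cv] using h0
  have hy : u.y = 0 := by simpa [om, hb] using h 0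
  have k : ∀ a, Tr (u.c * sh a) = Tr (a * u.d) := fun a => by simpa [om, hb, hy, sub_eq_zero] using h a
  have k2 : ∀ a a', Tr (cr a a' * u.c) = 0 := fun a a' => by
    have := k (a + a')
    rw [sh_add, mul_add, mul_add, add_mul, Tr_add, Tr_add, Tr_add, k, k, mul_comm u.c] at this
    linear_combination this
  have hc : u.c = 0 := Tr_nondeg fun t => by
    obtain ⟨s, s', r, r', rfl⟩ := exists_cr t
    rw [add_mul, Tr_add, k2, k2, add_zero]
  exact v8_zero_iff.2 ⟨hb, hc, Tr_nondeg fun t => by rw [← k, hc, zero_mul, Tr_zero], hy⟩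

theorem iso_ext {g g' : Au (V8 K)} (h : Iso g) (h' : Iso g') (e0 : g cv = g' cv)
    (e : ∀ a, g (Mt a (fv 0 0)) = g' (Mt a (fv 0 0))) : g = g' := au_ext fun v => by
  have k : ∀ y, g y = g' y → om (g'⁻¹ (g v) - v) y = 0 := fun y hy => by
    rw [om_sub_l, ← h', au_apply_inv, ← hy, h, sub_self]
  rw [← sub_eq_zero.1 (perp (k _ e0) fun a => k _ (e a)), au_apply_inv, sub_eq_zero.1 (perp (k _ e0) fun a => k _ (e a))]

theorem rVi (v : V8 K) : (rV K)⁻¹ v = ⟨v.y, -v.d, v.c, -v.b, by simp, by simp⟩ := rfl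

theorem rVi_p {a : K} (ha : a ≠ 0) :
    (rV K)⁻¹ (Mt a (fv 0 0)) = (⟨Nr a, sg_Nr a⟩ : Fx K) • Mt (-a⁻¹) (fv 0 0) := by
  have h1 : sg a ≠ 0 := by simpa using ha
  have h2 : sg (sg a) ≠ 0 := by simpa using ha
  rw [rVi]
  ext <;> simp [sh, Nr] <;> field_simp

theorem nu (u : Kˣ) : Mt (u : K) * (rV K * Mt (u : K)⁻¹ * (rV K)⁻¹) * Mt (u : K) = actV (ha u) * rV K := au_ext fun v => by
  have h0 := u.ne_zero
  have h1 : sg (u : K) ≠ 0 := by simp
  have h2 : sg (sg (u : K)) ≠ 0 := by simp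
  ext <;> simp only [au_mul, Mt_b, Mt_c, Mt_d, Mt_y, rV_b, rV_c, rV_d, rV_y, rVi_b, rVi_c, rVi_d, rVi_y, actV_b, actV_c,
    actV_d, actV_y, ha_l, ha_m, ha_γ, Tr, sh, Nr, cr, sg_add, sg_mul, sg_neg, sg_inv, sg_pow, sg3, V8.hb, V8.hy] <;>
    field_simp <;> ring

end L1Wx

open L1Wx

variable (K : Type u) [Field K] [TF K]

theorem l1w : L1W K := by
  rintro L hL ⟨r, hr, ir, ⟨l0, e0⟩, k, γ, e1, k0, e2⟩ x
  have iV : Iso (rV K)⁻¹ := Iso.inv om_rV
  have iw : Iso ((rV K)⁻¹ * r) := iV.mul ir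
  have w0 : ((rV K)⁻¹ * r) cv = (-l0) • cv := by rw [au_mul, e0, rVi]; ext <;> simp
  have w1 : ∀ a, ∃ l : Fx K, ((rV K)⁻¹ * r) (Mt a (fv 0 0)) = l • Mt (-k⁻¹ * γ a) (fv 0 0) := fun a => by
    by_cases ha : a = 0
    · obtain ⟨s, hs⟩ := inC_iff.1 e1
      exact ⟨s, by rw [ha, Mt_zero, au_one, au_mul, hs, rVi]; ext <;> simp⟩
    · obtain ⟨l, hl⟩ := e2 a ha
      have : k * γ a⁻¹ ≠ 0 := by simp [k0, ha]
      refine ⟨l * ⟨_, sg_Nr (k * γ a⁻¹)⟩, ?_⟩
      rw [au_mul, hl, iV.smul, rVi_p this, smul_smul]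
      simp [mul_comm]
  have e : rV K * Mt x * (rV K)⁻¹ = r * Mt (γ.symm (-k * x)) * r⁻¹ → rV K * Mt x * (rV K)⁻¹ ∈ L := fun e =>
    e ▸ mul_mem (mul_mem hr (hL (Mt_mem _))) (inv_mem hr)
  have : Mt x * ((rV K)⁻¹ * r) = (rV K)⁻¹ * r * Mt (γ.symm (-k * x)) := by
    generalize (rV K)⁻¹ * r = w at iw w0 w1
    choose l hl using w1
    have hc : ∀ a, (l a : K) * l0 = -1 := fun a => by
      have := iw (Mt a (fv 0 0)) cv
      rw [hl, w0, om_smul_l, om_smul_r, om_cv, om_cv] at this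
      simpa using this
    refine iso_ext (Iso.mul (om_Mt x) iw) (iw.mul (om_Mt _)) ?_ fun a => ?_
    · rw [au_mul, au_mul, w0, Mt_cv, ← one_smul (Fx K) cv, Mt_cv, one_smul, w0]
    · rw [au_mul, au_mul, hl, Mt_smul, ← au_mul, ← au_mul (Mt _) (Mt _), ← Mt_add, ← Mt_add, hl, map_add,
        γ.apply_symm_apply, show l (γ.symm (-k * x) + a) = l a from Subtype.ext (mul_right_cancel₀
          (fun z => by simpa [z] using hc a) ((hc _).trans (hc a).symm))]
      congr 3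
      field_simp
      ring
  exact e (by rw [mul_assoc (rV K), eq_mul_inv_iff_mul_eq, mul_assoc, mul_assoc, this]; group)

theorem sl2 : SL2 K := by
  intro L hL h
  have k : ∀ u, actV (ha u) * rV K ∈ L := fun u =>
    nu u ▸ mul_mem (mul_mem (hL (Mt_mem _)) (h _)) (hL (Mt_mem _))
  have k1 : rV K ∈ L := by
    have e : actV (ha (1 : Kˣ)) = 1 := au_ext fun v => by ext <;> simp [au_one]
    simpa [e] using k 1
  exact ⟨k1, fun u => (mul_mem_cancel_right k1).1 (k u)⟩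

end CL.TD
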