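/-
Project TD: assembly of the linear part for `Q1 / Z`.
-/
import Cfsg.Agent.TD.Defs1

set_option autoImplicit false
set_option linter.unusedSectionVars false
set_option linter.unusedSimpArgs false

namespace CL.TD

open Cfsg CL.Fus CL.U5

universe u

variable {K : Type u} [Field K] [TF K]

theorem h1_of (sem : SEM K) (chn : CHN K) (tia : TIA K) (tic : TIC K) (ti2 : TI2 K) (sub : SUB K) (p : ℕ) [Fact p.Prime]
    [CharP K p] {L : Subgroup (Au (V8 K))} (hs : SylIn p (TM K) L) (hc : ∀ g ∈ L, Conf g)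
    (ht : ∀ v hv, actV (hb v hv) ∈ L) : H1 p L := by
  have h0 : H0 p L := ⟨hs, hc, fun g hg => sem g (hc g hg), chn p L hs⟩
  have pl : ∀ g ∈ L, ∀ a a', a ≠ 0 → g * Mt a' * g⁻¹ = Mt a → PL g := fun g hg a a' ha e => by
    by_cases h3 : (3 : K) = 0
    · exact tic p L h0 h3 g hg a a' ha e
    · refine tia g (hc g hg) (h0.sem g hg) ?_ a a' ha e
      by_cases h2 : (2 : K) = 0
      · exact .inl h2
      · exact .inr (by rw [show (6 : K) = 2 * 3 by norm_num]; exact mul_ne_zero h2 h3)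
  have ti : ∀ g ∈ L, ∀ a a', a ≠ 0 → g * Mt a' * g⁻¹ = Mt a → ∀ x, g * Mt x * g⁻¹ ∈ TM K :=
    fun g hg a a' ha e => ti2 p L h0 g hg (pl g hg a a' ha e) a a' ha e
  exact ⟨h0, fun g hg a a' ha e => ⟨pl g hg a a' ha e, ti g hg a a' ha e⟩, sub p L h0 ti, ht⟩

theorem ns_of (s1a : S1A K) (s1b : S1B K) (p : ℕ) [Fact p.Prime] [CharP K p] {L : Subgroup (Au (V8 K))} (h : H1 p L) :
    ∀ g ∈ L, PL g → ∀ x, g * Mt x * g⁻¹ ∈ TM K := by
  by_cases h2 : (2 : K) = 0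
  · exact fun g hg k => (s1a p L h g hg k).resolve_right fun e => e.1 h2
  · exact s1b p L h h2 fun g hg k => (s1a p L h g hg k).imp_right And.right

theorem l1s_of (sem : SEM K) (chn : CHN K) (tia : TIA K) (tic : TIC K) (ti2 : TI2 K) (sub : SUB K) (s1a : S1A K)
    (s1b : S1B K) : L1S K := by
  rintro p _ _ L hs hc ht g hg k _ ⟨x, rfl⟩
  exact ns_of s1a s1b p (h1_of sem chn tia tic ti2 sub p hs hc ht) g hg k x

theorem lin1_of (sem : SEM K) (chn : CHN K) (tia : TIA K) (tic : TIC K) (ti2 : TI2 K) (sub : SUB K) (s1a : S1A K)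
    (s1b : S1B K) (n02 : N02 K) (na : NA K) (far : FAR K) (l1r : L1R K) (l1q : L1Q K) (l1w : L1W K) (sl2 : SL2 K) :
    LIN1 K := by
  intro p _ _ L hs hc ht hne hstd
  have h1 := h1_of sem chn tia tic ti2 sub p hs hc ht
  have h2 : H2 p L := ⟨h1, ns_of s1a s1b p h1, hstd⟩
  have h3 : H3 p L := ⟨h2, fun u hu hb => by
    have c0 : u.c = 0 := by
      by_cases e : (2 : K) = 0
      · exact (n02 p L h1).2 e u hu hb
      by_contra hA
      obtain ⟨x, hx⟩ := cr_surj e hA (-u.d)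
      refine na p L h2 e u.c ⟨(Mt x u).y, (Mt x u).hy⟩ hA ?_
      convert hu.map (h1.mt x) using 1
      ext <;> simp [hb, hx]
    exact ⟨hb, c0, (n02 p L h1).1 u hu hb c0⟩⟩
  obtain ⟨B, f1, f2, f3⟩ := far p L h3 hne
  obtain ⟨rfl, sw⟩ : B = 0 ∧ Swap K L := by
    by_cases q : TF.q K = 2
    · exact l1q p L h3 q B ⟨f1, f2⟩
    · have q3 : 3 ≤ TF.q K := by have := two_le_q (K := K); omega
      exact l1r p L h3 q3 B ⟨f1, f2⟩ fun e => f3 e q3
  obtain ⟨a1, a2⟩ := sl2 L hs.1 (l1w L hs.1 sw)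
  refine ⟨a1, a2, fun g hg => ?_⟩
  rcases f2 _ ((ov_cv L one_ne_zero).map hg) with k | ⟨a, l, -, e⟩
  · exact .inl ((h1.sem g hg).PL_of one_ne_zero k)
  · refine .inr ⟨Mt (-a), Mt_mem _, (h1.sem _ (mul_mem (mul_mem a1 (h1.mt _)) hg)).PL_of one_ne_zero ?_⟩
    rw [au_mul, au_mul, e, Mt_smul, ← au_mul, ← Mt_add, neg_add_cancel, Mt_zero, au_one]
    simp [InC]

end CL.TD
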