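/-
Project TD, part LIN2: a group of rank-preserving additive maps of `K²` containing the transvections.
-/
import Cfsg.Agent.TD.Fld

set_option autoImplicit false
set_option linter.unusedSectionVars false

namespace CL.TD

open Cfsg CL.Fus CL.U5

universe u

variable {K : Type u} [Field K] [TF K]

namespace Lin2y

/-- the maps trivial on the line `{(0, c)}` and on the quotient -/
def StP (g : Au (V2 K)) : Prop := (∀ v, (g v).1 = v.1) ∧ ∀ c, g (0, c) = (0, c)

theorem StP_apply {g : Au (V2 K)} (hg : StP g) (v : V2 K) : ∃ w : K, g v = v + (0, w) :=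
  ⟨(g v).2 - v.2, Prod.ext (by simpa using hg.1 v) (by simp)⟩

theorem Tw_StP (k : K) : StP (Tw k) := ⟨fun _ => rfl, fun c => by simp [Tw_apply]⟩

theorem conj_StP {g t : Au (V2 K)} (hg : PW g) (ht : StP t) : StP (g * t * g⁻¹) := by
  refine ⟨fun v => ?_, fun c => ?_⟩
  · obtain ⟨w, e⟩ := StP_apply ht (g⁻¹ v)
    rw [au_mul, au_mul, e, map_add, au_apply_inv, Prod.fst_add, hg, add_zero]
  · have h : (g⁻¹ (0, c)).1 = 0 :=
      inv_mem_of (W := {v : V2 K | v.1 = 0}) (fun v hv => by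
        have : v = (0, v.2) := Prod.ext hv rfl
        rw [this]; exact hg _) rfl
    have e : g⁻¹ (0, c) = (0, (g⁻¹ (0, c)).2) := Prod.ext h rfl
    rw [au_mul, au_mul, e, ht.2, ← e, au_apply_inv]

theorem dep_fst (a : K) : Dep (a, (0 : K)) := by simp [Dep]

theorem dep_snd (c : K) : Dep ((0 : K), c) := by simp [Dep]

theorem mem_TW_of {r : Au (V2 K)} (hs : StP r) (hr : Rnk r) : r ∈ TW K := by
  have e0 : ∀ a : K, r (a, 0) = (a, (r (a, 0)).2) := fun a => Prod.ext (hs.1 _) rfl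
  obtain ⟨k, hk, e⟩ := scal (fun a : K => (r (a, 0)).2)
    (fun x y => by
      have : ((x + y, 0) : V2 K) = (x, 0) + (y, 0) := by simp
      rw [this, map_add, Prod.snd_add])
    (fun x => by rw [← e0]; exact hr _ (dep_fst x))
  refine mem_TW.2 ⟨k, hk, au_ext fun v => ?_⟩
  have : v = (v.1, 0) + (0, v.2) := by simp
  conv_rhs => rw [this, map_add, hs.2, e0, e]
  rw [Tw_apply]
  ext <;> simp [add_comm]

theorem opp {L : Subgroup (Au (V2 K))} (hT : TW K ≤ L) (l : ∀ g ∈ L, Rnk g) {g : Au (V2 K)} (hg : g ∈ L)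
    (h : ∀ k, (g (0, k)).2 = 0) (k : K) (hk : sg k = k) : ∃ r ∈ L, ∀ v, r v = (v.1 + k * v.2, v.2) := by
  have e0 : ∀ k, g (0, k) = ((g (0, k)).1, 0) := fun k => Prod.ext rfl (h k)
  have sj : Function.Surjective fun k : K => (g (0, k)).1 := Finite.injective_iff_surjective.1 fun a b e =>
    congrArg Prod.snd (g.injective (a₁ := (0, a)) (a₂ := (0, b)) (Prod.ext e ((h a).trans (h b).symm)))
  have m : ∀ s : K, sg s = s → g * Tw s * g⁻¹ ∈ L := fun s hs =>
    mul_mem (mul_mem hg (hT (mem_TW.2 ⟨s, hs, rfl⟩))) (inv_mem hg)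
  have r0 : ∀ (s : K) (v : V2 K), (g * Tw s * g⁻¹ : Au (V2 K)) v = v + ((g (0, s * (g⁻¹ v).1)).1, 0) := fun s v => by
    have : Tw s (g⁻¹ v) = g⁻¹ v + (0, s * (g⁻¹ v).1) := by rw [Tw_apply]; ext <;> simp
    rw [au_mul, au_mul, this, map_add, au_apply_inv, ← e0]
  have r1 : ∀ s b : K, (g * Tw s * g⁻¹ : Au (V2 K)) (b, 0) = (b, 0) := fun s b => by
    obtain ⟨y, rfl⟩ := sj b
    dsimp only
    rw [← e0, au_mul, au_mul, au_inv_apply, (Tw_StP s).2]
  have key : ∀ s : {s : K // sg s = s}, ∃ t : {s : K // sg s = s},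
      ∀ v, (g * Tw s.1 * g⁻¹ : Au (V2 K)) v = (v.1 + t.1 * v.2, v.2) := fun s => by
    have r3 := fun c : K => congrArg Prod.snd (r0 s.1 (0, c))
    have r4 := r1 s.1
    have r5 := l _ (m s.1 s.2)
    generalize g * Tw s.1 * g⁻¹ = r at r3 r4 r5
    have e1 : ∀ c : K, r (0, c) = ((r (0, c)).1, c) := fun c => Prod.ext rfl (by simpa using r3 c)
    obtain ⟨t, ht, e⟩ := scal (fun c : K => (r (0, c)).1)
      (fun x y => by
        have : ((0, x + y) : V2 K) = (0, x) + (0, y) := by simp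
        rw [this, map_add, Prod.fst_add])
      (fun x => Dep.swap (by rw [← e1]; exact r5 _ (dep_snd x)))
    refine ⟨⟨t, ht⟩, fun v => ?_⟩
    have : v = (v.1, 0) + (0, v.2) := by simp
    conv_lhs => rw [this, map_add, r4, e1, e]
    ext <;> simp
  choose lam hl using key
  have inj : Function.Injective lam := fun a b e => by
    have e1 : g * Tw a.1 * g⁻¹ = g * Tw b.1 * g⁻¹ := au_ext fun v => by rw [hl, hl, e]
    have e2 : Tw a.1 = Tw b.1 := mul_left_cancel (mul_right_cancel e1)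
    have e3 : (Tw a.1 ((1 : K), (0 : K))).2 = (Tw b.1 ((1 : K), (0 : K))).2 := by rw [e2]
    exact Subtype.ext (by simpa [Tw_apply] using e3)
  obtain ⟨s, hs⟩ := Finite.injective_iff_surjective.1 inj ⟨k, hk⟩
  exact ⟨_, m s.1 s.2, fun v => by rw [hl, hs]⟩

end Lin2y

open Lin2y in
theorem lin2 (h : LIN2A K) : LIN2 K := by
  intro L hT l
  refine ⟨fun g hg pw t ht => ?_, fun ⟨g0, hg0, n0⟩ => ?_⟩
  · refine mem_TW_of ?_ (l _ (L.mul_mem (L.mul_mem hg (hT ht)) (L.inv_mem hg)))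
    obtain ⟨k, -, rfl⟩ := mem_TW.1 ht
    exact conj_StP pw (Tw_StP k)
  obtain ⟨t0, ht0, h0⟩ := h _ (l _ hg0) n0
  have op := opp hT l (mul_mem (hT ht0) hg0) h0
  have hn : ∀ k : K, sg k = k → k ≠ 0 → ∃ n ∈ L, ∀ v, n v = (-k * v.2, v.1 / k) := fun k fk hk => by
    obtain ⟨r, hr, e⟩ := op (-k) (by rw [sg_neg, fk])
    refine ⟨r * Tw (1 / k) * r,
      mul_mem (mul_mem hr (hT (mem_TW.2 ⟨_, by rw [sg_div, sg_one, fk], rfl⟩))) hr, fun v => ?_⟩
    rw [au_mul, au_mul, e, e, Tw_apply]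
    ext <;> simp only <;> field_simp <;> ring
  have hr : rW K ∈ L := by
    obtain ⟨n, h, e⟩ := hn 1 sg_one one_ne_zero
    rwa [show rW K = n from au_ext fun v => by rw [e, rW_apply]; simp]
  refine ⟨hr, fun u hu => ?_, fun g hg => ?_⟩
  · obtain ⟨n, h, e⟩ := hn (u : K)⁻¹ (by rw [sg_inv, hu]) (inv_ne_zero u.ne_zero)
    refine (mul_mem_cancel_right hr).1 ?_
    rwa [show actW (hb u hu) * rW K = n from au_ext fun v => by
      rw [e, au_mul, rW_apply, actW_apply, hb_l, hb_m, hb_γ, hb_γ]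
      have := u.ne_zero
      ext <;> simp only <;> field_simp]
  · by_cases pw : PW g
    · exact Or.inl pw
    obtain ⟨t, ht, h⟩ := h _ (l _ hg) pw
    exact Or.inr ⟨t, ht, fun c => by rw [mul_assoc, au_mul, rW_apply, h, neg_zero]⟩

end CL.TD
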