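/-
Project TD: the image of the line `{(0, c)}` under a rank preserving map is again such a line.
-/
import Cfsg.Agent.TD.Fld

set_option autoImplicit false
set_option linter.unusedSectionVars false

namespace CL.TD

open Cfsg CL.Fus CL.U5

universe u

variable {K : Type u} [Field K] [TF K]

namespace Lin2Ax

theorem fix1 {u f h : K} (hu : u ≠ 0) (h0 : h ≠ 0) (d1 : Dep (f, h)) (d2 : Dep (f + u, h)) :
    sg (f / u) = f / u ∧ sg (h / u) = h / u := by
  have su : sg u ≠ 0 := by simpa using hu
  have sh : sg h ≠ 0 := by simpa using h0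
  simp only [Dep, sg_add] at d1 d2
  have e : u * sg h = sg u * h := by linear_combination d2 - d1
  constructor
  · rw [sg_div, div_eq_div_iff su hu]
    apply mul_right_cancel₀ h0
    linear_combination f * e - u * d1
  · rw [sg_div, div_eq_div_iff su hu]; linear_combination e

theorem key (g : Au (V2 K)) (hg : ∀ c, Dep (g (0, c))) {c0 : K} (hu : (g (0, c0)).1 ≠ 0)
    (h0 : (g (0, c0)).2 = 0) (c1 : K) : (g (0, c1)).2 = 0 := by
  by_contra h1
  have add : ∀ c c', g (0, c + c') = g (0, c) + g (0, c') := fun c c' => by rw [← map_add]; simp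
  have A : ∀ c, (g (0, c)).2 ≠ 0 → sg ((g (0, c)).1 / (g (0, c0)).1) = (g (0, c)).1 / (g (0, c0)).1 ∧
      sg ((g (0, c)).2 / (g (0, c0)).1) = (g (0, c)).2 / (g (0, c0)).1 := fun c hc => by
    refine fix1 hu hc (hg c) ?_
    have := hg (c + c0)
    rw [add] at this
    simpa [Dep, h0] using this
  have B : ∀ c, sg ((g (0, c)).1 / (g (0, c0)).1) = (g (0, c)).1 / (g (0, c0)).1 ∧
      sg ((g (0, c)).2 / (g (0, c0)).1) = (g (0, c)).2 / (g (0, c0)).1 := fun c => by
    by_cases hc : (g (0, c)).2 = 0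
    · refine ⟨?_, by simp [hc]⟩
      have k := (A (c + c1) (by rw [add]; simpa [hc] using h1)).1
      rw [add, Prod.fst_add, add_div, sg_add, (A c1 h1).1] at k
      exact add_right_cancel k
    · exact A c hc
  have q2 := two_le_q (K := K)
  have := Nat.card_le_card_of_injective
    (fun c : K => ((⟨_, (B c).1⟩, ⟨_, (B c).2⟩) : {x : K // sg x = x} × {x : K // sg x = x})) fun s t e => by
      have e1 := (div_left_inj' hu).1 (congrArg (fun x => x.1.1) e)
      have e2 := (div_left_inj' hu).1 (congrArg (fun x => x.2.1) e)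
      exact (Prod.ext_iff.1 (g.injective (Prod.ext e1 e2))).2
  rw [Nat.card_prod, card_fix, card_K, pow_succ, pow_two] at this
  have := Nat.mul_le_mul_left (TF.q K * TF.q K) q2
  have : 0 < TF.q K * TF.q K := Nat.mul_pos (by omega) (by omega)
  omega

end Lin2Ax

theorem lin2a : LIN2A K := by
  intro g hg hP
  obtain ⟨c0, hu⟩ := not_forall.1 hP
  have d : ∀ c, Dep (g (0, c)) := fun c => hg _ (dep_iff.2 (.inl rfl))
  obtain ⟨k, k1, k2⟩ := (dep_iff.1 (d c0)).resolve_left hu
  refine ⟨Tw (-k), ⟨-k, by simp [k1], rfl⟩, Lin2Ax.key (Tw (-k) * g) (fun c => ?_) (c0 := c0) hu ?_⟩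
  · have := d c
    simp only [Dep, au_mul, Tw_apply, sg_add, sg_mul, sg_neg, k1] at this ⊢
    linear_combination this
  · rw [au_mul, Tw_apply, k2]; ring

end CL.TD
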