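/-
Project TD: the group `U K` inside the Chevalley group of type `D₄`.
-/
import Cfsg.Agent.TD.Defs
import Cfsg.Agent.Chev.TwRealF4
import Cfsg.Agent.Chev.InvTab

set_option autoImplicit false

namespace CL.TD.Mod

open Cfsg Cfsg.Lie CL.Chev CL.Chev.Cert

universe u

/-- the Chevalley group of type `D₄` -/
abbrev Ga (K : Type u) [Field K] : Type u := (realD4.S K).grp

variable {K : Type u} [Field K]

/-- root elements -/
noncomputable def X (r : ℕ) (t : K) : Ga K := realD4.xG r t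

theorem X_add (r : ℕ) (t u : K) : X r (t + u) = X r t * X r u := by
  by_cases h : r < chevD4.nroots
  · simp only [X, realD4.xG_of_lt h, StSys.x_add]
  · exact Subtype.ext (by simp [X, Real.xN, h])

theorem X_zero (r : ℕ) : X r (0 : K) = 1 := by simpa using X_add r (0 : K) 0

section Swap
variable {r s k : ℕ}

theorem sw0 (h : r < auxD4.n ∧ s < auxD4.n ∧ s ≠ r ∧ s ≠ auxD4.ng r ∧ auxD4.aTerms r s = []) (t u : K) (g : Ga K) :
    X s u * (X r t * g) = X r t * (X s u * g) := by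
  simp only [← mul_assoc, X, tabD4.comm_xG realD4 h, List.map_nil, Real.wordG_nil, mul_one]

theorem swp (h : r < auxD4.n ∧ s < auxD4.n ∧ s ≠ r ∧ s ≠ auxD4.ng r ∧ auxD4.aTerms r s = [(k, 1, 1, 1)]) (t u : K)
    (g : Ga K) : X s u * (X r t * g) = X r t * (X s u * (X k (-(t * u)) * g)) := by
  simp [← mul_assoc, X, tabD4.comm_xG realD4 h]

theorem swm (h : r < auxD4.n ∧ s < auxD4.n ∧ s ≠ r ∧ s ≠ auxD4.ng r ∧ auxD4.aTerms r s = [(k, -1, 1, 1)]) (t u : K)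
    (g : Ga K) : X s u * (X r t * g) = X r t * (X s u * (X k (t * u) * g)) := by
  simp [← mul_assoc, X, tabD4.comm_xG realD4 h]

variable (t u : K) (g : Ga K)

theorem mg : X r t * (X r u * g) = X r (t + u) * g := by rw [X_add, mul_assoc]

theorem s19_14 : X 19 u * (X 14 t * g) = X 14 t * (X 19 u * g) := sw0 (by decide +kernel) t u g
theorem s16_14 : X 16 u * (X 14 t * g) = X 14 t * (X 16 u * g) := sw0 (by decide +kernel) t u g
theorem s15_14 : X 15 u * (X 14 t * g) = X 14 t * (X 15 u * g) := sw0 (by decide +kernel) t u g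
theorem s17_14 : X 17 u * (X 14 t * g) = X 14 t * (X 17 u * g) := sw0 (by decide +kernel) t u g
theorem s20_14 : X 20 u * (X 14 t * g) = X 14 t * (X 20 u * g) := sw0 (by decide +kernel) t u g
theorem s21_14 : X 21 u * (X 14 t * g) = X 14 t * (X 21 u * g) := sw0 (by decide +kernel) t u g
theorem s22_14 : X 22 u * (X 14 t * g) = X 14 t * (X 22 u * (X 23 (-(t * u)) * g)) := swp (by decide +kernel) t u g
theorem s23_14 : X 23 u * (X 14 t * g) = X 14 t * (X 23 u * g) := sw0 (by decide +kernel) t u g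
theorem s18_14 : X 18 u * (X 14 t * g) = X 14 t * (X 18 u * (X 19 (-(t * u)) * g)) := swp (by decide +kernel) t u g
theorem s13_14 : X 13 u * (X 14 t * g) = X 14 t * (X 13 u * (X 16 (t * u) * g)) := swm (by decide +kernel) t u g
theorem s12_14 : X 12 u * (X 14 t * g) = X 14 t * (X 12 u * (X 15 (t * u) * g)) := swm (by decide +kernel) t u g
theorem s16_19 : X 16 u * (X 19 t * g) = X 19 t * (X 16 u * g) := sw0 (by decide +kernel) t u g
theorem s15_19 : X 15 u * (X 19 t * g) = X 19 t * (X 15 u * g) := sw0 (by decide +kernel) t u g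
theorem s17_19 : X 17 u * (X 19 t * g) = X 19 t * (X 17 u * (X 23 (t * u) * g)) := swm (by decide +kernel) t u g
theorem s20_19 : X 20 u * (X 19 t * g) = X 19 t * (X 20 u * g) := sw0 (by decide +kernel) t u g
theorem s21_19 : X 21 u * (X 19 t * g) = X 19 t * (X 21 u * g) := sw0 (by decide +kernel) t u g
theorem s22_19 : X 22 u * (X 19 t * g) = X 19 t * (X 22 u * g) := sw0 (by decide +kernel) t u g
theorem s23_19 : X 23 u * (X 19 t * g) = X 19 t * (X 23 u * g) := sw0 (by decide +kernel) t u g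
theorem s18_19 : X 18 u * (X 19 t * g) = X 19 t * (X 18 u * g) := sw0 (by decide +kernel) t u g
theorem s13_19 : X 13 u * (X 19 t * g) = X 19 t * (X 13 u * (X 21 (t * u) * g)) := swm (by decide +kernel) t u g
theorem s12_19 : X 12 u * (X 19 t * g) = X 19 t * (X 12 u * (X 20 (t * u) * g)) := swm (by decide +kernel) t u g
theorem s15_16 : X 15 u * (X 16 t * g) = X 16 t * (X 15 u * g) := sw0 (by decide +kernel) t u g
theorem s17_16 : X 17 u * (X 16 t * g) = X 16 t * (X 17 u * g) := sw0 (by decide +kernel) t u g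
theorem s20_16 : X 20 u * (X 16 t * g) = X 16 t * (X 20 u * (X 23 (t * u) * g)) := swm (by decide +kernel) t u g
theorem s21_16 : X 21 u * (X 16 t * g) = X 16 t * (X 21 u * g) := sw0 (by decide +kernel) t u g
theorem s22_16 : X 22 u * (X 16 t * g) = X 16 t * (X 22 u * g) := sw0 (by decide +kernel) t u g
theorem s23_16 : X 23 u * (X 16 t * g) = X 16 t * (X 23 u * g) := sw0 (by decide +kernel) t u g
theorem s18_16 : X 18 u * (X 16 t * g) = X 16 t * (X 18 u * (X 21 (-(t * u)) * g)) := swp (by decide +kernel) t u g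
theorem s13_16 : X 13 u * (X 16 t * g) = X 16 t * (X 13 u * g) := sw0 (by decide +kernel) t u g
theorem s12_16 : X 12 u * (X 16 t * g) = X 16 t * (X 12 u * (X 17 (t * u) * g)) := swm (by decide +kernel) t u g
theorem s17_15 : X 17 u * (X 15 t * g) = X 15 t * (X 17 u * g) := sw0 (by decide +kernel) t u g
theorem s20_15 : X 20 u * (X 15 t * g) = X 15 t * (X 20 u * g) := sw0 (by decide +kernel) t u g
theorem s21_15 : X 21 u * (X 15 t * g) = X 15 t * (X 21 u * (X 23 (t * u) * g)) := swm (by decide +kernel) t u g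
theorem s22_15 : X 22 u * (X 15 t * g) = X 15 t * (X 22 u * g) := sw0 (by decide +kernel) t u g
theorem s23_15 : X 23 u * (X 15 t * g) = X 15 t * (X 23 u * g) := sw0 (by decide +kernel) t u g
theorem s18_15 : X 18 u * (X 15 t * g) = X 15 t * (X 18 u * (X 20 (-(t * u)) * g)) := swp (by decide +kernel) t u g
theorem s13_15 : X 13 u * (X 15 t * g) = X 15 t * (X 13 u * (X 17 (t * u) * g)) := swm (by decide +kernel) t u g
theorem s12_15 : X 12 u * (X 15 t * g) = X 15 t * (X 12 u * g) := sw0 (by decide +kernel) t u g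
theorem s20_17 : X 20 u * (X 17 t * g) = X 17 t * (X 20 u * g) := sw0 (by decide +kernel) t u g
theorem s21_17 : X 21 u * (X 17 t * g) = X 17 t * (X 21 u * g) := sw0 (by decide +kernel) t u g
theorem s22_17 : X 22 u * (X 17 t * g) = X 17 t * (X 22 u * g) := sw0 (by decide +kernel) t u g
theorem s23_17 : X 23 u * (X 17 t * g) = X 17 t * (X 23 u * g) := sw0 (by decide +kernel) t u g
theorem s18_17 : X 18 u * (X 17 t * g) = X 17 t * (X 18 u * (X 22 (-(t * u)) * g)) := swp (by decide +kernel) t u g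
theorem s13_17 : X 13 u * (X 17 t * g) = X 17 t * (X 13 u * g) := sw0 (by decide +kernel) t u g
theorem s12_17 : X 12 u * (X 17 t * g) = X 17 t * (X 12 u * g) := sw0 (by decide +kernel) t u g
theorem s21_20 : X 21 u * (X 20 t * g) = X 20 t * (X 21 u * g) := sw0 (by decide +kernel) t u g
theorem s22_20 : X 22 u * (X 20 t * g) = X 20 t * (X 22 u * g) := sw0 (by decide +kernel) t u g
theorem s23_20 : X 23 u * (X 20 t * g) = X 20 t * (X 23 u * g) := sw0 (by decide +kernel) t u g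
theorem s18_20 : X 18 u * (X 20 t * g) = X 20 t * (X 18 u * g) := sw0 (by decide +kernel) t u g
theorem s13_20 : X 13 u * (X 20 t * g) = X 20 t * (X 13 u * (X 22 (t * u) * g)) := swm (by decide +kernel) t u g
theorem s12_20 : X 12 u * (X 20 t * g) = X 20 t * (X 12 u * g) := sw0 (by decide +kernel) t u g
theorem s22_21 : X 22 u * (X 21 t * g) = X 21 t * (X 22 u * g) := sw0 (by decide +kernel) t u g
theorem s23_21 : X 23 u * (X 21 t * g) = X 21 t * (X 23 u * g) := sw0 (by decide +kernel) t u g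
theorem s18_21 : X 18 u * (X 21 t * g) = X 21 t * (X 18 u * g) := sw0 (by decide +kernel) t u g
theorem s13_21 : X 13 u * (X 21 t * g) = X 21 t * (X 13 u * g) := sw0 (by decide +kernel) t u g
theorem s12_21 : X 12 u * (X 21 t * g) = X 21 t * (X 12 u * (X 22 (t * u) * g)) := swm (by decide +kernel) t u g
theorem s23_22 : X 23 u * (X 22 t * g) = X 22 t * (X 23 u * g) := sw0 (by decide +kernel) t u g
theorem s18_22 : X 18 u * (X 22 t * g) = X 22 t * (X 18 u * g) := sw0 (by decide +kernel) t u g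
theorem s13_22 : X 13 u * (X 22 t * g) = X 22 t * (X 13 u * g) := sw0 (by decide +kernel) t u g
theorem s12_22 : X 12 u * (X 22 t * g) = X 22 t * (X 12 u * g) := sw0 (by decide +kernel) t u g
theorem s18_23 : X 18 u * (X 23 t * g) = X 23 t * (X 18 u * g) := sw0 (by decide +kernel) t u g
theorem s13_23 : X 13 u * (X 23 t * g) = X 23 t * (X 13 u * g) := sw0 (by decide +kernel) t u g
theorem s12_23 : X 12 u * (X 23 t * g) = X 23 t * (X 12 u * g) := sw0 (by decide +kernel) t u g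
theorem s13_18 : X 13 u * (X 18 t * g) = X 18 t * (X 13 u * g) := sw0 (by decide +kernel) t u g
theorem s12_18 : X 12 u * (X 18 t * g) = X 18 t * (X 12 u * g) := sw0 (by decide +kernel) t u g
theorem s12_13 : X 12 u * (X 13 t * g) = X 13 t * (X 12 u * g) := sw0 (by decide +kernel) t u g

end Swap

/-- the normal form -/
noncomputable def W (b c0 c1 c2 d0 d1 d2 y z a0 a1 a2 : K) (g : Ga K) : Ga K :=
  X 14 b * (X 19 c0 * (X 16 c1 * (X 15 c2 * (X 17 d0 * (X 20 d1 * (X 21 d2 * (X 22 y * (X 23 z * (X 18 a0 * (X 13 a1 *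
    (X 12 a2 * g)))))))))))

theorem W_congr {b c0 c1 c2 d0 d1 d2 y z a0 a1 a2 b' c0' c1' c2' d0' d1' d2' y' z' a0' a1' a2' : K} {g : Ga K}
    (e : b = b' ∧ c0 = c0' ∧ c1 = c1' ∧ c2 = c2' ∧ d0 = d0' ∧ d1 = d1' ∧ d2 = d2' ∧ y = y' ∧ z = z' ∧ a0 = a0' ∧ a1 = a1' ∧
      a2 = a2') : W b c0 c1 c2 d0 d1 d2 y z a0 a1 a2 g = W b' c0' c1' c2' d0' d1' d2' y' z' a0' a1' a2' g := by
  obtain ⟨rfl, rfl, rfl, rfl, rfl, rfl, rfl, rfl, rfl, rfl, rfl, rfl⟩ := e; rfl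

theorem W_mul (b c0 c1 c2 d0 d1 d2 y z a0 a1 a2 b' c0' c1' c2' d0' d1' d2' y' z' a0' a1' a2' : K) (g : Ga K) :
    W b c0 c1 c2 d0 d1 d2 y z a0 a1 a2 (W b' c0' c1' c2' d0' d1' d2' y' z' a0' a1' a2' g) =
    W (b + b') (c0 + c0' - b' * a0) (c1 + c1' + b' * a1) (c2 + c2' + b' * a2)
      (d0 + d0' + (c1' * a2 + c2' * a1) + b' * (a1 * a2)) (d1 + d1' - (c2' * a0 - c0' * a2) - b' * (a2 * a0))
      (d2 + d2' - (c1' * a0 - c0' * a1) - b' * (a0 * a1))
      (y + y' - (d0' * a0 - d1' * a1 - d2' * a2) - (-c0' * (a1 * a2) + c1' * (a2 * a0) + c2' * (a0 * a1)) - b' * (a0 * a1 * a2))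
      (z + z' - b' ^ 2 * (a0 * a1 * a2) - (c1' * c2' * a0 - c2' * c0' * a1 - c0' * c1' * a2) -
        b' * (-c0' * (a1 * a2) + c1' * (a2 * a0) + c2' * (a0 * a1)) - b' * y -
        ((-c0' + b' * a0) * d0 - (c1' + b' * a1) * d1 - (c2' + b' * a2) * d2))
      (a0 + a0') (a1 + a1') (a2 + a2') g := by
  simp only [W, mg, s19_14, s16_14, s15_14, s17_14, s20_14, s21_14, s22_14, s23_14, s18_14, s13_14, s12_14, s16_19, s15_19, s17_19,
    s20_19, s21_19, s22_19, s23_19, s18_19, s13_19, s12_19, s15_16, s17_16, s20_16, s21_16, s22_16, s23_16, s18_16,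
    s13_16, s12_16, s17_15, s20_15, s21_15, s22_15, s23_15, s18_15, s13_15, s12_15, s20_17, s21_17, s22_17, s23_17,
    s18_17, s13_17, s12_17, s21_20, s22_20, s23_20, s18_20, s13_20, s12_20, s22_21, s23_21, s18_21, s13_21, s12_21,
    s23_22, s18_22, s13_22, s12_22, s18_23, s13_23, s12_23, s13_18, s12_18, s12_13]
  refine W_congr ⟨?_, ?_, ?_, ?_, ?_, ?_, ?_, ?_, ?_, ?_, ?_, ?_⟩ <;> ring

theorem W_assoc (b c0 c1 c2 d0 d1 d2 y z a0 a1 a2 : K) (g g' : Ga K) :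
    W b c0 c1 c2 d0 d1 d2 y z a0 a1 a2 g * g' = W b c0 c1 c2 d0 d1 d2 y z a0 a1 a2 (g * g') := by
  simp only [W, mul_assoc]

/-- the positive roots -/
def rts : List (Fin chevD4.nroots) := [⟨14, by decide⟩, ⟨19, by decide⟩, ⟨16, by decide⟩, ⟨15, by decide⟩, ⟨17, by decide⟩,
  ⟨20, by decide⟩, ⟨21, by decide⟩, ⟨22, by decide⟩, ⟨23, by decide⟩, ⟨18, by decide⟩, ⟨13, by decide⟩, ⟨12, by decide⟩]

theorem rts_pos : ∀ r ∈ rts, realD4.R.Pos r := fun r hr => (tabD4.pos_iff' realD4 r).1 (by revert r; decide +kernel)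

theorem W_eq (b c0 c1 c2 d0 d1 d2 y z a0 a1 a2 : K) : W b c0 c1 c2 d0 d1 d2 y z a0 a1 a2 1 =
    (realD4.S K).res.prodL rts fun r => [a2, a1, b, c2, c1, d0, a0, c0, d1, d2, y, z].getD (r - 12) 0 := by
  simp only [W, rts, StSys.prodL_cons, StSys.prodL_nil, ← realD4.xG_coe]
  rfl

theorem W_mem (b c0 c1 c2 d0 d1 d2 y z a0 a1 a2 : K) : W b c0 c1 c2 d0 d1 d2 y z a0 a1 a2 1 ∈ (realD4.S K).res.U :=
  W_eq b c0 c1 c2 d0 d1 d2 y z a0 a1 a2 ▸ StSys.prodL_mem_XS _ rts_pos _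

theorem W_inj {b c0 c1 c2 d0 d1 d2 y z a0 a1 a2 b' c0' c1' c2' d0' d1' d2' y' z' a0' a1' a2' : K}
    (e : W b c0 c1 c2 d0 d1 d2 y z a0 a1 a2 1 = W b' c0' c1' c2' d0' d1' d2' y' z' a0' a1' a2' 1) :
    b = b' ∧ c0 = c0' ∧ d0 = d0' ∧ y = y' ∧ z = z' ∧ a0 = a0' := by
  rw [W_eq, W_eq] at e
  have := (realD4.faithful K).res.uFaithful.prodL_inj (by decide) rts_pos e
  exact ⟨this ⟨14, by decide⟩ (by decide), this ⟨19, by decide⟩ (by decide), this ⟨17, by decide⟩ (by decide),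
    this ⟨22, by decide⟩ (by decide), this ⟨23, by decide⟩ (by decide), this ⟨18, by decide⟩ (by decide)⟩

theorem key {φ : Ga K →* Ga K} {a b a' b' : Ga K} {k k' : ℕ} {v w v' w' : K} (e : a * (b * 1) = b * (a * (X k w * 1)))
    (e' : a' * (b' * 1) = b' * (a' * (X k' w' * 1))) (ha : φ a = a') (hb : φ b = b') (hv : w = v) (hv' : w' = v') :
    φ (X k v) = X k' v' := by
  have := congrArg φ e
  simp only [map_mul, map_one, ha, hb, e', mul_right_inj, mul_left_inj] at this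
  rw [← hv, ← hv', this]

/-- a homomorphism is determined on the positive root elements by the simple ones -/
theorem map_X (φ : Ga K →* Ga K) (γ : K →+* K) {l0 l1 l2 m : K} (h0 : ∀ t, φ (X 18 t) = X 18 (l0 * γ t))
    (h1 : ∀ t, φ (X 13 t) = X 13 (l1 * γ t)) (h2 : ∀ t, φ (X 12 t) = X 12 (l2 * γ t))
    (hb : ∀ t, φ (X 14 t) = X 14 (m * γ t)) : (∀ t, φ (X 19 t) = X 19 (l0 * m * γ t)) ∧
      (∀ t, φ (X 16 t) = X 16 (l1 * m * γ t)) ∧ (∀ t, φ (X 15 t) = X 15 (l2 * m * γ t)) ∧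
      (∀ t, φ (X 17 t) = X 17 (l1 * l2 * m * γ t)) ∧ (∀ t, φ (X 20 t) = X 20 (l2 * l0 * m * γ t)) ∧
      (∀ t, φ (X 21 t) = X 21 (l0 * l1 * m * γ t)) ∧ (∀ t, φ (X 22 t) = X 22 (l0 * l1 * l2 * m * γ t)) ∧
      ∀ t, φ (X 23 t) = X 23 (l0 * l1 * l2 * m ^ 2 * γ t) := by
  have c0 : ∀ t, φ (X 19 t) = X 19 (l0 * m * γ t) := fun t =>
    key (s18_14 1 (-t) 1) (s18_14 _ _ 1) (h0 _) (hb _) (by ring) (by rw [map_one, map_neg]; ring)
  have c1 : ∀ t, φ (X 16 t) = X 16 (l1 * m * γ t) := fun t =>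
    key (s13_14 1 t 1) (s13_14 _ _ 1) (h1 _) (hb _) (by ring) (by rw [map_one]; ring)
  have c2 : ∀ t, φ (X 15 t) = X 15 (l2 * m * γ t) := fun t =>
    key (s12_14 1 t 1) (s12_14 _ _ 1) (h2 _) (hb _) (by ring) (by rw [map_one]; ring)
  have d0 : ∀ t, φ (X 17 t) = X 17 (l1 * l2 * m * γ t) := fun t =>
    key (s12_16 t 1 1) (s12_16 _ _ 1) (h2 _) (c1 _) (by ring) (by rw [map_one]; ring)
  have y : ∀ t, φ (X 22 t) = X 22 (l0 * l1 * l2 * m * γ t) := fun t =>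
    key (s18_17 (-t) 1 1) (s18_17 _ _ 1) (h0 _) (d0 _) (by ring) (by rw [map_one, map_neg]; ring)
  exact ⟨c0, c1, c2, d0,
    fun t => key (s12_19 t 1 1) (s12_19 _ _ 1) (h2 _) (c0 _) (by ring) (by rw [map_one]; ring),
    fun t => key (s13_19 t 1 1) (s13_19 _ _ 1) (h1 _) (c0 _) (by ring) (by rw [map_one]; ring), y,
    fun t => key (s22_14 1 (-t) 1) (s22_14 _ _ 1) (y _) (hb _) (by ring) (by rw [map_one, map_neg]; ring)⟩

/-- the same for the graph automorphism -/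
theorem map_X' (φ : Ga K →* Ga K) (γ : K →+* K) (h0 : ∀ t, φ (X 18 t) = X 13 (γ t))
    (h1 : ∀ t, φ (X 13 t) = X 12 (γ t)) (h2 : ∀ t, φ (X 12 t) = X 18 (γ t))
    (hb : ∀ t, φ (X 14 t) = X 14 (γ t)) : (∀ t, φ (X 19 t) = X 16 (-γ t)) ∧
      (∀ t, φ (X 16 t) = X 15 (γ t)) ∧ (∀ t, φ (X 15 t) = X 19 (-γ t)) ∧
      (∀ t, φ (X 17 t) = X 20 (-γ t)) ∧ (∀ t, φ (X 20 t) = X 21 (γ t)) ∧
      (∀ t, φ (X 21 t) = X 17 (-γ t)) ∧ (∀ t, φ (X 22 t) = X 22 (γ t)) ∧ ∀ t, φ (X 23 t) = X 23 (γ t) := by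
  have c0 : ∀ t, φ (X 19 t) = X 16 (-γ t) := fun t =>
    key (s18_14 1 (-t) 1) (s13_14 _ _ 1) (h0 _) (hb _) (by ring) (by rw [map_one, map_neg]; ring)
  have c1 : ∀ t, φ (X 16 t) = X 15 (γ t) := fun t =>
    key (s13_14 1 t 1) (s12_14 _ _ 1) (h1 _) (hb _) (by ring) (by rw [map_one]; ring)
  have c2 : ∀ t, φ (X 15 t) = X 19 (-γ t) := fun t =>
    key (s12_14 1 t 1) (s18_14 _ _ 1) (h2 _) (hb _) (by ring) (by rw [map_one]; ring)
  have d0 : ∀ t, φ (X 17 t) = X 20 (-γ t) := fun t =>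
    key (s12_16 t 1 1) (s18_15 _ _ 1) (h2 _) (c1 _) (by ring) (by rw [map_one]; ring)
  have y : ∀ t, φ (X 22 t) = X 22 (γ t) := fun t =>
    key (s18_17 (-t) 1 1) (s13_20 _ _ 1) (h0 _) (d0 _) (by ring) (by rw [map_one, map_neg]; ring)
  exact ⟨c0, c1, c2, d0,
    fun t => key (s12_19 t 1 1) (s18_16 _ _ 1) (h2 _) (c0 _) (by ring) (by rw [map_one]; ring),
    fun t => key (s13_19 t 1 1) (s12_16 _ _ 1) (h1 _) (c0 _) (by ring) (by rw [map_one]; ring), y,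
    fun t => key (s22_14 1 (-t) 1) (s22_14 _ _ 1) (y _) (hb _) (by ring) (by rw [map_one, map_neg]; ring)⟩

/-- the two reflections -/
theorem refl_b : X 14 (1 : K) * X 9 (-1) * X 14 1 * (X 18 1 * X 13 1 * X 12 1) =
    X 19 1 * X 16 (-1) * X 15 (-1) * (X 14 1 * X 9 (-1) * X 14 1) := by
  have e := tabD4.word_eq realD4 (1 : ℕ →* K) (p := 0) Int.cast_zero
    [(14, [(1, 1)]), (9, [(-1, 1)]), (14, [(1, 1)]), (18, [(1, 1)]), (13, [(1, 1)]), (12, [(1, 1)])]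
    [(19, [(1, 1)]), (16, [(-1, 1)]), (15, [(-1, 1)]), (14, [(1, 1)]), (9, [(-1, 1)]), (14, [(1, 1)])] (by decide +kernel)
  exact Subtype.ext (by simpa [Aux.evalP, Real.word, X, mul_assoc] using e)

theorem refl_a : X 18 (1 : K) * X 13 1 * X 12 1 * (X 5 (-1) * X 10 (-1) * X 11 (-1)) * (X 18 1 * X 13 1 * X 12 1) * X 14 1 =
    X 22 (-1) * (X 18 1 * X 13 1 * X 12 1 * (X 5 (-1) * X 10 (-1) * X 11 (-1)) * (X 18 1 * X 13 1 * X 12 1)) := by
  have e := tabD4.word_eq realD4 (1 : ℕ →* K) (p := 0) Int.cast_zero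
    [(18, [(1, 1)]), (13, [(1, 1)]), (12, [(1, 1)]), (5, [(-1, 1)]), (10, [(-1, 1)]), (11, [(-1, 1)]), (18, [(1, 1)]),
      (13, [(1, 1)]), (12, [(1, 1)]), (14, [(1, 1)])]
    [(22, [(-1, 1)]), (18, [(1, 1)]), (13, [(1, 1)]), (12, [(1, 1)]), (5, [(-1, 1)]), (10, [(-1, 1)]), (11, [(-1, 1)]),
      (18, [(1, 1)]), (13, [(1, 1)]), (12, [(1, 1)])] (by decide +kernel)
  exact Subtype.ext (by simpa [Aux.evalP, Real.word, X, mul_assoc] using e)

variable [TF K]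

/-- the embedding -/
noncomputable def io : U K →* Ga K := MonoidHom.mk' (fun g => W g.b (-g.c) (sg g.c) (sg (sg g.c)) g.d (-sg g.d)
    (-sg (sg g.d)) (-g.y) g.z g.a (sg g.a) (sg (sg g.a)) 1) fun g h => by
  rw [W_assoc, one_mul, W_mul]
  refine W_congr ⟨?_, ?_, ?_, ?_, ?_, ?_, ?_, ?_, ?_, ?_, ?_, ?_⟩ <;>
    simp only [mul_a, mul_b, mul_c, mul_d, mul_y, mul_z, Tr, sh, Nr, cr, sg_add, sg_mul, sg3, U.hb] <;> ring

theorem io_apply (g : U K) : io g = W g.b (-g.c) (sg g.c) (sg (sg g.c)) g.d (-sg g.d)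
    (-sg (sg g.d)) (-g.y) g.z g.a (sg g.a) (sg (sg g.a)) 1 := rfl

theorem io_inj : Function.Injective (io : U K →* Ga K) := fun g h e => by
  obtain ⟨h1, h2, h3, h4, h5, h6⟩ := W_inj e
  exact U.ext h6 h1 (neg_injective h2) h3 (neg_injective h4) h5

theorem io_mem (g : U K) : io g ∈ (realD4.S K).res.U := W_mem _ _ _ _ _ _ _ _ _ _ _ _

theorem io_act (φ : Ga K →* Ga K) (h : Par K) (h0 : ∀ t, φ (X 18 t) = X 18 (h.l * h.γ t))
    (h1 : ∀ t, φ (X 13 t) = X 13 (sg (h.l : K) * h.γ t)) (h2 : ∀ t, φ (X 12 t) = X 12 (sg (sg (h.l : K)) * h.γ t))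
    (hb : ∀ t, φ (X 14 t) = X 14 (h.m * h.γ t)) (g : U K) : φ (io g) = io (act h g) := by
  obtain ⟨e1, e2, e3, e4, e5, e6, e7, e8⟩ := map_X φ (h.γ : K →+* K) h0 h1 h2 hb
  simp only [io_apply, W, map_mul, map_one, h0, h1, h2, hb, e1, e2, e3, e4, e5, e6, e7, e8]
  refine W_congr ⟨?_, ?_, ?_, ?_, ?_, ?_, ?_, ?_, ?_, ?_, ?_, ?_⟩ <;>
    simp only [act_a, act_b, act_c, act_d, act_y, act_z, sh, Nr, sg_mul, sg3, h.hm, RingHom.coe_coe, map_neg, map_sg] <;> ring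

theorem io_fix (φ : Ga K →* Ga K) (h0 : ∀ t, φ (X 18 t) = X 13 (sg t)) (h1 : ∀ t, φ (X 13 t) = X 12 (sg t))
    (h2 : ∀ t, φ (X 12 t) = X 18 (sg t)) (hb : ∀ t, φ (X 14 t) = X 14 (sg t)) (g : U K) : φ (io g) = io g := by
  obtain ⟨e1, e2, e3, e4, e5, e6, e7, e8⟩ := map_X' φ (TF.s : K ≃+* K) h0 h1 h2 hb
  have e : ∀ t : K, ((TF.s : K ≃+* K) : K →+* K) t = sg t := fun _ => rfl
  simp only [io_apply, W, map_mul, map_one, h0, h1, h2, hb, e1, e2, e3, e4, e5, e6, e7, e8, e, sg_neg, neg_neg, sg3,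
    U.hb, U.hy, U.hz, s16_19, s15_19, s15_16, s20_17, s21_17, s21_20, s13_18, s12_18, s12_13]

theorem io_xa (t : K) : io (xa t) = X 18 t * X 13 (sg t) * X 12 (sg (sg t)) := by
  simp [io_apply, W, xa, X_zero, mul_assoc]
theorem io_xb (t : K) (h : sg t = t) : io (xb t h) = X 14 t := by simp [io_apply, W, xb, X_zero]
theorem io_xc (t : K) : io (xc t) = X 19 (-t) * X 16 (sg t) * X 15 (sg (sg t)) := by
  simp [io_apply, W, xc, X_zero, mul_assoc]
theorem io_xy (t : K) (h : sg t = t) : io (xy t h) = X 22 (-t) := by simp [io_apply, W, xy, X_zero]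

end CL.TD.Mod
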