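/-
Project TD: the group `U K` as a Sylow subgroup of `³D₄(q)`, and the realising group.
-/
import Cfsg.Agent.TD.ModA
import Cfsg.Agent.TD.DefsQ
import Cfsg.Agent.Chev.TwOutReal
import Cfsg.Agent.U5.MD

set_option autoImplicit false

namespace CL.TD

open Cfsg Cfsg.Lie CL.Chev CL.Chev.Cert CL.Chev.StSys

universe u

variable {K : Type u} [Field K]

namespace Mod

theorem xs0 (t : K) : (realD4.S K).res.x (realD4.R.simple (0 : Fin 4)) t = X 18 t :=
  (tabD4.x_simple realD4 (0 : Fin 4) t).trans (congrArg (X · t) (by decide +kernel))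
theorem xs1 (t : K) : (realD4.S K).res.x (realD4.R.simple (1 : Fin 4)) t = X 14 t :=
  (tabD4.x_simple realD4 (1 : Fin 4) t).trans (congrArg (X · t) (by decide +kernel))
theorem xs2 (t : K) : (realD4.S K).res.x (realD4.R.simple (2 : Fin 4)) t = X 13 t :=
  (tabD4.x_simple realD4 (2 : Fin 4) t).trans (congrArg (X · t) (by decide +kernel))
theorem xs3 (t : K) : (realD4.S K).res.x (realD4.R.simple (3 : Fin 4)) t = X 12 t :=
  (tabD4.x_simple realD4 (3 : Fin 4) t).trans (congrArg (X · t) (by decide +kernel))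
theorem xn0 (t : K) : (realD4.S K).res.x (realD4.R.neg (realD4.R.simple (0 : Fin 4))) t = X 5 t :=
  (tabD4.x_neg_simple realD4 (0 : Fin 4) t).trans (congrArg (X · t) (by decide +kernel))
theorem xn1 (t : K) : (realD4.S K).res.x (realD4.R.neg (realD4.R.simple (1 : Fin 4))) t = X 9 t :=
  (tabD4.x_neg_simple realD4 (1 : Fin 4) t).trans (congrArg (X · t) (by decide +kernel))
theorem xn2 (t : K) : (realD4.S K).res.x (realD4.R.neg (realD4.R.simple (2 : Fin 4))) t = X 10 t :=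
  (tabD4.x_neg_simple realD4 (2 : Fin 4) t).trans (congrArg (X · t) (by decide +kernel))
theorem xn3 (t : K) : (realD4.S K).res.x (realD4.R.neg (realD4.R.simple (3 : Fin 4))) t = X 11 t :=
  (tabD4.x_neg_simple realD4 (3 : Fin 4) t).trans (congrArg (X · t) (by decide +kernel))

variable [TF K]

/-- the twisted group -/
abbrev Gt (K : Type u) [Field K] [TF K] : Type u := twistedD4 K (TF.q K)

theorem isTw (K : Type u) [Field K] [TF K] :
    StSys.IsTwD4 (R := realD4.R) (realD4.S K) (twistedD4 K (TF.q K)) (TF.q K) := by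
  have := Fintype.ofFinite K
  have hK : Fintype.card K = TF.q K ^ 3 := Nat.card_eq_fintype_card.symm.trans card_K
  exact isTwD4 realD4 ((isPrimePow_pow_iff three_ne_zero).1 (hK ▸ Fintype.isPrimePow_card_of_field)) hK

theorem exA (K : Type u) [Field K] [TF K] : ∃ A : (realD4.S K).res.GAut, GAut.IsD4 (R := realD4.R) A TF.s ∧
    (twistedD4 K (TF.q K)).subgroupOf (realD4.S K).grp = Subgroup.closure (d4Gens (R := realD4.R) (realD4.S K).res TF.s) := by
  obtain ⟨A, θ, h1, h2, h3⟩ := (isTw K).ex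
  obtain rfl : θ = TF.s := RingEquiv.ext fun t => (h2 t).trans (TF.pw t).symm
  exact ⟨A, h1, h3⟩

theorem sig {A : (realD4.S K).res.GAut} (h : GAut.IsD4 (R := realD4.R) A TF.s) (t : K) :
    A.σ (X 18 t) = X 13 (sg t) ∧ A.σ (X 13 t) = X 12 (sg t) ∧ A.σ (X 12 t) = X 18 (sg t) ∧ A.σ (X 14 t) = X 14 (sg t) := by
  have e : ∀ i : Fin 4, A.σ ((realD4.S K).res.x (realD4.R.simple i) t) =
      (realD4.S K).res.x (realD4.R.simple (piD4 i)) (sg t) := fun i => (A.σ_pos i t).trans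
    (congrArg₂ (fun j u => (realD4.S K).res.x (realD4.R.simple j) u) (DFunLike.congr_fun h.π_eq i)
      (DFunLike.congr_fun (h.φ_eq i) t))
  exact ⟨(congrArg _ (xs0 t).symm).trans ((e 0).trans (xs2 _)), (congrArg _ (xs2 t).symm).trans ((e 2).trans (xs3 _)),
    (congrArg _ (xs3 t).symm).trans ((e 3).trans (xs0 _)), (congrArg _ (xs1 t).symm).trans ((e 1).trans (xs1 _))⟩

theorem io_tw (g : U K) : (io g : GL chevD4.Idx K) ∈ twistedD4 K (TF.q K) := by
  obtain ⟨A, h, e⟩ := exA K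
  exact GAut.TwData.U_fix (e ▸ h.twData) (isTw K).faithful (isTw K).le (mem_res_U.1 (io_mem g))
    (io_fix A.σ.toMonoidHom (fun t => (sig h t).1) (fun t => (sig h t).2.1) (fun t => (sig h t).2.2.1)
      (fun t => (sig h t).2.2.2) g)

/-- the embedding into the twisted group -/
noncomputable def mat : U K →* Gt K := ((realD4.S K).grp.subtype.comp io).codRestrict _ io_tw

/-- the inclusion into the Chevalley group -/
noncomputable def inc : Gt K →* Ga K := Subgroup.inclusion (isTw K).le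

theorem inc_inj : Function.Injective (inc : Gt K →* Ga K) := Subgroup.inclusion_injective _
theorem inc_mat (g : U K) : inc (mat g) = io g := rfl
theorem mat_inj : Function.Injective (mat : U K →* Gt K) := fun _ _ e => io_inj (congrArg inc e)

theorem card_U : Nat.card (U K) = TF.q K ^ 12 := by
  have e : U K ≃ K × {x : K // sg x = x} × K × K × {x : K // sg x = x} × {x : K // sg x = x} :=
    ⟨fun g => (g.a, ⟨g.b, g.hb⟩, g.c, g.d, ⟨g.y, g.hy⟩, ⟨g.z, g.hz⟩),
      fun x => ⟨x.1, x.2.1, x.2.2.1, x.2.2.2.1, x.2.2.2.2.1, x.2.2.2.2.2, x.2.1.2, x.2.2.2.2.1.2, x.2.2.2.2.2.2⟩,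
      fun _ => rfl, fun _ => rfl⟩
  simp only [Nat.card_congr e, Nat.card_prod, card_fix, card_K]
  ring

theorem card_range : Nat.card (mat : U K →* Gt K).range = TF.q K ^ 12 :=
  (Nat.card_congr (MonoidHom.ofInjective mat_inj).toEquiv).symm.trans card_U

theorem range_eq : (mat : U K →* Gt K).range = ((realD4.S K).U ⊓ twistedD4 K (TF.q K)).subgroupOf _ :=
  Subgroup.eq_of_le_of_card_ge (by rintro _ ⟨g, rfl⟩; exact ⟨mem_res_U.1 (io_mem g), io_tw g⟩)
    ((card_inf_eq _ _).symm.trans ((isTw K).card_U.trans card_range.symm)).le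

theorem idx (p : ℕ) [Fact p.Prime] [CharP K p] : ¬ p ∣ (mat : U K →* Gt K).range.index := by
  have hp : p.Prime := Fact.out
  have q2 := two_le_q (K := K)
  have d : p ∣ TF.q K := by
    have := Fintype.ofFinite K
    obtain ⟨n, -, hn⟩ := FiniteField.card K p
    exact hp.dvd_of_dvd_pow (card_K (K := K) ▸ Nat.card_eq_fintype_card (α := K) ▸ hn ▸ dvd_pow_self p n.ne_zero)
  have e := (mat : U K →* Gt K).range.card_mul_index
  rw [card_range, (isTw K).card_eq, mul_assoc, mul_assoc] at e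
  rw [Nat.eq_of_mul_eq_mul_left (by positivity) e]
  have k : ∀ n, n ≠ 0 → ¬ p ∣ TF.q K ^ n - 1 := fun n hn d' => hp.one_lt.ne' (Nat.dvd_one.1 (by
    have := Nat.dvd_sub (dvd_pow d hn) d'
    rwa [Nat.sub_sub_self (Nat.one_le_pow _ _ (by omega))] at this))
  simp only [hp.dvd_mul, not_or]
  exact ⟨k 2 two_ne_zero, k 6 (by decide), fun d' => hp.one_lt.ne' (Nat.dvd_one.1
    ((Nat.dvd_add_right (dvd_add (dvd_pow d (by decide)) (dvd_pow d (by decide)))).1 d'))⟩

theorem norm (g : Gt K) (hg : ∀ x, ∃ y, mat y = g * mat x * g⁻¹) :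
    ∃ (s : U K) (h : Par K), h.γ = 1 ∧ ∀ x, g * mat x * g⁻¹ = mat (s * act h x * s⁻¹) := by
  obtain ⟨A, h, e⟩ := exA K
  have D := e ▸ h.twData
  have hS := (isTw K).faithful
  have hK := (isTw K).le
  have h1 : g ∈ Subgroup.normalizer ((D.Q hS hK).U : Set (Gt K)) := by
    rw [(D.Q_U hS hK).trans range_eq.symm]
    exact Subgroup.mem_normalizer_fintype (by rintro _ ⟨x, rfl⟩; exact hg x)
  rw [SharpBN.normalizer_U, D.Q_B] at h1
  obtain ⟨v, hv, k, hk, e1⟩ := (realD4.S K).res.mem_B_iff.1 (mem_res_B.2 h1.1 : inc g ∈ _)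
  obtain ⟨k1, k2, -⟩ := A.fixed_bruhat hS.res ((realD4.S K).res.mem_NW_of_mem_H hk) hv (one_mem _)
    (by rw [mul_one, ← e1]; exact D.fix _ g.2)
  obtain ⟨s, hs⟩ : (⟨v, D.U_fix hS hK (mem_res_U.1 hv) k1⟩ : Gt K) ∈ (mat : U K →* Gt K).range :=
    range_eq.ge ⟨mem_res_U.1 hv, D.U_fix hS hK (mem_res_U.1 hv) k1⟩
  obtain rfl : io s = v := congrArg inc hs
  have c := fun i => ((realD4.S K).res.induces_of_mem_H hk).exists_conj (realD4.R.simple i)
  obtain ⟨l, l0, c0⟩ := c (0 : Fin 4)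
  obtain ⟨m, m0, c1⟩ := c (1 : Fin 4)
  simp only [Equiv.Perm.one_apply, xs0, xs1] at c0 c1
  have c2 : ∀ t, k * X 13 t * k⁻¹ = X 13 (sg l * t) := fun t => by
    have := congrArg A.σ (c0 (sg (sg t)))
    rwa [map_mul, map_mul, map_inv, k2, (sig h _).1, (sig h _).1, sg_mul, sg3] at this
  have c3 : ∀ t, k * X 12 t * k⁻¹ = X 12 (sg (sg l) * t) := fun t => by
    have := congrArg A.σ (c2 (sg (sg t)))
    rwa [map_mul, map_mul, map_inv, k2, (sig h _).2.1, (sig h _).2.1, sg_mul, sg3] at this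
  have hm : sg m = m := by
    have := congrArg A.σ (c1 1)
    rw [map_mul, map_mul, map_inv, k2, (sig h _).2.2.2, (sig h _).2.2.2, sg_one, c1, mul_one, ← xs1, ← xs1] at this
    exact (hS.res.uFaithful.x_injective _ this).symm
  refine ⟨s, ⟨Units.mk0 l l0, Units.mk0 m m0, 1, hm⟩, rfl, fun x => inc_inj ?_⟩
  rw [inc_mat, map_mul io, map_mul io, map_inv io, ← io_act (MulAut.conj k).toMonoidHom
    ⟨Units.mk0 l l0, Units.mk0 m m0, 1, hm⟩ c0 c2 c3 c1, map_mul, map_mul,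
    map_inv, e1, inc_mat]
  simp [mul_assoc]

/-- the torus coordinates -/
def cc (h : Par K) : Fin chevD4.rank → Kˣ := show Fin 4 → Kˣ from
  ![h.l, h.m, Units.map ((TF.s : K ≃+* K) : K →* K) h.l,
  Units.map ((TF.s : K ≃+* K) : K →* K) (Units.map ((TF.s : K ≃+* K) : K →* K) h.l)]

theorem cc_mul (h k : Par K) (i : Fin chevD4.rank) : (cc (h * k) i : K) = cc h i * h.γ (cc k i) := by
  change Fin 4 at i
  fin_cases i
  · rfl
  · rfl
  · exact (sg_mul _ _).trans (congrArg _ (map_sg _ _).symm)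
  · show sg (sg (h.l * h.γ k.l : K)) = sg (sg (h.l : K)) * h.γ (sg (sg (k.l : K)))
    simp only [sg_mul, map_sg]

theorem exists_phi : ∃ φ : Par K →* MulAut (Gt K), ∀ h x, φ h (mat x) = mat (act h x) := by
  obtain ⟨A, h, e⟩ := exA K
  have D := e ▸ h.twData
  have F := realD4.full_res K
  choose β hβ using fun c : Par K => exists_restrict (isTw K).le (F.dfAut (cc c) c.γ) fun g hg =>
    D.map_mem (isTw K).faithful.res (F.σ_dfAut A (fun i => ⟨TF.q K, fun t => (DFunLike.congr_fun (h.φ_eq i) t).trans (TF.pw t)⟩)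
      ((h.τ_eq_iff (cc c)).2 ⟨c.hm, rfl, rfl⟩) c.γ) (fun r t => ⟨_, F.dfAut_x _ _ r t⟩) hg
  have m : ∀ a b : Par K, F.dfAut (cc (a * b)) (a * b).γ = F.dfAut (cc a) a.γ * F.dfAut (cc b) b.γ := fun a b =>
    StSys.aut_ext _ F.top
      (fun i t => by simp only [MulAut.mul_apply, Full.dfAut_pos, cc_mul, par_mul_γ, map_mul, mul_assoc])
      fun i t => by
        simp only [MulAut.mul_apply, Full.dfAut_neg, Units.val_inv_eq_inv_val, cc_mul, par_mul_γ, map_mul, map_inv₀,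
          mul_inv, mul_assoc]
  refine ⟨MonoidHom.mk' β fun a b => MulEquiv.ext fun g => inc_inj ?_, fun a x => inc_inj ((hβ a _).trans ?_)⟩
  · exact (hβ _ g).trans ((DFunLike.congr_fun (m a b) _).trans ((congrArg _ (hβ b g).symm).trans (hβ a _).symm))
  · exact io_act (F.dfAut (cc a) a.γ).toMonoidHom a (fun t => by rw [← xs0, ← xs0]; exact F.dfAut_pos _ _ _ t)
      (fun t => by rw [← xs2, ← xs2]; exact F.dfAut_pos _ _ _ t) (fun t => by rw [← xs3, ← xs3]; exact F.dfAut_pos _ _ _ t)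
      (fun t => by rw [← xs1, ← xs1]; exact F.dfAut_pos _ _ _ t) x

theorem neg_mem : (∃ n : Gt K, inc n = X 9 (-1)) ∧ ∃ n : Gt K, inc n = X 5 (-1) * X 10 (-1) * X 11 (-1) := by
  obtain ⟨A, h, e⟩ := exA K
  have k : ∀ g ∈ d4Gens (R := realD4.R) (realD4.S K).res TF.s, ∃ n : Gt K, inc n = g := fun g hg =>
    ⟨⟨g, e.ge (Subgroup.subset_closure hg)⟩, rfl⟩
  exact ⟨k _ (.inl ⟨-1, by simp, .inr (xn1 _).symm⟩), k _ (.inr ⟨-1, .inr (by simp [xn0, xn2, xn3])⟩)⟩

theorem wit1 : ∃ g : Gt K, ∃ x ∈ Q1 K, ∃ y, y ∉ Q1 K ∧ mat y = g * mat x * g⁻¹ := by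
  obtain ⟨n, hn⟩ := (neg_mem (K := K)).1
  refine ⟨(mat (xb 1 sg_one) * n * mat (xb 1 sg_one))⁻¹, xc (-1), rfl, xa 1, one_ne_zero, inc_inj ?_⟩
  simp only [map_mul, map_inv, inc_mat, hn, io_xa, io_xb, io_xc, sg_one, sg_neg, neg_neg, inv_inv]
  rw [mul_assoc _ _ (_ * _ * X 14 1), ← refl_b, inv_mul_cancel_left]

theorem wit2 : ∃ g : Gt K, ∃ x ∈ Q2 K, ∃ y, y ∉ Q2 K ∧ mat y = g * mat x * g⁻¹ := by
  obtain ⟨n, hn⟩ := (neg_mem (K := K)).2
  refine ⟨(mat (xa 1) * n * mat (xa 1))⁻¹, xy 1 sg_one, rfl, xb 1 sg_one, one_ne_zero, inc_inj ?_⟩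
  simp only [map_mul, map_inv, inc_mat, hn, io_xa, io_xb, io_xy, sg_one, inv_inv]
  rw [mul_assoc _ (X 22 (-1)), ← refl_a, inv_mul_cancel_left]

end Mod

variable (K) [TF K]

open TD.Mod in
theorem syl : SYL K := fun p _ _ T =>
  ⟨((MonoidHom.ofInjective mat_inj).trans (Sylow.equiv (((pg p).of_equiv
    (MonoidHom.ofInjective mat_inj)).toSylow (idx p)) T)).symm⟩

open TD.Mod SemidirectProduct U5.MDx in
theorem real : REAL K := by
  intro p _ _ H hH hu
  obtain ⟨φ, hφ⟩ := exists_phi (K := K)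
  have inj : Function.Injective ((inl : Gt K →* Gt K ⋊[φ.comp H.subtype] H).comp mat) := inl_injective.comp mat_inj
  refine ⟨Gt K ⋊[φ.comp H.subtype] H, inferInstance, Finite.of_equiv _ equivProd.symm, inl.comp mat, inj, ?_,
    fun α => ⟨?_, ?_⟩, ?_, ?_⟩
  · have e1 := ((inl : Gt K →* Gt K ⋊[φ.comp H.subtype] H).comp mat).range.card_mul_index
    have e2 := (mat : U K →* Gt K).range.card_mul_index
    rw [← Nat.card_congr (MonoidHom.ofInjective inj).toEquiv, SemidirectProduct.card, ← e2,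
      ← Nat.card_congr (MonoidHom.ofInjective mat_inj).toEquiv, mul_assoc] at e1
    rw [Nat.eq_of_mul_eq_mul_left Nat.card_pos e1]
    exact fun d => ((Nat.Prime.dvd_mul Fact.out).1 d).elim (idx p) hH
  · rintro ⟨g, hg⟩
    have k : ∀ x, mat (α x) = g.left * mat (act g.right.1 x) * g.left⁻¹ := fun x => by
      rw [← hφ]
      exact inl_injective ((hg x).trans (conj_inl g _))
    obtain ⟨s, h, h1, e⟩ := Mod.norm g.left fun x => ⟨α ((act g.right.1)⁻¹ x), by rw [k, MulAut.apply_inv_self]⟩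
    refine ⟨s, h * g.right.1, mul_mem (hu h h1) g.right.2, MulEquiv.ext fun x => mat_inj ?_⟩
    rw [k, e, map_mul act h]
    rfl
  · rintro ⟨s, h, hh, rfl⟩
    refine ⟨⟨mat s, ⟨h, hh⟩⟩, fun x => Eq.trans (congrArg inl ?_) (conj_inl _ _).symm⟩
    show mat (s * act h x * s⁻¹) = mat s * φ h (mat x) * (mat s)⁻¹
    rw [hφ, map_mul, map_mul, map_inv]
  · obtain ⟨g, x, hx, y, hy, e⟩ := wit1 (K := K)
    exact ⟨inl g, x, hx, y, hy, by rw [MonoidHom.comp_apply, e, map_mul, map_mul, map_inv]; rfl⟩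
  · obtain ⟨g, x, hx, y, hy, e⟩ := wit2 (K := K)
    exact ⟨inl g, x, hx, y, hy, by rw [MonoidHom.comp_apply, e, map_mul, map_mul, map_inv]; rfl⟩

end CL.TD
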