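/-
Project TD: the points of the orbit inside the hyperplane.
-/
import Cfsg.Agent.TD.Defs1

set_option autoImplicit false
set_option linter.unusedSectionVars false
set_option linter.unusedSimpArgs false

namespace CL.TD

open Cfsg CL.Fus CL.U5

universe u

namespace N02J

variable {K : Type u} [Field K] [TF K] {p : ℕ} {L : Subgroup (Au (V8 K))}

/-- the stabiliser of a vector -/
def stab (L : Subgroup (Au (V8 K))) (u : V8 K) : Subgroup (Au (V8 K)) where
  carrier := {k | k ∈ L ∧ k u = u}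
  mul_mem' := fun {a b} ha hb => ⟨mul_mem ha.1 hb.1, by rw [au_mul, hb.2, ha.2]⟩
  one_mem' := ⟨one_mem _, rfl⟩
  inv_mem' := fun {a} ha => ⟨inv_mem ha.1, by rw [← ha.2, au_inv_apply, ha.2]⟩

theorem fix_all (h : H1 p L) {u : V8 K} (hu : OV L u) {a : K} (ha : a ≠ 0) (e : Mt a u = u) (x : K) : Mt x u = u := by
  obtain ⟨g, hg, s, -, rfl⟩ := hu
  exact (h.sub (stab L _) (fun _ k => k.1) g hg (fun x => ⟨mul_mem (mul_mem hg (h.mt x)) (inv_mem hg),
    by rw [au_mul, au_mul, au_inv_apply, Mt_cv]⟩) a ha ⟨h.mt a, e⟩ x).2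

theorem part1 (h : H1 p L) {u : V8 K} (hu : OV L u) (hb : u.b = 0) (hc : u.c = 0) : u.d = 0 := by
  obtain ⟨a, h1, h2⟩ := exists_perp u.d 0
  have e : Mt a u = u := by ext <;> simp [hb, hc, mul_comm u.d, h1]
  refine Tr_nondeg fun t => ?_
  have := congrArg V8.y (fix_all h hu (fun k => h2 0 sg_zero (by simp [k])) e t)
  simpa [hb, hc, mul_comm u.d] using this

theorem shift (h2 : (2 : K) = 0) {u : V8 K} (hb : u.b = 0) (l β : Fx K)
    (e : (β : K) = l * Tr (u.d * u.c) + l ^ 2 * Nr u.c) : Mt (l * u.c) u = u + β • cv := by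
  ext
  · simp
  · simp [hb]
  · simp [hb, cr_smul (sg_fx l), cr_self, h2]
  · simp only [Mt_y, add_y, smul_y, cv_y, hb, e, Tr, sh, Nr, sg_mul, sg3, sg_fx]
    linear_combination (l : K) ^ 2 * u.c * sg u.c * sg (sg u.c) * h2

theorem claimA (h : H1 p L) (h2 : (2 : K) = 0) {u : V8 K} (hu : OV L u) (hb : u.b = 0) (hc : u.c ≠ 0) (β : Fx K) :
    OV L (u + β • cv) := by
  have hN : Nr u.c ≠ 0 := by simpa using hc
  have hT : Tr (u.d * u.c) = 0 := by
    by_contra hT
    have e := shift h2 hb ⟨Tr (u.d * u.c) / Nr u.c, by simp [mem_Fx]⟩ 0 (by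
      simp only [ZeroMemClass.coe_zero]; field_simp; linear_combination -Tr (u.d * u.c) ^ 2 * h2)
    rw [zero_smul, add_zero] at e
    obtain ⟨x, hx⟩ := exists_cr_ne hc
    have := congrArg V8.d (fix_all h hu (mul_ne_zero (div_ne_zero hT hN) hc) e x)
    exact hx (by simpa [hb] using this)
  obtain ⟨l, hl⟩ := (Finite.injective_iff_surjective (f := fun l : Fx K => l ^ 2 * (⟨Nr u.c, sg_Nr _⟩ : Fx K))).1
    (fun l m e => by
      have e1 : (l : K) ^ 2 = (m : K) ^ 2 := mul_right_cancel₀ hN (congrArg Subtype.val e)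
      exact Subtype.ext (sub_eq_zero.1 (pow_eq_zero_iff two_ne_zero |>.1
        (by linear_combination e1 + ((m : K) ^ 2 - l * m) * h2)))) β
  rw [← shift h2 hb l β (by rw [hT, ← hl]; simp)]
  exact hu.map (h.mt _)

theorem claimB (h : H1 p L) (h2 : (2 : K) = 0) {u w : V8 K} (hu : OV L u) (hw : OV L w) (e : om w u = 0)
    (hn : ∀ l : Fx K, w ≠ l • u) (β : Fx K) : OV L (w + β • u) := by
  obtain ⟨g, hg, s, hs, rfl⟩ := hu
  obtain ⟨γ, μ, -, -, k, -⟩ := h.sem g hg
  obtain ⟨β, rfl⟩ := fxm_surj γ β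
  have h1 := hw.map (inv_mem hg)
  have h3 := (h.conf _ (inv_mem hg)).perp e
  rw [au_inv_apply, om_smul_r, om_cv, mul_eq_zero, neg_eq_zero] at h3
  have hb := h3.resolve_left fun e => hs (Subtype.ext e)
  have hc : (g⁻¹ w).c ≠ 0 := fun hc => by
    obtain ⟨t, ht⟩ := inC_iff.1 ⟨hb, hc, part1 h h1 hb hc⟩
    refine hn (fxm γ (t / s)) ?_
    rw [← k, smul_smul, div_mul_cancel₀ _ hs, ← ht, au_apply_inv]
  have := (claimA h h2 h1 hb hc (β * s)).map hg
  rwa [map_add, au_apply_inv, mul_smul, k] at this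

end N02J

open N02J in
theorem n02 (K : Type u) [Field K] [TF K] : N02 K := fun _ _ _ _ h => ⟨fun _ => part1 h, fun h2 u hu hb => by
  by_contra hc
  obtain ⟨x, hx⟩ := exists_cr_ne hc
  have k := claimB h h2 hu (hu.map (h.mt x)) (by rw [om_swap, om_self_Mt]; simp [hb, h2]) (fun l e => by
    have e1 : (l : K) = 1 := (mul_eq_right₀ hc).1 (by simpa [hb] using (congrArg V8.c e).symm)
    exact hx (by simpa [hb, e1] using congrArg V8.d e)) (-1)
  exact hx (by simpa [hb] using part1 h k (by simp [hb]) (by simp [hb]))⟩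

end CL.TD
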