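/-
Project TD: no point of the orbit lies in the hyperplane with a nonzero second coordinate (odd characteristic).
-/
import Cfsg.Agent.TD.Defs1

set_option autoImplicit false

namespace CL.TD

open Cfsg CL.Fus CL.U5

universe u

variable (K : Type u) [Field K] [TF K]

namespace NAx

variable {K} {p : ℕ} {L : Subgroup (Au (V8 K))}

theorem fix {u : V8 K} {t : Au (V8 K)} (h : Tp L u t) : t u = u := by
  obtain ⟨g, -, s, -, rfl, a, rfl⟩ := h
  rw [au_mul, au_mul, au_inv_apply, Mt_cv]

theorem iso (h : H0 p L) {u : V8 K} {t : Au (V8 K)} (k : Tp L u t) : Iso t := by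
  obtain ⟨g, hg, s, -, -, a, rfl⟩ := k
  exact h.iso hg a

end NAx

open NAx in
theorem na (fam : FAM K) (an : AN K) (nd : ND K) (nk : NK K) : NA K := by
  intro p _ _ L h h2 A β hA hu
  by_cases h3 : (3 : K) = 0
  · have e : Tr (sh A * A) = 0 := by
      rw [mul_comm, mul_sh, Tr, sg_Nr, sg_Nr]
      linear_combination Nr A * h3
    exact an p L h h2 A β hu hA A hA e (by rwa [mul_comm])
  have b0 : (β : K) ≠ 0 := fun k => nd p L h h2 h3 A hA (by rwa [show β = 0 from Subtype.ext k] at hu)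
  obtain ⟨x, x1, x2⟩ := exists_perp (sh A) 0
  have x0 : x ≠ 0 := by simpa using x2 0 sg_zero
  rw [mul_comm] at x1
  let Q : Fx K := ⟨Tr (A * sh x), sg_Tr _⟩
  have Q0 : Q ≠ 0 := fun k => an p L h h2 A β hu hA x x0 x1 (congrArg Subtype.val k)
  have c1 : hm K cv = -cv := by ext <;> simp
  have c2 : ∀ l : Fx K, hm K (l • dv (cr A x)) = l • dv (cr A x) := fun l => by ext <;> simp
  have c2' : hm K (dv (cr A x)) = dv (cr A x) := by ext <;> simp
  have c3 : ∀ b : Fx K, hm K (nv A b) = -nv A b := fun b => by ext <;> simp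
  have c4 : ∀ b l : Fx K, cv ≠ l • nv A b := fun b l k => by
    have k1 := congrArg V8.c k
    have k2 := congrArg V8.y k
    simp [hA] at k1
    simp [k1] at k2
  have key : ∀ b : Fx K, OV L (nv A b) → ∃ t, Tp L (nv A b) t ∧ t cv = cv + dv (cr A x) + Q • nv A b := by
    intro b hb
    obtain ⟨t, Q1, t1, t2⟩ := (fam p L h h2 (nv A b) cv (dv (cr A x)) (c3 b) c1 c2' (by simp [om]) (c4 b)).1 hb
      (by simp [om, Tr_cr_self, x1])
    refine ⟨t, t1, ?_⟩
    rw [t2, nk p L h h2 h3 cv (nv A b) (dv (cr A x)) (Mt x) t Q Q1 c1 (c3 b) c2' (by simp [om])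
      (fun l k => hA (by simpa using congrArg V8.c k)) Q0 ⟨1, one_mem _, 1, one_ne_zero, by simp, x, by simp⟩ t1
      (by ext <;> simp [Q]) t2]
  let two : Fx K := ⟨2, sg_two⟩
  have two0 : two ≠ 0 := fun k => h2 (congrArg Subtype.val k)
  let δ : Fx K := β / (two * two) - β
  have hδ : (δ : K) = β / (2 * 2) - β := rfl
  have δ0 : δ ≠ 0 := fun k => by
    have e : (β : K) / (2 * 2) - β = 0 := hδ.symm.trans (congrArg Subtype.val k)
    rw [sub_eq_zero, div_eq_iff (mul_ne_zero h2 h2)] at e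
    exact mul_ne_zero h3 b0 (by linear_combination -e)
  have hu' : OV L (nv A (β + δ)) := by
    have k := hb_apply (Units.mk0 2 h2) sg_two (nv A β)
    have := h.ov_smul (hu.map (h.tor (Units.mk0 2 h2) sg_two)) (inv_ne_zero two0)
    convert this using 1
    ext
    · simp [k.1]
    · simp [k.2.1, two, h2]
    · simp [k.2.2.1]
    · rw [smul_y, k.2.2.2]
      simp [hδ, two]
      field_simp
  have e0 : nv A (β + δ) = nv A β + δ • cv := by ext <;> simp
  obtain ⟨t1, a1, a2⟩ := key β hu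
  obtain ⟨t2, b1, b2⟩ := key _ hu'
  obtain ⟨t3, d1, d2, d3, -⟩ := (fam p L h h2 (nv A (β + δ)) cv (dv (cr A x)) (c3 _) c1 c2' (by simp [om]) (c4 _)).2
    t2 Q b1 b2 (-1)
  have := nk p L h h2 h3 (nv A β) (nv A (β + δ)) (δ • dv (cr A x)) t1 t3 (δ * Q) (-(δ * Q)) (c3 _) (c3 _) (c2 _)
    (by simp [om]) (fun l k => by
      have k1 := congrArg V8.c k
      have k2 := congrArg V8.y k
      simp only [nv_c, smul_c, nv_y, smul_y] at k1 k2
      rw [(mul_left_eq_self₀.1 k1.symm).resolve_right hA] at k2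
      exact δ0 (by simpa using k2)) (mul_ne_zero δ0 Q0) a1 d1
    (by rw [e0, map_add, (iso h.toH0 a1).smul, fix a1, a2]; module)
    (by
      have e1 : nv A β = nv A (β + δ) - δ • cv := by rw [e0, add_sub_cancel_right]
      conv_lhs => rw [e1, map_sub, (iso h.toH0 d1).smul, d2, d3]
      rw [e1]
      module)
  exact mul_ne_zero two0 (mul_ne_zero δ0 Q0) (by
    rw [show two = 2 from Subtype.ext rfl]
    linear_combination this)

end CL.TD
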