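/-
Project TD: the vectors `(0, A, 0, 0)` are not in the orbit of the line `C`.
-/
import Cfsg.Agent.TD.Defs1

set_option autoImplicit false

namespace CL.TD

open Cfsg CL.Fus CL.U5

universe u

variable (K : Type u) [Field K] [TF K]

theorem nd (ni : NI K) : ND K := by
  intro p _ _ L H h2 h3 A hA hov
  obtain ⟨g, hg, cg, s, hs, e⟩ := ni p L H h2 _ hov (by ext <;> simp)
  have hv : sg ((Units.mk0 2 h2 : Kˣ) : K) = (Units.mk0 2 h2 : Kˣ) := sg_two
  obtain ⟨D, hD⟩ : ∃ D, D = actV (hb (Units.mk0 2 h2) hv) := ⟨_, rfl⟩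
  have DL : D ∈ L := hD ▸ H.tor _ _
  have Db : ∀ w, (D w).b = 2 ^ 2 * w.b := fun w => hD ▸ (hb_apply _ hv w).1
  have Dc : ∀ w, (D w).c = 2 * w.c := fun w => hD ▸ (hb_apply _ hv w).2.1
  have Dd : ∀ w, (D w).d = w.d := fun w => hD ▸ (hb_apply _ hv w).2.2.1
  have Dy : ∀ w, (D w).y = 2⁻¹ * w.y := fun w => hD ▸ (hb_apply _ hv w).2.2.2
  have kL : g⁻¹ * D * g ∈ L := mul_mem (mul_mem (inv_mem hg) DL) hg
  have pl : PL (g⁻¹ * D * g) := (H.sem _ kL).PL_of hs (by
    rw [au_mul, au_mul, e, show D (nv A 0) = nv A 0 + nv A 0 by ext <;> simp [Db, Dc, Dd, Dy, two_mul], ← e, ← map_add,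
      au_inv_apply]
    simp [InC])
  obtain ⟨a, h, -, ek⟩ := H.std _ kL pl
  have cD : Commute D (hm K) := au_ext fun w => by ext <;> simp [au_mul, Db, Dc, Dd, Dy]
  have a0 : a = 0 := by
    have := congrArg (fun f : Au (V8 K) => (f (fv 0 0)).c) ((cg.inv_left.mul_left cD).mul_left cg).eq
    simp only [ek, au_mul, Mt_c, actV_c, actV_b, hm_c, hm_b, fv_b, fv_c, neg_zero, map_zero, map_one, mul_zero, mul_one,
      zero_add] at this
    exact (mul_eq_zero.1 ((mul_eq_zero.1 (show 2 * ((h.m : K) * a) = 0 by linear_combination this)).resolve_left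
      h2)).resolve_left h.m.ne_zero
  have E : ∀ w, g (actV h w) = D (g w) := fun w => by
    rw [a0, Mt_zero, one_mul] at ek
    rw [← ek, au_mul, au_mul, au_apply_inv]
  obtain ⟨γ, μ, hμ, -, lin, sim⟩ := H.sem g hg
  have fx : ∀ l, sg l = l → h.γ l = l := fun l hl => by
    have : actV h ((⟨l, hl⟩ : Fx K) • fv 0 0) = (⟨l, hl⟩ : Fx K) • actV h (fv 0 0) := g.injective (by
      rw [E, lin, lin, E]
      ext <;> simp only [Db, Dc, Dd, Dy, smul_b, smul_c, smul_d, smul_y] <;> ring)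
    have := congrArg V8.b this
    simp only [actV_b, smul_b, fv_b, map_one, mul_one] at this
    exact mul_left_cancel₀ h.m.ne_zero (this.trans (mul_comm _ _))
  have pre : ∀ z : V8 K, z.c = 0 → z.y = 0 → Tr (z.d * A) = 0 → ∃ B, g (dv B) = z := fun z zc zy zt => by
    have e1 : hm K (g⁻¹ z) = g⁻¹ z := by
      rw [← au_mul, ← cg.inv_left.eq, au_mul, show hm K z = z by ext <;> simp [zc, zy]]
    have e2 := sim (s • cv) (g⁻¹ z)
    rw [e, au_apply_inv, show om (nv A 0) z = 0 by simp [om, mul_comm A, zt], om_smul_l, om_swap, om_cv] at e2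
    refine ⟨(g⁻¹ z).d, ?_⟩
    rw [← au_apply_inv g z, au_inv_apply]
    refine congrArg g (V8.ext ?_ ?_ rfl ?_)
    · have : (s : K) ≠ 0 := fun k => hs (Subtype.ext k)
      exact Eq.symm (by simpa [hμ, this] using e2)
    · exact ((mul_eq_zero.1 (show 2 * (g⁻¹ z).c = 0 by
        linear_combination -(hm_c _).symm.trans (congrArg V8.c e1))).resolve_left h2).symm
    · exact ((mul_eq_zero.1 (show 2 * (g⁻¹ z).y = 0 by
        linear_combination -(hm_y _).symm.trans (congrArg V8.y e1))).resolve_left h2).symm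
  have nz : ∀ B, g (dv B) ≠ 0 → B ≠ 0 := by
    rintro _ k rfl
    exact k (by rw [show dv (0 : K) = 0 from rfl, map_zero])
  obtain ⟨B1, e1⟩ := pre (fv 0 0) rfl rfl (by simp)
  have k1 : sh (h.l : K) * h.m * h.γ B1 = B1 + B1 + B1 + B1 := congrArg V8.d (g.injective (show g (actV h (dv B1)) =
    g (dv B1 + dv B1 + dv B1 + dv B1) by
      rw [E, map_add, map_add, map_add, e1]
      ext <;> simp [Db, Dc, Dd, Dy]
      norm_num))
  have n1 := nz B1 fun k => one_ne_zero (congrArg V8.b (e1.symm.trans k))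
  have fix : ∀ B, Tr (B * A) = 0 → ∃ B', g (dv B') = dv B ∧ sh (h.l : K) * h.m * h.γ B' = B' := fun B hB => by
    obtain ⟨B', e⟩ := pre (dv B) rfl rfl hB
    exact ⟨B', e, congrArg V8.d (g.injective (show g (actV h (dv B')) = g (dv B') by
      rw [E, e]
      ext <;> simp [Db, Dc, Dd, Dy]))⟩
  obtain ⟨B2, t2, n2⟩ := exists_perp A 0
  obtain ⟨B3, t3, n3⟩ := exists_perp A B2
  obtain ⟨C2, e2, k2⟩ := fix B2 t2
  obtain ⟨C3, e3, k3⟩ := fix B3 t3
  have m2 := nz C2 fun k => n2 0 sg_zero ((congrArg V8.d (e2.symm.trans k)).trans (zero_mul _).symm)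
  have m2' : h.γ C2 ≠ 0 := by simpa using m2
  have id := gal_one fx (t := C3 / C2) (fun k => n3 (γ (C3 / C2)) (sg_map γ k) (by
    have := lin ⟨_, k⟩ (dv C2)
    rw [show (⟨_, k⟩ : Fx K) • dv C2 = dv C3 by ext <;> simp [m2], e2, e3] at this
    exact congrArg V8.d this)) (by
      rw [map_div₀, div_eq_div_iff m2' m2]
      linear_combination h.γ C2 * k3 - h.γ C3 * k2)
  rw [id] at k1 k2
  exact h3 (mul_left_cancel₀ (mul_ne_zero n1 m2) (by linear_combination B1 * k2 - C2 * k1))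

end CL.TD
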