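/-
Project TD: not every point of a line through the base point lies in the orbit.
-/
import Cfsg.Agent.TD.Defs1

set_option autoImplicit false
set_option linter.unusedSectionVars false
set_option linter.unusedSimpArgs false

namespace CL.TD

open Cfsg CL.Fus CL.U5

universe u

namespace NFx

variable {K : Type u} [Field K] [TF K]

/-- the torus element with parameter two -/
def D2 (h2 : (2 : K) ≠ 0) : Au (V8 K) := actV (hb (Units.mk0 2 h2) (by simp))

theorem D2_b (h2 : (2 : K) ≠ 0) (v : V8 K) : (D2 h2 v).b = 2 ^ 2 * v.b := (hb_apply _ _ v).1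
theorem D2_c (h2 : (2 : K) ≠ 0) (v : V8 K) : (D2 h2 v).c = 2 * v.c := (hb_apply _ _ v).2.1
theorem D2_d (h2 : (2 : K) ≠ 0) (v : V8 K) : (D2 h2 v).d = v.d := (hb_apply _ _ v).2.2.1
theorem D2_y (h2 : (2 : K) ≠ 0) (v : V8 K) : (D2 h2 v).y = 2⁻¹ * v.y := (hb_apply _ _ v).2.2.2

theorem D2_smul (h2 : (2 : K) ≠ 0) (l : Fx K) (v : V8 K) : D2 h2 (l • v) = l • D2 h2 v := by
  ext <;> simp only [D2_b, D2_c, D2_d, D2_y, smul_b, smul_c, smul_d, smul_y] <;> ring

theorem D2_hm (h2 : (2 : K) ≠ 0) : Commute (D2 h2) (hm K) := au_ext fun v => by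
  ext <;> simp only [au_mul, D2_b, D2_c, D2_d, D2_y, hm_b, hm_c, hm_d, hm_y] <;> ring

theorem shift {p : ℕ} [Fact p.Prime] [CharP K p] {e : Au (V8 K)} {A : K} {δ : Fx K} (hA : A ≠ 0) (hδ : δ ≠ 0)
    (hp : ∀ m k, (e ^ m) ^ p ^ k = 1 → e ^ m = 1) (h1 : ∀ l : Fx K, e (l • nv A 0) = l • nv A 0)
    (h2 : e cv = cv + δ • nv A 0) : False := by
  have h3 : ∀ n : ℕ, (e ^ n) cv = cv + ((n : Fx K) * δ) • nv A 0 := fun n => by
    induction n with
    | zero => rw [pow_zero, au_one, Nat.cast_zero, zero_mul, zero_smul, add_zero]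
    | succ n ih => rw [pow_succ', au_mul, ih, map_add, h1, h2, Nat.cast_succ, add_mul, one_mul, add_smul]; abel
  obtain ⟨j, m, hm, ho⟩ := Nat.exists_eq_pow_mul_and_not_dvd (orderOf_pos e).ne' p (Fact.out : p.Prime).ne_one
  have h4 := congrArg V8.c (h3 m)
  rw [hp m j (by rw [← pow_mul, mul_comm, ← ho, pow_orderOf_eq_one]), au_one] at h4
  have h5 : (m : K) * δ * A = 0 := by simpa using h4.symm
  rcases mul_eq_zero.1 ((mul_eq_zero.1 h5).resolve_right hA) with h | h
  · exact hm ((CharP.cast_eq_zero_iff K p m).1 h)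
  · exact hδ (Subtype.ext h)

end NFx

open NFx

variable (K : Type u) [Field K] [TF K]

theorem nf1 (ni : NI K) (np : NP K) (nd : ND K) : NF K := by
  intro p _ _ L h h2 h3 A hA hO
  have hw := nd p L h h2 h3 A hA
  obtain ⟨g, hg, gc, s, hs, gu⟩ := ni p L h h2 _ (hO 1 one_ne_zero) (by ext <;> simp)
  obtain ⟨γ, μ, -, -, gs, -⟩ := h.sem g hg
  have hD : D2 h2 ∈ L := h.tor _ _
  set k := g * D2 h2 * g⁻¹ with hk
  have kL : k ∈ L := mul_mem (mul_mem hg hD) (inv_mem hg)
  have kg : ∀ v, k (g v) = g (D2 h2 v) := fun v => by rw [hk, au_mul, au_mul, au_inv_apply]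
  have ks : ∀ (l : Fx K) v, k (l • v) = l • k v := fun l v => by
    obtain ⟨l, rfl⟩ := fxm_surj γ l
    rw [← au_apply_inv g v, ← gs, kg, kg, D2_smul, gs]
  have ku : k (nv A 1) + k (nv A 1) = nv A 1 := by
    rw [← gu, kg, ← map_add]
    congr 1
    ext <;> simp only [D2_b, D2_c, D2_d, D2_y, add_b, add_c, add_d, add_y, smul_b, smul_c, smul_d, smul_y, cv_b, cv_c,
      cv_d, cv_y] <;> field_simp <;> ring
  obtain ⟨m, kw⟩ : ∃ m : Fx K, k (nv A 0) = nv A 0 + nv A 0 + m • nv A 1 := by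
    have hz : hm K (g⁻¹ (nv A 0)) = -g⁻¹ (nv A 0) := by
      rw [← au_mul, ← gc.inv_left.eq, au_mul, ← map_neg]
      congr 1
      ext <;> simp
    generalize hz' : g⁻¹ (nv A 0) = z at hz
    have e : nv A 0 = g z := by rw [← hz', au_apply_inv]
    have zb : z.b = 0 := (mul_eq_zero.1 (show 2 * z.b = 0 by
      have := congrArg V8.b hz; rw [hm_b, neg_b] at this; linear_combination this)).resolve_left h2
    have zd : z.d = 0 := (mul_eq_zero.1 (show 2 * z.d = 0 by
      have := congrArg V8.d hz; rw [hm_d, neg_d] at this; linear_combination this)).resolve_left h2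
    obtain ⟨t, ht⟩ := inC_iff.1 (show InC (D2 h2 z - (z + z)) from
      ⟨by simp [D2_b, zb], by simp only [sub_c, add_c, D2_c]; ring, by simp [D2_d, zd]⟩)
    refine ⟨fxm γ (t / s), ?_⟩
    rw [e, kg, ← gu, ← gs, smul_smul, div_mul_cancel₀ _ hs, ← ht, ← map_add, ← map_add, add_sub_cancel]
  have m0 : m = 0 := by
    by_contra hm
    refine hw ?_
    rw [← au_inv_apply k (nv A 0), kw]
    refine OV.map ?_ (inv_mem kL)
    have h6 : ((2 + m : Fx K) : K) = 2 + m := by norm_cast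
    by_cases h4 : 2 + m = 0
    · have h5 : (2 : K) + m = 0 := h6.symm.trans (congrArg Subtype.val h4)
      convert ov_cv L hm using 1
      ext <;> simp
      linear_combination A * h5
    · have h5 : (2 : K) + m ≠ 0 := fun e => h4 (Subtype.ext (h6.trans e))
      convert h.toH0.ov_smul (hO (m / (2 + m)) (div_ne_zero hm h4)) h4 using 1
      ext <;> simp [h6]
      · ring
      · field_simp
  rw [m0, zero_smul, add_zero] at kw
  have kw' : k (nv A 0) = D2 h2 (nv A 0) := by
    rw [kw]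
    ext <;> simp [D2_b, D2_c, D2_d, D2_y, two_mul]
  have kc : Commute k (hm K) := (gc.mul_left (D2_hm h2)).mul_left gc.inv_left
  let δ : Fx K := ⟨-3 / 2 ^ 2, by simp [mem_Fx]⟩
  have hδ : (δ : K) = -3 / 2 ^ 2 := rfl
  refine shift (p := p) (e := (D2 h2)⁻¹ * k) (δ := δ) hA
    (fun e => div_ne_zero (neg_ne_zero.2 h3) (pow_ne_zero 2 h2) (congrArg Subtype.val e))
    (fun m j => np p L h h2 _ (pow_mem (mul_mem (inv_mem hD) kL) m) (((D2_hm h2).inv_left.mul_left kc).pow_left m) j)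
    (fun l => by rw [au_mul, ks, kw', ← D2_smul, au_inv_apply]) ?_
  rw [au_mul, ← au_inv_apply (D2 h2) (cv + δ • nv A 0)]
  congr 1
  have e : (cv : V8 K) = nv A 1 - nv A 0 := by ext <;> simp
  have hb := congrArg V8.b ku
  have hc := congrArg V8.c ku
  have hd := congrArg V8.d ku
  have hy := congrArg V8.y ku
  rw [congrArg k e, map_sub, kw]
  simp only [add_b, add_c, add_d, add_y, nv_b, nv_c, nv_d, nv_y, OneMemClass.coe_one] at hb hc hd hy
  ext <;> simp [D2_b, D2_c, D2_d, D2_y, hδ]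
  · exact (mul_eq_zero.1 (show 2 * (k (nv A 1)).b = 0 by linear_combination hb)).resolve_left h2
  · field_simp
    linear_combination hc
  · exact (mul_eq_zero.1 (show 2 * (k (nv A 1)).d = 0 by linear_combination hd)).resolve_left h2
  · field_simp
    linear_combination hy

end CL.TD
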