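/-
Project TD: conjugates of the involution `hm` keeping the line `C`.
-/
import Cfsg.Agent.TD.Defs1

set_option autoImplicit false
set_option linter.unusedSectionVars false

namespace CL.TD

open Cfsg CL.Fus CL.U5

universe u

namespace NIx

variable {K : Type u} [Field K] [TF K]

/-- an involutory automorphism fixing the fixed field is trivial -/
theorem gal2 {γ : K ≃+* K} (h : ∀ l, sg l = l → γ l = l) (h2 : ∀ x, γ (γ x) = x) (t : K) : γ t = t := by
  by_contra ht
  have hs : sg (t + γ t) = t + γ t := by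
    by_contra e
    exact ht (gal_one h e (by rw [map_add, h2, add_comm]) t)
  have hn : sg (t * γ t) = t * γ t := by
    by_contra e
    exact ht (gal_one h e (by rw [map_mul, h2, mul_comm]) t)
  have h1 : sg t ≠ t := fun e => ht (h t e)
  generalize γ t = r at hs hn
  have e0 : t * t - (t + r) * t + t * r = 0 := by ring
  generalize t + r = s at hs e0
  generalize t * r = n at hn e0
  have e1 := congrArg sg e0
  simp only [sg_add, sg_sub, sg_mul, sg_zero, hs, hn] at e1
  have e2 := congrArg sg e1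
  simp only [sg_add, sg_sub, sg_mul, sg_zero, hs, hn] at e2
  have h3 : sg (sg t) - sg t ≠ 0 := sub_ne_zero.2 fun e => h1 (sg_inj e)
  have a1 : sg t + t = s := sub_eq_zero.1 (mul_left_cancel₀ (sub_ne_zero.2 h1) (by linear_combination e1 - e0))
  have a2 : sg (sg t) + sg t = s := sub_eq_zero.1 (mul_left_cancel₀ h3 (by linear_combination e2 - e1))
  exact sg2_ne h1 (by linear_combination a2 - a1)

theorem key (h2 : (2 : K) ≠ 0) {g : Au (V8 K)} (hg : Sem g) {a : K} {h : Par K}
    (e : g⁻¹ * hm K * g = Mt a * actV h) : (∀ x, h.γ x = x) ∧ (h.l : K) = -1 := by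
  obtain ⟨γ, μ, hμ, -, hl, ho⟩ := hg
  have hk : ∀ v, g (Mt a (actV h v)) = hm K (g v) := fun v => by
    rw [← au_mul (Mt a), ← e, au_mul, au_mul, au_apply_inv]
  have hm0 := h.m.ne_zero
  have k1 : ∀ (l : Fx K) v, Mt a (actV h (l • v)) = l • Mt a (actV h v) := fun l v =>
    g.injective (by rw [hk, hl, hl, hk, hm_smul])
  have k2 : ∀ v, Mt a (actV h (Mt a (actV h v))) = v := fun v =>
    g.injective (by rw [hk, hk, ← au_mul, hm_hm, au_one])
  have k3 : ∀ u v, om (actV h u) (actV h v) = -om u v := fun u v => by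
    have := ho (Mt a (actV h u)) (Mt a (actV h v))
    rw [hk, hk, om_hm, ho, om_Mt] at this
    apply γ.injective
    rw [map_neg]
    exact mul_left_cancel₀ hμ (by linear_combination -this)
  have f1 : ∀ l, sg l = l → h.γ l = l := fun l hl' => by
    have := congrArg V8.b (k1 ⟨l, hl'⟩ (fv 0 0))
    simp only [Mt_b, actV_b, smul_b, fv_b, mul_one, map_one] at this
    exact mul_left_cancel₀ hm0 (by linear_combination this)
  have f2 : (h.m : K) * h.m = 1 := by
    have := congrArg V8.b (k2 (fv 0 0))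
    simpa [f1 _ h.hm] using this
  have f3 : ∀ A, (h.l : K) * h.m * (h.γ (h.l * h.m) * h.γ (h.γ A)) = A := fun A => by
    have := congrArg V8.c (k2 (nv A 0))
    simp only [Mt_c, Mt_b, actV_b, actV_c, nv_b, nv_c, map_zero, mul_zero, zero_mul, add_zero] at this
    rwa [map_mul] at this
  have f4 := f3 1
  rw [map_one, map_one, mul_one] at f4
  have f5 : ∀ x, h.γ x = x := gal2 f1 fun x => by
    have := f3 x
    rwa [← mul_assoc, f4, one_mul] at this
  refine ⟨f5, ?_⟩
  rw [f5] at f4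
  have f6 : (h.l : K) * h.l = 1 := by linear_combination f4 - (h.l : K) * h.l * f2
  have f7 := k3 cv (fv 0 0)
  rw [om_actV, f5] at f7
  rcases mul_self_eq_one_iff.1 f6 with e1 | e1
  · exfalso
    rw [e1, Nr_one, pow_two, f2] at f7
    have : om (cv : V8 K) (fv 0 0) = 1 := by simp [om]
    rw [this] at f7
    exact h2 (by linear_combination f7)
  · exact e1

end NIx

variable (K : Type u) [Field K] [TF K]

theorem ni : NI K := by
  intro p _ _ L H h2 u hu hmu
  obtain ⟨g, hg, s, hs, rfl⟩ := hu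
  have hk : g⁻¹ * hm K * g ∈ L := mul_mem (mul_mem (inv_mem hg) H.toH1.hm_mem) hg
  have e0 : (g⁻¹ * hm K * g) (s • cv) = -(s • cv) := by
    rw [au_mul, au_mul, hmu, map_neg, au_inv_apply]
  have hP : PL (g⁻¹ * hm K * g) := (H.sem _ hk).PL_of hs (by rw [e0]; simp [InC])
  obtain ⟨a, h, -, e⟩ := H.std _ hk hP
  obtain ⟨f1, f2⟩ := NIx.key h2 (H.sem g hg) e
  have f3 : (h.m : K) = 1 := by
    have := congrArg V8.y e0
    rw [e, au_mul] at this
    simp only [Mt_y, actV_b, actV_c, actV_d, actV_y, smul_b, smul_c, smul_d, smul_y, cv_b, cv_c, cv_d, cv_y, neg_y, f1,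
      f2, mul_zero, zero_mul, Tr_zero, add_zero, mul_one, Nr_neg, Nr_one] at this
    have hs' : (s : K) ≠ 0 := fun e => hs (Subtype.ext e)
    exact mul_right_cancel₀ hs' (by linear_combination -this)
  have f4 : actV h = hm K := au_ext fun v => by ext <;> simp [f1, f2, f3]
  rw [f4] at e
  refine ⟨g * Mt (a / 2), mul_mem hg (H.toH0.mt _), ?_, s, hs, by rw [au_mul, Mt_cv]⟩
  have e1 : hm K * g = g * (Mt a * hm K) := by rw [← e]; group
  have e2 : hm K * Mt (a / 2) = Mt (-(a / 2)) * hm K := hm_Mt _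
  have e3 : Mt a * Mt (-(a / 2)) = Mt (a / 2) := by
    rw [← Mt_add]; congr 1; field_simp; ring
  rw [Commute, SemiconjBy, ← mul_assoc, e1, mul_assoc, mul_assoc, mul_assoc, e2, ← mul_assoc (Mt a), e3]

theorem np : NP K := by
  intro p _ _ L H h2 e he hc k hk
  have hP : IsPGroup p (Subgroup.zpowers e) := by
    rintro ⟨_, n, rfl⟩
    refine ⟨k, Subtype.ext ?_⟩
    show (e ^ n) ^ p ^ k = 1
    rw [← zpow_natCast, ← zpow_mul, mul_comm, zpow_mul, zpow_natCast, hk, one_zpow]
  obtain ⟨y, hy, h1⟩ := H.syl.exists_conj_le hP ((Subgroup.zpowers_le).2 he)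
  obtain ⟨a, ha⟩ := h1 e (Subgroup.mem_zpowers e)
  by_cases a0 : a = 0
  · rw [a0, Mt_zero] at ha
    exact conj_eq_one_iff.1 ha.symm
  exfalso
  have hk : y⁻¹⁻¹ * hm K * y⁻¹ ∈ L := mul_mem (mul_mem (inv_mem (inv_mem hy)) H.toH1.hm_mem) (inv_mem hy)
  have e0 : (y⁻¹⁻¹ * hm K * y⁻¹) * Mt a = Mt a * (y⁻¹⁻¹ * hm K * y⁻¹) := by
    rw [ha, inv_inv]
    calc y * hm K * y⁻¹ * (y * e * y⁻¹) = y * (hm K * e) * y⁻¹ := by group
      _ = y * (e * hm K) * y⁻¹ := by rw [hc.eq]
      _ = _ := by group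
  have hPL := (H.ti _ hk a a a0 (by rw [e0, mul_inv_cancel_right])).1
  obtain ⟨b, h, -, e1⟩ := H.std _ hk hPL
  obtain ⟨f1, f2⟩ := NIx.key h2 (H.sem _ (inv_mem hy)) e1
  rw [e1, mul_assoc, actV_Mt, ← mul_assoc, ← mul_assoc, ← Mt_add, ← Mt_add, f1, f2] at e0
  have := Mt_inj (mul_right_cancel e0)
  exact a0 (mul_left_cancel₀ h2 (by linear_combination -this))

end CL.TD
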