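/-
Project TD: two perpendicular points.
-/
import Cfsg.Agent.TD.Defs1

set_option autoImplicit false
set_option linter.unusedSectionVars false

namespace CL.TD

open Cfsg CL.Fus CL.U5

universe u

theorem NKx.all {F : Type*} [Field F] [Finite F] (S : F → Prop) (h0 : ¬ S 0) (hs : ∀ b l, S b → l ≠ 0 → S (l ^ 2 * b))
    {β κ : F} (hβ : S β) (hκ : κ ≠ 0) (h : ∀ l, l ≠ 0 → S (β + l ^ 2 * κ)) (b : F) (hb : b ≠ 0) : S b := by
  classical
  have := Fintype.ofFinite F
  by_contra hS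
  have hne : ∀ x, S x → x ≠ 0 := fun x hx e => h0 (e ▸ hx)
  have h1 : ∀ x, S x → quadraticChar F b * quadraticChar F x = -1 := fun x hx => by
    rw [← map_mul, quadraticChar_neg_one_iff_not_isSquare]
    rintro ⟨l, hl⟩
    have hx0 := hne x hx
    have hl0 : l ≠ 0 := by rintro rfl; exact mul_ne_zero hb hx0 (by simpa using hl)
    have := hs x (l / x) hx (div_ne_zero hl0 hx0)
    rw [show (l / x) ^ 2 * x = b by field_simp; linear_combination -hl] at this
    exact hS this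
  have h2 : ∀ x, S x → IsSquare (x * β) := fun x hx => by
    rw [← quadraticChar_one_iff_isSquare (mul_ne_zero (hne x hx) (hne β hβ)), map_mul]
    have := quadraticChar_sq_one hb
    linear_combination (quadraticChar F b * quadraticChar F β) * h1 x hx - h1 β hβ -
      quadraticChar F x * quadraticChar F β * this
  have h3 : ∀ s : {s : F // s ≠ 0 ∧ IsSquare s}, S (β + s * κ) := by
    rintro ⟨_, hs0, l, rfl⟩
    simpa [pow_two] using h l (by rintro rfl; simp at hs0)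
  obtain ⟨s, e⟩ := Finite.surjective_of_injective
    (f := fun s : {s : F // s ≠ 0 ∧ IsSquare s} =>
      (⟨(β + s * κ) * β, mul_ne_zero (hne _ (h3 s)) (hne β hβ), h2 _ (h3 s)⟩ : {s : F // s ≠ 0 ∧ IsSquare s}))
    (fun s t e => Subtype.ext (mul_right_cancel₀ hκ (add_left_cancel
      (mul_right_cancel₀ (hne β hβ) (congrArg Subtype.val e)))))
    ⟨β * β, mul_ne_zero (hne β hβ) (hne β hβ), β, rfl⟩
  have := mul_right_cancel₀ (hne β hβ) (congrArg Subtype.val e)
  exact mul_ne_zero s.2.1 hκ (add_eq_left.1 this)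

variable (K : Type u) [Field K] [TF K]

theorem ne1 (nd : ND K) (nf : NF K) : NE K := by
  intro p _ _ L h h2 h3 A β hA hβ κ hκ
  by_contra hk
  refine nf p L h h2 h3 A hA (NKx.all (fun b => OV L (nv A b)) (nd p L h h2 h3 A hA) (fun b l hb hl => ?_) hβ hk hκ)
  have hl' : (l : K) ≠ 0 := fun e => hl (Subtype.ext e)
  have h1 := h.toH0.ov_smul (hb.map (h.tor (Units.mk0 (l : K)⁻¹ (inv_ne_zero hl')) (by simp))) hl
  obtain ⟨e1, e2, e3, e4⟩ := hb_apply (Units.mk0 (l : K)⁻¹ (inv_ne_zero hl')) (by simp) (nv A b)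
  convert h1 using 1
  ext
  · rw [smul_b, e1]; simp
  · rw [smul_c, e2]; simp [hl']
  · rw [smul_d, e3]; simp
  · rw [smul_y, e4]; simp; ring

theorem nk (ni : NI K) (fam : FAM K) (ne : NE K) : NK K := by
  intro p _ _ L h h2 h3 u w y t t' Q Q' hu hw hy huw hne hQ ht ht' htw ht'u
  have hT : ∀ {x s}, Tp L x s → s ∈ L ∧ Iso s ∧ OV L x := by
    rintro _ _ ⟨g, hg, s, hs, e, a, rfl⟩
    exact ⟨mul_mem (mul_mem hg (h.toH0.mt a)) (inv_mem hg), h.toH0.iso hg a, g, hg, s, hs, e⟩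
  have ou := (hT ht).2.2
  have ow := (hT ht').2.2
  have hne' : ∀ l : Fx K, u ≠ l • w := fun l e => by
    have hl : l ≠ 0 := by rintro rfl; exact ou.ne (by rw [e, zero_smul])
    exact hne l⁻¹ (by rw [e, inv_smul_smul₀ hl])
  by_contra hQQ
  have hε : 1 - Q' / Q ≠ 0 := fun e => hQQ (by field_simp at e; linear_combination e)
  have key : ∀ l : Fx K, l ≠ 0 → OV L (w + (l ^ 2 * (Q / (1 - Q' / Q))) • u) := fun l hl => by
    obtain ⟨t1, a1, -, a3, -⟩ := (fam p L h h2 u w y hu hw hy huw hne).2 t Q ht htw l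
    obtain ⟨t2, b1, b2, b3, b4⟩ := (fam p L h h2 w u y hw hu hy (by rw [om_swap, huw, neg_zero]) hne').2 t' Q' ht' ht'u
      (-(l * Q)⁻¹)
    have h1 := h.toH0.ov_smul ((ow.map (hT a1).1).map (hT b1).1) (inv_ne_zero hε)
    rw [a3, map_add, map_add, (hT b1).2.1.smul, (hT b1).2.1.smul, b2, b3, b4] at h1
    convert h1 using 1
    generalize hε' : 1 - Q' / Q = ε at hε
    have e : Q' = Q * (1 - ε) := by rw [← hε']; field_simp; ring
    rw [e]
    match_scalars <;> field_simp <;> ring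
  obtain ⟨g, hg, hc, s, hs, rfl⟩ := ni p L h h2 u ou hu
  have hw' : hm K (g⁻¹ w) = -g⁻¹ w := by rw [← au_mul, ← hc.inv_left.eq, au_mul, hw, map_neg]
  have hb : (g⁻¹ w).b = 0 :=
    (mul_eq_zero.1 (by linear_combination (by simpa using congrArg V8.b hw' : (g⁻¹ w).b = -(g⁻¹ w).b))).resolve_left h2
  have hd : (g⁻¹ w).d = 0 :=
    (mul_eq_zero.1 (by linear_combination (by simpa using congrArg V8.d hw' : (g⁻¹ w).d = -(g⁻¹ w).d))).resolve_left h2
  obtain ⟨A, β, e⟩ : ∃ A β, g⁻¹ w = nv A β := ⟨(g⁻¹ w).c, ⟨_, (g⁻¹ w).hy⟩, V8.ext hb rfl hd rfl⟩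
  have hA : A ≠ 0 := by
    rintro rfl
    obtain ⟨γ, -, -, -, k, -⟩ := h.sem g hg
    refine hne (fxm γ (β / s)) ?_
    rw [← k, smul_smul, div_mul_cancel₀ _ hs, ← au_apply_inv g w, e]
    congr 1
    ext <;> simp
  obtain ⟨γ, -, -, -, k, -⟩ := h.sem _ (inv_mem hg)
  refine mul_ne_zero (fxm_ne γ (div_ne_zero hQ hε)) hs
    (ne p L h h2 h3 A β hA (e ▸ ow.map (inv_mem hg)) _ fun l0 hl0 => ?_)
  obtain ⟨l, rfl⟩ := fxm_surj γ l0
  have h1 := (key l (by rintro rfl; exact hl0 (Subtype.ext (by simp)))).map (inv_mem hg)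
  rw [map_add, k, au_inv_apply, e] at h1
  convert h1 using 1
  generalize Q / (1 - Q' / Q) = r
  ext <;> simp [mul_assoc]

end CL.TD
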