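/-
Project TD, part RX: an isometry in `L` exchanging the line `C` and the far point.
-/
import Cfsg.Agent.TD.Defs1

set_option autoImplicit false
set_option linter.unusedSectionVars false

namespace CL.TD

open Cfsg CL.Fus CL.U5

universe u

variable (K : Type u) [Field K] [TF K]

theorem rx : RX K := by
  intro p _ _ L h B hF
  have h0 : H0 p L := h.toH2.toH1.toH0
  obtain ⟨hOe, hfar⟩ := hF
  obtain ⟨g, hg, s, hs, he⟩ := id hOe
  obtain ⟨γ, μ, -, -, k, -⟩ := h0.sem g hg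
  set e : V8 K := fv B 0 with he0
  have eb : e.b = 1 := rfl
  have ec : e.c = 0 := rfl
  have ey : e.y = 0 := rfl
  have TL : ∀ x, g * Mt x * g⁻¹ ∈ L := fun x => mul_mem (mul_mem hg (h0.mt x)) (inv_mem hg)
  have TI : ∀ x, Iso (g * Mt x * g⁻¹) := h0.iso hg
  have Te : ∀ x, (g * Mt x * g⁻¹ : Au (V8 K)) e = e := fun x => by
    rw [au_mul, au_mul, ← he, au_inv_apply, Mt_cv]
  have gC : ∀ w, InC (g⁻¹ w) → ∃ m : Fx K, w = m • e := fun w hw => by
    obtain ⟨t, ht⟩ := inC_iff.1 hw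
    refine ⟨fxm γ (t / s), ?_⟩
    rw [← he, ← k, smul_smul, div_mul_cancel₀ _ hs, ← ht, au_apply_inv]
  have cne : ∀ m : Fx K, cv ≠ m • e := fun m hm => by
    have := congrArg V8.y hm
    rw [smul_y, ey, mul_zero, cv_y] at this
    exact one_ne_zero this
  have oc : OV L cv := by simpa using ov_cv L (one_ne_zero (α := Fx K))
  obtain ⟨b, l, hl, hb⟩ := (hfar _ (oc.map (inv_mem hg))).resolve_left fun hc => by
    obtain ⟨m, hm⟩ := gC _ hc
    exact cne m hm
  have hl' : (l : K) ≠ 0 := fun e => hl (Subtype.ext e)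
  obtain ⟨a, l1, hl1, ha⟩ := (hfar _ (oc.map (TL 1))).resolve_left fun hc => by
    obtain ⟨m, hm⟩ := inC_iff.1 hc
    obtain ⟨m', rfl⟩ := fxm_surj γ m
    rw [au_mul, au_mul, ← au_apply_inv g cv, au_inv_apply, ← k, hb] at hm
    have hm' := g.injective hm
    have e1 := congrArg V8.b hm'
    have e2 := congrArg V8.c hm'
    simp only [Mt_b, Mt_c, smul_b, smul_c, eb, ec] at e1 e2
    exact hl' (by linear_combination e2 - b * e1)
  have ha0 : a ≠ 0 := by
    rintro rfl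
    rw [Mt_zero, au_one, ← Te 1, ← (TI 1).smul] at ha
    exact cne l1 ((g * Mt 1 * g⁻¹ : Au (V8 K)).injective ha)
  obtain ⟨b', l2, -, hb'⟩ := (hfar _ ((hOe.map (h0.mt (-a))).map (inv_mem hg))).resolve_left fun hc => by
    obtain ⟨m, hm⟩ := gC _ hc
    have e2 := congrArg V8.c hm
    simp only [Mt_c, smul_c, eb, ec] at e2
    exact ha0 (by linear_combination -e2)
  refine ⟨g * Mt (b - b') * g⁻¹ * (Mt (-a) * (g * Mt 1 * g⁻¹)), mul_mem (TL _) (mul_mem (h0.mt _) (TL _)),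
    (TI _).mul (Iso.mul (om_Mt _) (TI _)), l1, hl1, ?_, ?_⟩
  · rw [au_mul, au_mul (Mt (-a)), ha, Mt_smul, ← au_mul (Mt (-a)), ← Mt_add, neg_add_cancel, Mt_zero, au_one,
      (TI _).smul, Te]
  · rw [au_mul, au_mul (Mt (-a)), Te, au_mul, au_mul, hb', Mt_smul, ← au_mul (Mt (b - b')), ← Mt_add, sub_add_cancel,
      show l2 • Mt b e = (l2 / l) • l • Mt b e by rw [smul_smul, div_mul_cancel₀ _ hl], ← hb, k, au_apply_inv]
    exact inC_iff.2 ⟨_, rfl⟩

end CL.TD
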