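/-
Project TD: the action of `Aut(Q1)` on `Q1 / Z` (job TD1-RHO1).
-/
import Cfsg.Agent.TD.Defs1

set_option autoImplicit false
set_option linter.unusedSectionVars false

namespace CL.TD

open Cfsg CL.Fus CL.U5
open scoped commutatorElement

universe u

variable (K : Type u) [Field K] [TF K]

namespace Rho1x

variable {K}

theorem cm (x y : Q1 K) : ⁅x, y⁆ = ⟨xz (om (pV (x : U K)) (pV (y : U K))) (sg_om _ _), rfl⟩ := by
  have h := comm_Q1 x.2 y.2
  exact Subtype.ext (U.ext h.1 h.2.1 h.2.2.1 h.2.2.2.1 h.2.2.2.2 (comm_z_Q1 x.2 y.2))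

theorem sq (h2 : (2 : K) = 0) (x : Q1 K) : Qf (pV (x : U K)) = 0 ↔ x * x = 1 := by
  have ha := mem_Q1.1 x.2
  have t : ∀ a : K, a + a = 0 := fun a => by linear_combination a * h2
  rw [Subtype.ext_iff, Subgroup.coe_mul, Subgroup.coe_one, eq_one_iff]
  simp only [mul_a, mul_b, mul_c, mul_d, mul_y, mul_z, ha, t, mul_zero, add_zero, cr_zero_r, sh_zero, Nr_zero, Tr_zero,
    sub_zero, true_and, zero_add, Qf, pV]
  exact ⟨fun h => by linear_combination h - t (Tr ((x : U K).c * (x : U K).d)),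
    fun h => by linear_combination h + t (Tr ((x : U K).c * (x : U K).d))⟩

end Rho1x

open Rho1x in
theorem rho1 (com : COM K) : RHO1 K := by
  classical
  obtain ⟨ρ, h1, h2⟩ := rhoG (fun x : Q1 K => pV (x : U K)) (fun x y => pV_mul x.2 _) pV_surj
    fun x => (pV_eq_zero x.2).trans (com.2.1 x).symm
  refine ⟨ρ, h1, fun α => ⟨fun s => if h : sg s = s then (α ⟨xz s h, rfl⟩ : U K).z else 0, fun u v => ?_,
    fun e v hv => ?_⟩, fun p _ _ => h2 ▸ Cd_pg ((pg p).to_subgroup _)⟩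
  · obtain ⟨x, rfl⟩ := pV_surj u
    obtain ⟨y, rfl⟩ := pV_surj v
    beta_reduce
    rw [dif_pos (sg_om _ _), ← cm, map_commutatorElement, ← h1, ← h1, cm]
    rfl
  · obtain ⟨x, rfl⟩ := pV_surj v
    rw [← h1, sq e, ← map_mul, (sq e x).1 hv, map_one]

end CL.TD
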