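/-
Project TD: the action of `Aut(Q2)` on `Q2 / Z3`.
-/
import Cfsg.Agent.TD.Fld

set_option autoImplicit false
set_option linter.unusedSectionVars false

namespace CL.TD

open Cfsg CL.Fus CL.U5
open scoped commutatorElement

universe u

variable {K : Type u} [Field K] [TF K]

namespace Rho2x

theorem z2 (x : Q2 K) : (x : U K) ∈ Z2 K ↔ ∀ y : Q2 K, ⁅x, y⁆ = 1 := by
  refine ⟨fun h y => Subtype.ext (commutatorElement_eq_one_iff_commute.2
    (commutatorElement_eq_one_iff_commute.1 (comm_Q2_Z2 y.2 h)).symm), fun h => ?_⟩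
  have hb := mem_Q2.1 x.2
  have k : ∀ y ∈ Q2 K, ⁅(x : U K), y⁆ = 1 := fun y hy => congrArg Subtype.val (h ⟨y, hy⟩)
  have ha : (x : U K).a = 0 := cr_nondeg fun t => by simpa [xc] using congrArg U.d (k (xc t) rfl)
  have hc : (x : U K).c = 0 := cr_nondeg fun t => by
    rw [cr_comm]; simpa [xa, hb] using congrArg U.d (k (xa t) rfl)
  refine ⟨ha, hb, hc, Tr_nondeg fun t => ?_⟩
  rw [mul_comm]
  simpa [xa, ha, hb, hc] using congrArg U.y (k (xa t) rfl)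

theorem aut_z2 (α : MulAut (Q2 K)) {x : Q2 K} (h : (x : U K) ∈ Z2 K) : (α x : U K) ∈ Z2 K :=
  (z2 _).2 fun y => by rw [← MulEquiv.apply_symm_apply α y, ← map_commutatorElement, (z2 x).1 h, map_one]

/-- every element of `Z2` is a commutator of `x` with an element of `Z3` -/
def P (x : Q2 K) : Prop := ∀ w : Q2 K, (w : U K) ∈ Z2 K → ∃ e : Q2 K, (e : U K) ∈ Z3 K ∧ ⁅x, e⁆ = w

theorem yz (x : Q2 K) {e : U K} (he : e ∈ Z3 K) :
    ⁅(x : U K), e⁆.y = Tr (e.d * (x : U K).a) ∧ ⁅(x : U K), e⁆.z = Tr ((x : U K).c * e.d) := by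
  simp [he.1, he.2.1, he.2.2, mem_Q2.1 x.2]

theorem not_P {x : Q2 K} (h : Dep (pW (x : U K))) : ¬ P x := fun hp => by
  rcases dep_iff.1 h with (ha : (x : U K).a = 0) | ⟨k, hk, (hc : (x : U K).c = k * (x : U K).a)⟩
  · obtain ⟨e, he, e1⟩ := hp ⟨xy 1 sg_one, rfl⟩ ⟨rfl, rfl, rfl, rfl⟩
    have := (congrArg (fun g : Q2 K => (g : U K).y) e1).symm.trans (yz x he).1
    simp [xy, ha] at this
  · obtain ⟨e, he, e1⟩ := hp ⟨xz 1 sg_one, rfl⟩ ⟨rfl, rfl, rfl, rfl⟩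
    have a : (0 : K) = _ := (congrArg (fun g : Q2 K => (g : U K).y) e1).symm.trans (yz x he).1
    have b : (1 : K) = _ := (congrArg (fun g : Q2 K => (g : U K).z) e1).symm.trans (yz x he).2
    rw [hc, mul_assoc, Tr_smul hk, mul_comm (x : U K).a, ← a, mul_zero] at b
    exact one_ne_zero b

theorem is_P {x : Q2 K} (h : ¬ Dep (pW (x : U K))) : P x := fun w hw => by
  have ha : (x : U K).a ≠ 0 := fun e => h (dep_iff.2 (.inl e))
  have hk : sg ((x : U K).c / (x : U K).a) ≠ (x : U K).c / (x : U K).a := fun e =>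
    h (dep_iff.2 (.inr ⟨_, e, (div_mul_cancel₀ _ ha).symm⟩))
  obtain ⟨d, hd⟩ := exists_Tr ha (w : U K).hy
  obtain ⟨u, hu⟩ := exists_Tr (s := (w : U K).z - Tr ((x : U K).c * d)) (sub_ne_zero.2 (sg2_ne hk).symm) (by simp)
  have he : xd (d + (u - sg u) / (x : U K).a) ∈ Z3 K := ⟨rfl, rfl, rfl⟩
  have h2 := comm_mem_Z2 (x : U K) he
  refine ⟨⟨_, he.2.1⟩, he, Subtype.ext (U.ext (h2.1.trans hw.1.symm) (h2.2.1.trans hw.2.1.symm)
    (h2.2.2.1.trans hw.2.2.1.symm) (h2.2.2.2.trans hw.2.2.2.symm) ((yz x he).1.trans ?_) ((yz x he).2.trans ?_))⟩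
  · show Tr ((d + (u - sg u) / (x : U K).a) * (x : U K).a) = _
    rw [add_mul, div_mul_cancel₀ _ ha, Tr_add, hd]
    simp only [Tr, sg_sub, sg3]; ring
  · show Tr ((x : U K).c * (d + (u - sg u) / (x : U K).a)) = _
    rw [mul_add, Tr_add, ← mul_div_assoc, mul_div_right_comm]
    generalize (x : U K).c / (x : U K).a = k at hu
    simp only [Tr, sg_sub, sg_mul, sg3] at hu ⊢
    linear_combination hu

end Rho2x

open Rho2x in
theorem rho2 (h : COM K) : RHO2 K := by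
  obtain ⟨ρ, h1, h2⟩ := rhoG (fun x : Q2 K => pW (x : U K)) (fun x y => pW_mul _ y.2) pW_surj
    fun x => (pW_eq_zero x.2).trans (h.2.2 x).symm
  refine ⟨ρ, h1, fun α v hv => ?_, fun p _ _ => h2 ▸ Cd_pg ((pg p).to_subgroup _)⟩
  obtain ⟨x, rfl⟩ := pW_surj v
  rw [← h1]
  by_contra hn
  refine not_P hv fun w hw => ?_
  obtain ⟨e, he, e1⟩ := is_P hn (α w) (aut_z2 α hw)
  refine ⟨α⁻¹ e, (h.2.2 _).1 (aut_comm _ ((h.2.2 _).2 he)), α.injective ?_⟩
  rw [map_commutatorElement, MulAut.apply_inv_self, e1]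

end CL.TD
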