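/-
Project TD: a conjugate of `V2` by an element keeping `C` is `V2` or meets `V2` in `C`.
-/
import Cfsg.Agent.TD.Defs1

set_option autoImplicit false
set_option linter.unusedSectionVars false
set_option linter.unusedSimpArgs false

namespace CL.TD

open Cfsg CL.Fus CL.U5

universe u

namespace S1Ax

variable {K : Type u} [Field K] [TF K]

def sC : AddSubgroup (V8 K) where
  carrier := {v | InC v}
  add_mem' := fun {u v} hu hv => by simp [InC, hu.1, hu.2.1, hu.2.2, hv.1, hv.2.1, hv.2.2]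
  zero_mem' := by simp [InC]
  neg_mem' := fun {u} hu => by simp [InC, hu.1, hu.2.1, hu.2.2]

def s2 : AddSubgroup (V8 K) where
  carrier := {v | v.b = 0 ∧ v.c = 0}
  add_mem' := fun {u v} hu hv => by simp [hu.1, hu.2, hv.1, hv.2]
  zero_mem' := by simp
  neg_mem' := fun {u} hu => by simp [hu.1, hu.2]

def sW : AddSubgroup (V8 K) where
  carrier := {v | v.b = 0}
  add_mem' := fun {u v} (hu : u.b = 0) (hv : v.b = 0) => by simp [hu, hv]
  zero_mem' := by simp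
  neg_mem' := fun {u} (hu : u.b = 0) => by simp [hu]

theorem mem_sC {v : V8 K} : v ∈ sC ↔ v.b = 0 ∧ v.c = 0 ∧ v.d = 0 := Iff.rfl
theorem mem_s2 {v : V8 K} : v ∈ s2 ↔ v.b = 0 ∧ v.c = 0 := Iff.rfl
theorem mem_sW {v : V8 K} : v ∈ sW ↔ v.b = 0 := Iff.rfl

def ch : ℕ → AddSubgroup (V8 K)
  | 0 => ⊥
  | 1 => sC
  | 2 => s2
  | 3 => sW
  | _ + 4 => ⊤

theorem mv2 (a : K) {v : V8 K} (h : v ∈ s2) : Mt a v - v ∈ sC := by simp [mem_sC, h.1, h.2]

theorem ch_mv (a : K) : ∀ i, ∀ v ∈ ch (i + 1), Mt a v - v ∈ ch i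
  | 0, v, h => AddSubgroup.mem_bot.2 (by ext <;> simp [h.1, h.2.1, h.2.2])
  | 1, _, h => mv2 a h
  | 2, v, h => by simp [ch, mem_s2, mem_sW.1 h]
  | 3, v, _ => by simp [ch, mem_sW]
  | _ + 4, _, _ => trivial

theorem ch_inv (a : K) : ∀ i, ∀ v ∈ ch i, Mt a v ∈ ch i
  | 0, v, h => by rw [AddSubgroup.mem_bot.1 h, map_zero]; exact zero_mem _
  | 1, v, h => PL_Mt a v h
  | 2, v, h => by simp [ch, mem_s2, h.1, h.2]
  | 3, _, h => h
  | _ + 4, _, _ => trivial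

theorem conj_sub (g t : Au (V8 K)) (v : V8 K) : (g * t * g⁻¹ : Au (V8 K)) v - v = g (t (g⁻¹ v) - g⁻¹ v) := by
  rw [map_sub, au_apply_inv]; rfl

theorem inv_of {D : AddSubgroup (V8 K)} {g : Au (V8 K)} (h : ∀ v ∈ D, g v ∈ D) {v : V8 K} (hv : v ∈ D) : g⁻¹ v ∈ D :=
  inv_mem_of (W := (D : Set (V8 K))) h hv

/-- the elements keeping `D` and the coset `y + D` -/
def stab (L : Subgroup (Au (V8 K))) (D : AddSubgroup (V8 K)) (y : V8 K) : Subgroup (Au (V8 K)) where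
  carrier := {k | k ∈ L ∧ (∀ v ∈ D, k v ∈ D) ∧ k y - y ∈ D}
  one_mem' := ⟨one_mem _, fun _ h => h, by rw [au_one, sub_self]; exact zero_mem _⟩
  mul_mem' := fun {k k'} h h' => ⟨mul_mem h.1 h'.1, fun v hv => h.2.1 _ (h'.2.1 v hv), by
    have := add_mem (h.2.1 _ h'.2.2) h.2.2
    rwa [map_sub, sub_add_sub_cancel] at this⟩
  inv_mem' := fun {k} h => ⟨inv_mem h.1, fun _ hv => inv_of h.2.1 hv, by
    have := neg_mem (inv_of h.2.1 h.2.2)
    rwa [map_sub, au_inv_apply, neg_sub] at this⟩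

end S1Ax

variable (K : Type u) [Field K] [TF K]

open S1Ax in
theorem s1a : S1A K := by
  intro p _ _ L h g hg hp
  have hW : ∀ {v : V8 K}, v.b = 0 → (g v).b = 0 := (h.conf g hg).keepsW hp
  have hL : ∀ x, g * Mt x * g⁻¹ ∈ L := fun x => mul_mem (mul_mem hg (h.mt x)) (inv_mem hg)
  by_cases h0 : ∀ B, (g (dv B)).c = 0
  · have k : ∀ i, ∀ v ∈ ch i, g v ∈ ch i := fun i => match i with
      | 0 => fun v h => by rw [AddSubgroup.mem_bot.1 h, map_zero]; exact zero_mem _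
      | 1 => hp
      | 2 => fun v hv => ⟨hW hv.1, by
          have := (hp (v - dv v.d) (by simp [InC, hv.1, hv.2])).2.1
          rwa [map_sub, sub_c, h0, sub_zero] at this⟩
      | 3 => fun _ => hW
      | _ + 4 => fun _ _ => trivial
    refine .inl fun x => ?_
    simpa using h.chain 4 ch rfl rfl 1 (one_mem _) (fun a i v hv => by simpa using ch_inv a i v hv) _ (hL x)
      fun i v hv => by
        rw [conj_sub]
        exact k _ _ (ch_mv x i _ (inv_of (k _) hv))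
  obtain ⟨B1, hA⟩ := not_forall.1 h0
  have hb : (g (dv B1)).b = 0 := hW rfl
  have m1 : ∀ x, (g * Mt x * g⁻¹ : Au (V8 K)) (g (dv B1)) - g (dv B1) ∈ sC := fun x => by
    rw [conj_sub, au_inv_apply]; exact hp _ (mv2 x ⟨rfl, rfl⟩)
  by_cases h2 : (2 : K) = 0
  · obtain ⟨x, hx⟩ := exists_cr_ne hA
    have := (h.sub (stab L sC (g (dv B1))) (fun _ h => h.1) g hg
      (fun x => ⟨hL x, (hp.mul (PL_Mt x)).mul hp.inv, m1 x⟩) _ hA
      ⟨h.mt _, PL_Mt _, by simp [mem_sC, hb, cr_self, h2]⟩ x).2.2.2.2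
    exact (hx (by simpa [hb] using this)).elim
  refine .inr ⟨h2, fun B0 hc => ?_⟩
  by_contra hB
  have hd : (g (dv B0)).d ≠ 0 := fun e => hB (by
    have := (hp.inv _ ⟨hW rfl, hc, e⟩).2.2
    rwa [au_inv_apply] at this)
  let D : AddSubgroup (V8 K) := s2 ⊓ s2.comap (g⁻¹ : Au (V8 K)).toAddEquiv.toAddMonoidHom
  have mD : ∀ v, v ∈ D ↔ v ∈ s2 ∧ g⁻¹ v ∈ s2 := fun _ => Iff.rfl
  have CD : ∀ v ∈ sC, v ∈ D := fun v hv => (mD v).2 ⟨⟨hv.1, hv.2.1⟩, (hp.inv v hv).1, (hp.inv v hv).2.1⟩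
  have ext : ∀ u ∈ D, ∀ v ∈ s2, v.d = u.d → v ∈ D := fun u hu v hv e => by
    simpa using add_mem hu (CD (v - u) (by simp [mem_sC, hv.1, hv.2, hu.1.1, hu.1.2, e]))
  obtain ⟨a, ha⟩ := cr_surj h2 hA (g (dv B0)).d
  have all := h.sub (stab L D (g (dv B1))) (fun _ h => h.1) g hg (fun x => ⟨hL x, fun v hv => by
      have := add_mem (CD _ (hp _ (mv2 x ((mD v).1 hv).2))) hv
      rwa [← conj_sub, sub_add_cancel] at this, CD _ (m1 x)⟩) a (by rintro rfl; exact hd (by simpa using ha.symm))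
    ⟨h.mt _, fun v hv => by simpa using add_mem (CD _ (mv2 a hv.1)) hv,
      ext (g (dv B0)) ((mD _).2 ⟨⟨hW rfl, hc⟩, by rw [au_inv_apply]; exact ⟨rfl, rfl⟩⟩) _ (by simp [mem_s2, hb])
        (by simp [hb, ha])⟩
  have k : ∀ v ∈ s2, g⁻¹ v ∈ s2 := fun v hv => by
    obtain ⟨x, hx⟩ := cr_surj h2 hA v.d
    exact ((mD v).1 (ext _ (all x).2.2 v hv (by simp [hb, hx]))).2
  have := inv_of k (v := dv B1) ⟨rfl, rfl⟩
  rw [inv_inv] at this
  exact hA this.2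

end CL.TD
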