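/-
Project TD: the stabiliser of the line `C` normalises the Sylow subgroup, odd characteristic.
-/
import Cfsg.Agent.TD.Defs1

set_option autoImplicit false

namespace CL.TD

open Cfsg CL.Fus CL.U5

universe u

variable (K : Type u) [Field K] [TF K]

namespace S1B

variable {K}

theorem surj {g : Au (V8 K)} (inj : ∀ B, (g (dv B)).c = 0 → B = 0) (A : K) : ∃ B, (g (dv B)).c = A :=
  Finite.injective_iff_surjective.1 (fun B B' (e : (g (dv B)).c = (g (dv B')).c) => sub_eq_zero.1 (inj _ (by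
    rw [show dv (B - B') = dv B - dv B' by ext <;> simp, map_sub, sub_c, e, sub_self]))) A

theorem main {p : ℕ} {L : Subgroup (Au (V8 K))} (h : H1 p L) (h2 : (2 : K) ≠ 0)
    (H : ∀ g ∈ L, PL g → (∀ x, g * Mt x * g⁻¹ ∈ TM K) ∨ ∀ B, (g (dv B)).c = 0 → B = 0) {g : Au (V8 K)} (hg : g ∈ L)
    (pg : PL g) (inj : ∀ B, (g (dv B)).c = 0 → B = 0) {B1 : K} (c1 : (g (dv B1)).c = 1) (d1 : (g (dv B1)).d = 0) :
    False := by
  have gW : ∀ {v : V8 K}, v.b = 0 → (g v).b = 0 := (h.conf g hg).keepsW pg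
  obtain ⟨k, hk⟩ : ∃ k, k = g⁻¹ * hm K * g := ⟨_, rfl⟩
  have kL : k ∈ L := hk ▸ mul_mem (mul_mem (inv_mem hg) h.hm_mem) hg
  have pk : PL k := hk ▸ (pg.inv.mul (PL_actV _)).mul pg
  have kW : ∀ {v : V8 K}, v.b = 0 → (k v).b = 0 := (h.conf k kL).keepsW pk
  have gk : ∀ v, g (k v) = hm K (g v) := fun v => by rw [hk, au_mul, au_mul, au_apply_inv]
  have neg : ∀ v, v.b = 0 → (g v).d = 0 → k v = -v := fun v hb hd => g.injective (by
    rw [gk, map_neg]; ext <;> simp [gW hb, hd])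
  obtain ⟨x, hx⟩ := (H k kL pk).resolve_right (fun e => by
    rw [e B1 (by rw [neg _ rfl d1]; simp), show dv (0 : K) = 0 from rfl, map_zero] at c1
    exact zero_ne_one c1) 1
  have kt : ∀ w, k (Mt 1 w) = Mt x (k w) := fun w => by rw [hx, au_mul, au_mul, au_inv_apply]
  have x0 : x ≠ 0 := by
    rintro rfl
    exact one_ne_zero (Mt_eq_one.1 (conj_eq_one_iff.1 (hx.symm.trans Mt_zero)))
  have kV : ∀ v : V8 K, v.b = 0 → v.c = 0 → (k v).c = 0 := fun v hb hc => by
    have := (pk (Mt 1 v - v) (by simp [InC, hb, hc])).2.2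
    rw [map_sub, kt] at this
    exact cr_inj h2 x0 (by simpa [kW hb, cr_comm x] using this)
  have gV : ∀ v : V8 K, v.b = 0 → v.c = 0 → (g v).d = 0 := fun v hb hc => by
    have e : g (v + k v) = g v + hm K (g v) := by rw [map_add, gk]
    have a1 := (pg (v + k v - dv (v + k v).d) (by simp [InC, hb, hc, kW hb, kV v hb hc])).2.1
    rw [map_sub, e] at a1
    have a2 := (pg (v + k v) ⟨by simp [hb, kW hb], by simp [hc, kV v hb hc], inj _ (by simpa using a1)⟩).2.2
    rw [e, add_d, hm_d, ← two_mul] at a2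
    exact (mul_eq_zero.1 a2).resolve_left h2
  have omk : ∀ u v, om (k u) (k v) = -om u v := fun u v => by
    obtain ⟨γ, μ, μ0, -, -, s⟩ := h.sem g hg
    have := s (k u) (k v)
    rw [gk, gk, om_hm, s, ← mul_neg, ← map_neg] at this
    exact (γ.injective (mul_left_cancel₀ μ0 this)).symm
  have kc : ∀ w, (k w).c = w.c := fun w => sub_eq_zero.1 (Tr_nondeg fun t => by
    have := omk w (dv t)
    rw [neg (dv t) rfl (gV _ rfl rfl), om_neg_r, neg_inj] at this
    rw [mul_sub, Tr_sub, mul_comm, mul_comm t, sub_eq_zero]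
    simpa [om] using this)
  obtain rfl : x = -1 := eq_neg_of_add_eq_zero_left (cr_nondeg fun c => by
    have a1 := neg (Mt 1 (nv c 0) - nv c 0) (by simp) (gV _ (by simp) (by simp))
    rw [map_sub, kt] at a1
    have a2 := congrArg V8.d a1
    simp only [sub_d, neg_d, Mt_d, kc, kW (nv_b c 0), nv_b, nv_c, nv_d] at a2
    rw [cr_add]
    linear_combination a2)
  obtain ⟨t, ht⟩ : ∃ t, t = g * Mt 1 * g⁻¹ := ⟨_, rfl⟩
  have tg : ∀ v, t (g v) = g (Mt 1 v) := fun v => by rw [ht, au_mul, au_mul, au_inv_apply]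
  have tht : ∀ u, t (hm K (t u)) = hm K u := fun u => by
    rw [← au_apply_inv g u, tg, ← gk, ← gk, tg, kt, ← au_mul (Mt 1), ← Mt_add, add_neg_cancel, Mt_zero]; rfl
  have tb : ∀ u, (t u).b = u.b := fun u => by
    obtain ⟨s, hs⟩ := inC_iff.1 (pg.inv cv (by simp [InC]))
    have := (ht ▸ h.iso hg 1 : Iso t) u cv
    rwa [← au_apply_inv g cv, tg, hs, Mt_cv, ← hs, au_apply_inv, om_cv, om_cv, neg_inj] at this
  have td : ∀ w : V8 K, w.b = 0 → (t w).d = w.d := fun w hw => by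
    have a1 := (h.conf _ (inv_mem hg)).keepsW pg.inv hw
    have a2 := gV (Mt 1 (g⁻¹ w) - g⁻¹ w) (by simp) (by rw [sub_c, Mt_c, a1]; ring)
    rwa [map_sub, ← tg, au_apply_inv, sub_d, sub_eq_zero] at a2
  have fd : (t (fv 0 0)).d = 0 := by
    have a1 := td (hm K (t (fv 0 0)) - fv 0 0) (by simp [tb])
    rw [map_sub, tht] at a1
    refine (mul_eq_zero.1 (show 2 * (t (fv 0 0)).d = 0 from ?_)).resolve_left h2
    simp only [sub_d, hm_d, fv_d] at a1
    linear_combination -a1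
  obtain ⟨B, hB⟩ := surj inj (t (fv 0 0)).c
  have a1 := (pg.inv (t (fv 0 0) - fv 0 0 - g (dv B)) ⟨by simp [tb, gW (dv_b B)], by simp [hB],
    by simp [fd, gV _ (dv_b B) rfl]⟩).2.1
  rw [← au_apply_inv g (fv 0 0), tg, ← map_sub, ← map_sub, au_inv_apply] at a1
  have a2 := gW (v := g⁻¹ (fv 0 0)) (by simpa using a1)
  rw [au_apply_inv] at a2
  exact one_ne_zero a2

end S1B

theorem s1b : S1B K := fun p _ _ L h h2 H g hg pg => (H g hg pg).resolve_right fun inj => by
  have gW : ∀ B, (g (dv B)).b = 0 := fun B => (h.conf g hg).keepsW pg rfl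
  obtain ⟨B1, e⟩ := S1B.surj inj 1
  obtain ⟨x, hx⟩ := cr_surj h2 one_ne_zero (-(g (dv B1)).d)
  exact S1B.main h h2 H (mul_mem (h.mt x) hg) ((PL_Mt x).mul pg) (fun B k => inj B (by simpa [au_mul, gW] using k))
    (B1 := B1) (by simp [au_mul, gW, e]) (by simp [au_mul, gW, e, hx])

end CL.TD
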