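/-
Project TD: an additive automorphism respecting the commutator form is a semilinear similarity.
-/
import Cfsg.Agent.TD.Defs1
import Cfsg.Agent.TD.AUa

set_option autoImplicit false
set_option linter.unusedSectionVars false

namespace CL.TD

open Cfsg CL.Fus CL.U5

universe u

variable (K : Type u) [Field K] [TF K]

namespace Sem0
variable {K}

theorem onto {u : V8 K} (hu : u ≠ 0) (s : Fx K) : ∃ v, om u v = s := by
  obtain ⟨v, hv⟩ : ∃ v, om u v ≠ 0 := by
    by_contra! h
    exact hu (om_nondeg h)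
  refine ⟨(s / ⟨om u v, sg_om u v⟩ : Fx K) • v, ?_⟩
  rw [om_smul_r]
  simp [div_mul_cancel₀ _ hv]

theorem prop {x z : V8 K} (hx : x ≠ 0) (h : ∀ w, om x w = 0 → om z w = 0) : ∃ m : Fx K, z = m • x := by
  obtain ⟨w0, hw⟩ := onto hx 1
  refine ⟨⟨om z w0, sg_om z w0⟩, sub_eq_zero.1 (om_nondeg fun w => ?_)⟩
  have := h (w - (⟨om x w, sg_om x w⟩ : Fx K) • w0) (by rw [om_sub_r, om_smul_r, hw]; simp)
  rw [om_sub_r, om_smul_r] at this
  rw [om_sub_l, om_smul_l]
  simp only at this ⊢
  linear_combination this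

end Sem0

open Sem0 in
theorem sem : SEM K := by
  rintro g ⟨ζ, h, -⟩
  have : Finite (Fx K) := inferInstance
  have hc : (cv : V8 K) ≠ 0 := cv_ne
  have hgc : g cv ≠ 0 := fun e => hc (g.map_eq_zero_iff.1 e)
  have hF : ∀ s : Fx K, sg (ζ s) = ζ s := fun s => by
    obtain ⟨v, hv⟩ := onto hc s
    rw [← hv, ← h, sg_om]
  let z : Fx K → Fx K := fun s => ⟨ζ s, hF s⟩
  have hz : ∀ s, (z s : K) = ζ s := fun _ => rfl
  have h0 : ζ 0 = 0 := by rw [← om_zero_l (0 : V8 K), ← h, map_zero, om_zero_l]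
  have hadd : ∀ s t : Fx K, z (s + t) = z s + z t := fun s t => Subtype.ext (by
    obtain ⟨v, hv⟩ := onto hc s
    obtain ⟨w, hw⟩ := onto hc t
    show ζ (s + t) = ζ s + ζ t
    rw [← hv, ← hw, ← om_add_r, ← h, ← h, ← h, map_add, om_add_r])
  have hsur : Function.Surjective z := fun t => by
    obtain ⟨v, hv⟩ := onto hgc t
    obtain ⟨v, rfl⟩ := g.surjective v
    exact ⟨⟨om cv v, sg_om _ _⟩, Subtype.ext ((h _ _).symm.trans hv)⟩
  have hinj : Function.Injective z := Finite.injective_iff_surjective.2 hsur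
  have hz0 : z 0 = 0 := Subtype.ext h0
  have h1 : z 1 ≠ 0 := fun e => one_ne_zero (hinj (e.trans hz0.symm))
  have hmul : ∀ l s : Fx K, z (l * s) * z 1 = z l * z s := fun l s => by
    obtain ⟨m, hm⟩ := prop (z := g (l • cv)) hgc fun w hw => by
      obtain ⟨w, rfl⟩ := g.surjective w
      have e : (⟨om cv w, sg_om _ _⟩ : Fx K) = 0 := hinj ((Subtype.ext ((h _ _).symm.trans hw)).trans hz0.symm)
      have e' : om cv w = 0 := congrArg Subtype.val e
      rw [h, om_smul_l, e', mul_zero, h0]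
    have k : ∀ t : Fx K, z (l * t) = m * z t := fun t => Subtype.ext (by
      obtain ⟨v, hv⟩ := onto hc t
      show ζ (l * t) = m * ζ t
      rw [← hv, ← om_smul_l, ← h, hm, om_smul_l, h])
    have k1 := k 1
    rw [mul_one] at k1
    rw [k s, k1]; ring
  let β : Fx K →+* Fx K :=
    { toFun := fun l => z l / z 1
      map_one' := div_self h1
      map_mul' := fun l s => by
        have := hmul l s
        field_simp
        exact this
      map_zero' := by rw [hz0, zero_div]
      map_add' := fun l s => by rw [hadd, add_div] }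
  obtain ⟨p, hp⟩ := CharP.exists K
  have : Fact p.Prime := ⟨CharP.char_is_prime K p⟩
  obtain ⟨γ, hγ⟩ := AUa.extend p (Fx K) β
  have h1' : ζ 1 ≠ 0 := fun e => h1 (Subtype.ext e)
  have key : ∀ u v, om (g u) (g v) = ζ 1 * γ (om u v) := fun u v => by
    have e := hγ ⟨om u v, sg_om u v⟩
    have e' : γ (om u v) = ζ (om u v) / ζ 1 := e
    rw [h, e']; field_simp
  refine ⟨γ, ζ 1, h1', hF 1, fun l v => sub_eq_zero.1 (om_nondeg fun w => ?_), key⟩
  obtain ⟨w, rfl⟩ := g.surjective w
  rw [om_sub_l, om_smul_l, key, key, om_smul_l, map_mul, fxm_coe]; ring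

end CL.TD
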