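/-
Project TD: the Sylow subgroup `T` of the linear group on `Q1 / Z` is a TI-subgroup.
-/
import Cfsg.Agent.TD.Defs1

set_option autoImplicit false
set_option linter.unusedSectionVars false

namespace CL.TD

open Cfsg CL.Fus CL.U5

universe u

namespace Tiax

variable {K : Type u} [Field K] [TF K]

theorem itw {g : Au (V8 K)} {a a' : K} (e : g * Mt a' * g⁻¹ = Mt a) (v : V8 K) : Mt a (g v) = g (Mt a' v) := by
  rw [← e, au_mul, au_mul, au_inv_apply]

theorem ne' {g : Au (V8 K)} {a a' : K} (h : a ≠ 0) (e : g * Mt a' * g⁻¹ = Mt a) : a' ≠ 0 := by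
  rintro rfl
  rw [Mt_zero, mul_one, mul_inv_cancel] at e
  exact h (Mt_eq_one.1 e.symm)

/-- `t_a - 1` -/
def dl (a : K) (v : V8 K) : V8 K := Mt a v - v

theorem dl3 (a : K) (v : V8 K) : dl a (dl a (dl a v)) = (⟨6 * Nr a * v.b, by
    rw [mem_Fx, show (6 : K) = 2 * 3 by norm_num]; simp⟩ : Fx K) • cv := by
  ext <;> simp only [dl, sub_b, sub_c, sub_d, sub_y, Mt_b, Mt_c, Mt_d, Mt_y, smul_b, smul_c, smul_d, smul_y, cv_b, cv_c,
    cv_d, cv_y, Tr, sh, Nr, cr, sg_add, sg_sub, sg_mul, sg3, V8.hb] <;> ring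

theorem InC.sub {u v : V8 K} (h : InC u) (h' : InC v) : InC (u - v) := by
  simp [InC, h.1, h.2.1, h.2.2, h'.1, h'.2.1, h'.2.2]

theorem c0 : InC (0 : V8 K) := ⟨rfl, rfl, rfl⟩

/-- the chain belonging to `t_a` -/
def X (a : K) : ℕ → AddSubgroup (V8 K)
  | 0 => ⊥
  | 1 => AddSubgroup.ofSub {v | InC v} ⟨0, c0⟩ fun _ h _ h' => by rw [← sub_eq_add_neg]; exact InC.sub h h'
  | 2 => AddSubgroup.ofSub {u | ∃ w : V8 K, w.b = 0 ∧ InC (u - (Mt a w - w))} ⟨0, 0, rfl, by simpa using c0⟩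
      fun u ⟨w, h, k⟩ u' ⟨w', h', k'⟩ => ⟨w - w', by simp [h, h'], by
        have := InC.sub k k'
        rw [map_sub]; convert this using 1; abel⟩
  | 3 => AddSubgroup.ofSub {w | w.b = 0 ∧ InC (Mt a w - w)} ⟨0, rfl, by simpa using c0⟩
      fun w ⟨h, k⟩ w' ⟨h', k'⟩ => ⟨by simp [h, h'], by
        have := InC.sub k k'
        rw [← sub_eq_add_neg, map_sub]; convert this using 1; abel⟩
  | 4 => AddSubgroup.ofSub {w | w.b = 0} ⟨0, rfl⟩ fun w (h : w.b = 0) w' (h' : w'.b = 0) => by simp [h, h']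
  | _ + 5 => ⊤

theorem tr {k : Au (V8 K)} {a a' : K} (hp : PL k) (hw : ∀ v : V8 K, v.b = 0 → (k v).b = 0)
    (e : ∀ v, Mt a (k v) = k (Mt a' v)) : ∀ i, ∀ v ∈ X a' i, k v ∈ X a i
  | 0, v, h => by rw [AddSubgroup.mem_bot.1 h, map_zero]; exact zero_mem _
  | 1, v, h => hp v h
  | 2, v, ⟨w, h, c⟩ => ⟨k w, hw w h, by rw [e, ← map_sub, ← map_sub]; exact hp _ c⟩
  | 3, v, ⟨h, c⟩ => ⟨hw v h, by rw [e, ← map_sub]; exact hp _ c⟩
  | 4, v, h => hw v h
  | _ + 5, _, _ => trivial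

theorem st {a : K} (ha : a ≠ 0) (x : K) : ∀ i, ∀ v ∈ X a (i + 1), Mt x v - v ∈ X a i
  | 0, v, (h : InC v) => AddSubgroup.mem_bot.2 (by ext <;> simp [h.1, h.2.1, h.2.2])
  | 1, v, ⟨w, h, c⟩ => by
    have h1 : v.b = 0 := by simpa using c.1
    have h2 : v.c = 0 := by simpa [h] using c.2.1
    show InC _
    simp [InC, h1, h2]
  | 2, v, ⟨h, c⟩ => by
    obtain ⟨l, l1, -, l2⟩ := cr_eq_zero (y := v.c) ha (by rw [cr_comm]; simpa [h] using c.2.2)
    refine ⟨nv (l * x) 0, rfl, by simp, by simp [h], ?_⟩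
    simp only [sub_d, Mt_d, nv_b, nv_c, nv_d, h, l2, cr, sg_mul, l1]; ring
  | 3, v, (h : v.b = 0) => ⟨by simp, by simp [InC, h]⟩
  | 4, v, _ => show (Mt x v - v).b = 0 by simp
  | _ + 5, _, _ => trivial

end Tiax

open Tiax

variable (K : Type u) [Field K] [TF K]

theorem tia : TIA K := by
  intro g hc hs h a a' ha e
  rcases h with h | h
  · have hW : ∀ v : V8 K, v.b = 0 → (g v).b = 0 := fun v hv => by
      have := hc.perp (u := v) (v := Mt a' v) (by rw [om_self_Mt, hv, h]; simp)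
      rw [← itw e, om_self_Mt, h] at this
      simpa [ha] using this
    have k : ∀ w : V8 K, w.b = 0 → om w (g cv) = 0 := fun w hw => by
      have := hc.perp (u := g⁻¹ w) (v := cv) (by
        rw [om_cv, show (g⁻¹ w).b = 0 from inv_mem_of (W := {v : V8 K | v.b = 0}) hW hw, neg_zero])
      rwa [au_apply_inv] at this
    refine hs.PL_of one_ne_zero ?_
    rw [one_smul]
    exact ⟨by simpa [om] using k cv rfl, Tr_nondeg fun t => by simpa [om, mul_comm] using k (dv t) rfl,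
      Tr_nondeg fun t => by simpa [om] using k (nv t 0) rfl⟩
  · have d : ∀ v, dl a (g v) = g (dl a' v) := fun v => by rw [dl, dl, itw e, map_sub]
    have k := dl3 a (g (fv 0 0))
    rw [d, d, d, dl3] at k
    exact hs.PL_of (fun z => by simpa [h, ne' ha e] using congrArg Subtype.val z) (inC_iff.2 ⟨_, k⟩)

theorem ti2 : TI2 K := by
  intro p _ _ L h g hg hp a a' ha e x
  have := h.chain 5 (X a) rfl rfl 1 (one_mem _)
    (fun a0 i v hv => by
      rw [inv_one, one_mul, mul_one]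
      exact tr (PL_Mt a0) (fun _ h => h) (fun v => by rw [← au_mul, ← au_mul, (Mt_comm a a0).eq]) i v hv)
    (g * Mt x * g⁻¹) (mul_mem (mul_mem hg (h.mt x)) (inv_mem hg)) fun i v hv => by
      have k := tr hp (fun _ => (h.conf g hg).keepsW hp) (itw e) i _ (st (ne' ha e) x i _
        (tr hp.inv (fun _ => (h.conf _ (inv_mem hg)).keepsW hp.inv)
          (itw (g := g⁻¹) (by rw [← e]; group)) (i + 1) v hv))
      rwa [map_sub, au_apply_inv] at k
  rwa [inv_one, one_mul, mul_one] at this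

end CL.TD
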