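/-
Project TD: trivial intersections in characteristic three.
-/
import Cfsg.Agent.TD.Defs1

set_option autoImplicit false
set_option linter.unusedSectionVars false
set_option linter.unusedSimpArgs false

namespace CL.TD

open Cfsg CL.Fus CL.U5
open scoped commutatorElement

universe u

namespace Tic

variable {K : Type u} [Field K] [TF K]

/-- `t - 1` -/
def nn (t : Au (V8 K)) : V8 K →+ V8 K := AddMonoidHom.mk' (fun v => t v - v) fun u v => by rw [map_add]; abel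

theorem nn_apply (t : Au (V8 K)) (v : V8 K) : nn t v = t v - v := rfl

theorem nn_int {g t t' : Au (V8 K)} (h : g * t' = t * g) (v : V8 K) : g (nn t' v) = nn t (g v) := by
  rw [nn_apply, nn_apply, map_sub, ← au_mul, h, au_mul]

@[simp] theorem nn_b (a : K) (v : V8 K) : (nn (Mt a) v).b = 0 := by simp [nn_apply]
@[simp] theorem nn_c (a : K) (v : V8 K) : (nn (Mt a) v).c = v.b * a := by simp [nn_apply]
@[simp] theorem nn_d (a : K) (v : V8 K) : (nn (Mt a) v).d = cr v.c a + v.b * sh a := by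
  simp only [nn_apply, sub_d, Mt_d]; ring
@[simp] theorem nn_y (a : K) (v : V8 K) : (nn (Mt a) v).y = Tr (v.d * a) + Tr (v.c * sh a) + v.b * Nr a := by
  simp only [nn_apply, sub_y, Mt_y]; ring

theorem n2_d (a : K) (v : V8 K) : (nn (Mt a) (nn (Mt a) v)).d = 2 * v.b * sh a := by
  simp only [nn_b, nn_c, nn_d, cr, sh, sg_mul, V8.hb]; ring

theorem n2_y (h3 : (3 : K) = 0) (a : K) (v : V8 K) : (nn (Mt a) (nn (Mt a) v)).y = 2 * Tr (v.c * sh a) := by
  simp only [nn_b, nn_c, nn_d, nn_y, Tr, Nr, cr, sh, sg_mul, sg_add, sg3, V8.hb]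
  linear_combination 2 * v.b * (a * sg a * sg (sg a)) * h3

theorem inC_mem (h2 : (2 : K) ≠ 0) (h3 : (3 : K) = 0) {a : K} (ha : a ≠ 0) {v : V8 K} (hv : InC v) :
    ∃ w, nn (Mt a) (nn (Mt a) w) = v := by
  obtain ⟨c, hc⟩ := exists_Tr (sh_eq_zero.not.2 ha) (s := v.y / 2) (by simp)
  refine ⟨nv c 0, V8.ext ?_ ?_ ?_ ?_⟩
  · simp [hv.1]
  · simp [hv.2.1]
  · simp [n2_d, hv.2.2]
  · rw [n2_y h3, nv_c, hc, mul_div_cancel₀ _ h2]

/-- the chain of the element `t` -/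
def ch (t : Au (V8 K)) : ℕ → AddSubgroup (V8 K)
  | 0 => ⊥
  | 1 => ((nn t).comp (nn t)).range
  | 2 => (nn t).ker
  | 3 => (nn t).range
  | 4 => ((nn t).comp (nn t)).ker
  | _ + 5 => ⊤

theorem ch_inv {g t : Au (V8 K)} (h : g * t = t * g) : ∀ i, ∀ v ∈ ch t i, g v ∈ ch t i
  | 0, v, hv => by rw [AddSubgroup.mem_bot.1 hv, map_zero]; exact zero_mem _
  | 1, _, ⟨w, rfl⟩ => ⟨g w, by simp only [AddMonoidHom.comp_apply, nn_int h]⟩
  | 2, v, hv => show nn t (g v) = 0 by rw [← nn_int h, show nn t v = 0 from hv, map_zero]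
  | 3, _, ⟨w, rfl⟩ => ⟨g w, (nn_int h w).symm⟩
  | 4, v, hv => show nn t (nn t (g v)) = 0 by rw [← nn_int h, ← nn_int h, show nn t (nn t v) = 0 from hv, map_zero]
  | _ + 5, _, _ => AddSubgroup.mem_top _

theorem ch_st (h2 : (2 : K) ≠ 0) (h3 : (3 : K) = 0) {a x : K} (ha : a ≠ 0) (hx : Tr (x * sh a) = 0) :
    ∀ i, ∀ v ∈ ch (Mt a) (i + 1), nn (Mt x) v ∈ ch (Mt a) i
  | 0, _, ⟨w, rfl⟩ => AddSubgroup.mem_bot.2 (V8.ext (by simp) (by simp) (by simp) (by
      rw [AddMonoidHom.comp_apply, nn_y, n2_d, mul_assoc, Tr_smul (by simp), mul_comm (sh a), hx]; simp))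
  | 1, v, hv => by
    have e : nn (Mt a) v = 0 := hv
    have b0 : v.b = 0 := by simpa [ha] using congrArg V8.c e
    have c0 : v.c = 0 := cr_inj h2 ha (by simpa [b0, cr_comm a] using congrArg V8.d e)
    exact inC_mem h2 h3 ha ⟨by simp, by simp [b0], by simp [b0, c0]⟩
  | 2, _, ⟨w, rfl⟩ => show nn (Mt a) _ = 0 from V8.ext (by simp) (by simp) (by simp) (by
      have : Tr (cr (w.b * a) x * a) = 2 * w.b * Tr (x * sh a) := by
        simp only [Tr, cr, sh, sg_mul, sg_add, sg3, V8.hb]; ring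
      simp [this, hx])
  | 3, v, hv => by
    have e : nn (Mt a) (nn (Mt a) v) = 0 := hv
    have b0 : v.b = 0 := by simpa [ha, h2] using (n2_d a v).symm.trans (congrArg V8.d e)
    obtain ⟨c, hc⟩ := cr_surj h2 ha (nn (Mt x) v).d
    obtain ⟨d, hd⟩ := exists_Tr ha (s := (nn (Mt x) v).y - Tr (c * sh a)) (by rw [sg_sub, V8.hy, sg_Tr])
    exact ⟨⟨0, c, d, 0, by simp, by simp⟩, V8.ext (by simp) (by simp [b0]) (by rw [← hc, nn_d, cr_comm]; simp)
      (by rw [nn_y, hd]; simp)⟩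
  | 4, v, _ => show nn (Mt a) (nn (Mt a) _) = 0 from V8.ext (by simp) (by simp) (by rw [n2_d]; simp) (by
      rw [n2_y h3, nn_c, mul_assoc, Tr_smul v.hb, hx]; simp)
  | _ + 5, _, _ => AddSubgroup.mem_top _

end Tic

open Tic

variable (K : Type u) [Field K] [TF K]

theorem tic : TIC K := by
  intro p _ _ L h h3 g hg a a' ha e
  have h2 : (2 : K) ≠ 0 := fun q => one_ne_zero (α := K) (by linear_combination h3 - q)
  obtain ⟨x, hx, hx'⟩ := exists_perp (sh a) a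
  have x0 : x ≠ 0 := fun q => hx' 0 sg_zero (by simp [q])
  obtain ⟨x', e'⟩ := h.chain 5 (ch (Mt a)) rfl rfl g hg (fun z => ch_inv (by
    rw [← e, conj_mul, conj_mul, (Mt_comm z a').eq])) (Mt x) (h.mt x) (ch_st h2 h3 ha hx)
  have k : ∀ {b b' : K}, b ≠ 0 → g * Mt b' = Mt b * g → ∃ w, g cv = nn (Mt b) (nn (Mt b) w) := fun {b b'} hb q => by
    obtain ⟨w, hw⟩ := inC_mem h2 h3 (a := b') (v := cv) (by
      rintro rfl
      rw [Mt_zero, mul_one, eq_comm, mul_eq_right, Mt_eq_one] at q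
      exact hb q) (by simp [InC])
    exact ⟨g w, by rw [← hw, nn_int q, nn_int q]⟩
  obtain ⟨w1, e1⟩ := k ha (b' := a') (by rw [← e]; group)
  obtain ⟨w2, e2⟩ := k x0 (b' := x') (by rw [e']; group)
  refine (h.sem g hg).PL_of one_ne_zero ?_
  rw [one_smul]
  refine ⟨by simp [e1], by simp [e1], by_contra fun d0 => ?_⟩
  have d1 : (g cv).d = 2 * w1.b * sh a := by rw [e1, n2_d]
  have d2 : (g cv).d = 2 * w2.b * sh x := by rw [e2, n2_d]
  have b0 : w2.b ≠ 0 := fun q => d0 (by simp [d2, q])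
  have := congrArg sh (d1.symm.trans d2)
  rw [sh_mul _ (sh a), sh_mul _ (sh x), sh_sh, sh_sh] at this
  have n0 : sh (2 * w2.b) * Nr x ≠ 0 := by simp [h2, b0, x0]
  refine hx' (sh (2 * w1.b) * Nr a / (sh (2 * w2.b) * Nr x)) (by simp [sh]) ?_
  rw [div_mul_eq_mul_div, eq_div_iff n0]
  linear_combination -this

end CL.TD
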