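/-
Project TD: assembly of the parts.
-/
import Cfsg.Agent.TD.Fld
import Cfsg.Agent.U5.Top

set_option autoImplicit false
set_option linter.unusedSectionVars false

namespace CL.TD

open Subgroup Cfsg Cfsg.FusionSystem CL.Fus CL.U5 CL.U5.Topx
open scoped commutatorElement

universe u

namespace Topx

variable {K : Type u} [Field K] [TF K] {p : ℕ} [Fact p.Prime] [CharP K p]
  {F F' : FusionSystem (⊤ : Subgroup (U K))}

theorem not_swap {α : MulAut (U K)} (hα : α ∈ aut0 F) : img α (Q1 K) ≠ Q2 K := fun h => by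
  have m := mem_aut0.1 hα
  have k : ∀ x ∈ Q2 K, ∃ w ∈ Q1 K, α w = x := fun x hx => (m.mem_img' le_top).1 (h.ge hx)
  obtain ⟨s, hs⟩ : ∃ s : K, cr s 1 ≠ 0 := by by_contra! h; exact one_ne_zero (cr_nondeg h)
  obtain ⟨t, ht⟩ := exists_Tr hs sg_one
  obtain ⟨x, hx, ex⟩ := k (xa 1) rfl
  obtain ⟨y, hy, ey⟩ := k (xc s) rfl
  obtain ⟨w, hw, ew⟩ := k (xc t) rfl
  have := congrArg α (comm_Z w (comm_Q1 hx hy))
  rw [map_commutatorElement, map_commutatorElement, ex, ey, ew, map_one] at this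
  have := congrArg U.z this
  simp [xa, xc, ht] at this

theorem keeps (ess : ESF K) (hF : F.IsSaturated p) (e1 : F.IsEssential p (Q1 K)) (e2 : F.IsEssential p (Q2 K))
    {α : MulAut (U K)} (hα : α ∈ aut0 F) : (∀ x, α x ∈ Q1 K ↔ x ∈ Q1 K) ∧ ∀ x, α x ∈ Q2 K ↔ x ∈ Q2 K := by
  have top : ∀ {β : MulAut (U K)}, img β ⊤ = ⊤ := fun {β} => top_le_iff.1 fun y _ =>
    β.apply_symm_apply y ▸ mem_img_of_mem β (mem_top _)
  have h1 : ∀ {β}, β ∈ aut0 F → ∀ x, β x ∈ Q1 K ↔ x ∈ Q1 K := fun hβ => mem_iff_of_img hβ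
    ((ess p F hF _ (ess_img (mem_aut0.1 hβ) top e1)).resolve_right (not_swap hβ))
  refine ⟨h1 hα, mem_iff_of_img hα ((ess p F hF _ (ess_img (mem_aut0.1 hα) top e2)).resolve_left fun k => ?_)⟩
  exact one_ne_zero ((h1 hα _).1 (k.le (mem_img_of_mem α (show xa 1 ∈ Q2 K from rfl))))

theorem std_keeps {A0 : Subgroup (MulAut (U K))} {H : Subgroup (Par K)} (h : Std A0 H) {α : MulAut (U K)} (hα : α ∈ A0) :
    (∀ x, α x ∈ Q1 K ↔ x ∈ Q1 K) ∧ ∀ x, α x ∈ Q2 K ↔ x ∈ Q2 K := by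
  obtain ⟨s, k, -, rfl⟩ := (h α).1 hα
  exact ⟨fun x => by rw [MulAut.mul_apply, MulAut.conj_apply, Subgroup.Normal.mem_comm_iff inferInstance, inv_mul_cancel_left, act_Q1],
    fun x => by rw [MulAut.mul_apply, MulAut.conj_apply, Subgroup.Normal.mem_comm_iff inferInstance, inv_mul_cancel_left, act_Q2]⟩

theorem sub (ess : ESF K) (rk : RK.{u}) (g1 : GEN1 K) (g2 : GEN2 K) (hF : F.IsSaturated p) {H : Subgroup (Par K)}
    (hs : Std (aut0 F) H) (hA : ∀ u, ha u ∈ H) (hH : ∀ v hv, hb v hv ∈ H) (h0 : aut0 F ≤ aut0 F')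
    (k1 : r1 K ∈ F'.autGroup (Q1 K)) (k2 : r2 K ∈ F'.autGroup (Q2 K)) : F.IsSubsystemOf F' := by
  refine alperin_subsystem ((pg p).to_subgroup _) hF fun A a hA' ha hi => ?_
  rcases hA' with rfl | hA'
  · obtain ⟨α, hα, e⟩ := all_top ha hi
    exact (mem_aut0.1 (h0 hα)).congr fun x _ => e x
  · rcases ess p F hF A hA' with rfl | rfl
    · exact all_mor ((g1 p _ _ H (rk _ p (pg p) F hF _ hA' fun α hα => (std_keeps hs hα).1) hs hH).2.2 _ k1
        fun α hα a r => (Mor.mono (mem_aut0.1 (h0 hα)) le_top).mem_autGroup r) ha hi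
    · exact all_mor (((g2 p _ _ H (rk _ p (pg p) F hF _ hA' fun α hα => (std_keeps hs hα).2) hs).2 hA).2 _ k2
        fun α hα a r => (Mor.mono (mem_aut0.1 (h0 hα)) le_top).mem_autGroup r) ha hi

theorem one_or_both (ess : ESF K) (hF : F.IsSaturated p) :
    F.IsRealizable p ∨ (F.IsEssential p (Q1 K) ∧ F.IsEssential p (Q2 K)) := by
  by_cases k : F.IsEssential p (Q1 K) ∧ F.IsEssential p (Q2 K)
  · exact .inr k
  refine .inl (one_ess (pg p) hF fun E E' hE hE' => ?_)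
  rcases ess p F hF E hE with rfl | rfl <;> rcases ess p F hF E' hE' with rfl | rfl
  exacts [rfl, (k ⟨hE, hE'⟩).elim, (k ⟨hE', hE⟩).elim, rfl]

/-- if only `Q` can be essential then it is strongly closed -/
theorem closed (hF : F.IsSaturated p) {Q : Subgroup (U K)} (h1 : ∀ E, F.IsEssential p E → E = Q)
    (h2 : ∀ α ∈ aut0 F, ∀ x, α x ∈ Q ↔ x ∈ Q) {G : Type*} [Group G] {ι : U K →* G} (hι : Function.Injective ι)
    (hM : ∀ P f, Mor F P f ↔ ∃ g : G, ∀ x ∈ P, ι (f x) = g * ι x * g⁻¹) {g : G} {x y : U K} (hx : x ∈ Q)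
    (e : ι y = g * ι x * g⁻¹) : y ∈ Q := by
  have hn : F.IsNormal Q := isNormal_of_essential ((pg p).to_subgroup _) hF le_top (fun A hA => (h1 A hA).ge)
    fun A a hA ha hi => by
      rcases hA with rfl | hA
      · obtain ⟨α, hα, e⟩ := all_top ha hi
        exact ha.img_eq_self le_top fun x hx => e x ▸ (h2 α hα x).2 hx
      · rw [← h1 A hA]; exact hi
  let f : U K → U K := fun w => Function.invFun ι (g * ι w * g⁻¹)
  have hf : ∀ w ∈ zpowers x, ι (f w) = g * ι w * g⁻¹ := by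
    rintro _ ⟨n, rfl⟩
    exact Function.invFun_eq ⟨y ^ n, by rw [map_zpow, map_zpow, e, conj_zpow]⟩
  have := (stronglyClosed_iff.1 (IsNormal.stronglyClosed hn)).2 _ f ((hM _ _).2 ⟨g, hf⟩) x (mem_zpowers x) hx
  rwa [hι ((hf x (mem_zpowers x)).trans e.symm)] at this

theorem real_std (ess : ESF K) (rk : RK.{u}) (tor : TOR K) (g1 : GEN1 K) (g2 : GEN2 K) (re : REAL K)
    (hF : F.IsSaturated p) {H : Subgroup (Par K)} (hp : ¬ p ∣ Nat.card H) (hs : Std (aut0 F) H) : F.IsRealizable p := by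
  rcases one_or_both ess hF with k | ⟨e1, e2⟩
  · exact k
  obtain ⟨b1, b2⟩ := g2 p _ _ H (rk _ p (pg p) F hF _ e2 fun α hα => (std_keeps hs hα).2) hs
  obtain ⟨a1, a2, -⟩ := g1 p _ _ H (rk _ p (pg p) F hF _ e1 fun α hα => (std_keeps hs hα).1) hs b1
  obtain ⟨G, _, _, ι, hι, ho, hG, ⟨u1, x1, m1, y1, n1, hu1⟩, u2, x2, m2, y2, n2, hu2⟩ := re p H hp (tor H a1 b1)
  obtain ⟨F', sat, hR, hM⟩ := all_real (pg p) ι hι ho
  have h0 : aut0 F = aut0 F' := Subgroup.ext fun α => by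
    rw [hs, ← hG, mem_aut0, hM]
    exact exists_congr fun g => ⟨fun h x _ => h x, fun h x => h x trivial⟩
  have hs' : Std (aut0 F') H := h0 ▸ hs
  have f1 : F'.IsEssential p (Q1 K) := by_contra fun k => n2 (closed sat
    (fun E hE => (ess p F' sat E hE).resolve_left fun e => k (e ▸ hE)) (fun α hα => (std_keeps hs' hα).2) hι hM m2 hu2)
  have f2 : F'.IsEssential p (Q2 K) := by_contra fun k => n1 (closed sat
    (fun E hE => (ess p F' sat E hE).resolve_right fun e => k (e ▸ hE)) (fun α hα => (std_keeps hs' hα).1) hι hM m1 hu1)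
  have k1 := (g1 p _ _ H (rk _ p (pg p) F' sat _ f1 fun α hα => (std_keeps hs' hα).1) hs' b1).2.1
  have k2 := ((g2 p _ _ H (rk _ p (pg p) F' sat _ f2 fun α hα => (std_keeps hs' hα).2) hs').2 a1).1
  rw [fusionSystem_le_antisymm (E := F) (F := F') (sub ess rk g1 g2 hF hs a1 b1 h0.le k1 k2)
    (sub ess rk g1 g2 sat hs' a1 b1 h0.ge a2 (b2 a1).1)]
  exact hR

theorem real0 (ess : ESF K) (rk : RK.{u}) (tor : TOR K) (au : AU2 K) (g1 : GEN1 K) (g2 : GEN2 K) (re : REAL K)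
    (hF : F.IsSaturated p) : F.IsRealizable p := by
  rcases one_or_both ess hF with k | ⟨e1, e2⟩
  · exact k
  obtain ⟨β, H, hp, hs⟩ := au p (aut0 F) (fun s => mor_conj F le_rfl trivial) (not_dvd (pg p) hF)
    fun α hα => keeps ess hF e1 e2 hα
  have gi : GIso (⊤ : Subgroup (U K)) ⊤ β β.symm := ⟨fun a _ b _ => β.map_mul a b, fun _ _ => trivial,
    fun _ _ => trivial, fun a _ => β.symm_apply_apply a, fun a _ => β.apply_symm_apply a⟩
  have i := gi.fIso_transport F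
  refine i.symm.isRealizable (real_std ess rk tor g1 g2 re (i.isSaturated hF) hp ?_)
  have top : ∀ {γ : MulAut (U K)}, img γ ⊤ = ⊤ := fun {γ} => top_le_iff.1 fun y _ =>
    γ.apply_symm_apply y ▸ mem_img_of_mem γ (mem_top _)
  convert hs using 1
  ext α
  rw [Subgroup.mem_map_equiv, mem_aut0, mem_aut0]
  refine ⟨fun h => ?_, fun h => ?_⟩
  · have := i.mor' _ _ h
    rw [top (γ := β.symm)] at this
    exact this.congr fun x _ => rfl
  · have := i.mor _ _ h
    rw [top] at this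
    exact this.congr fun x _ => by simp

end Topx

open Topx

theorem esf {K : Type u} [Field K] [TF K] (cri : CRI.{u}) (h : ESS K) : ESF K := fun p _ _ F hF E hE =>
  let ⟨B, hB⟩ := cri _ p (pg p) F hF E hE
  h E _ B hB

theorem top {Ω : Type*} [Group Ω] {S : Subgroup Ω} [Finite S] (p : ℕ) [Fact p.Prime] (F : FusionSystem S)
    (hF : F.IsSaturated p) {K : Type u} [Field K] [TF K] [CharP K p] (ess : ESF K) (rk : RK.{u}) (tor : TOR K)
    (au : AU2 K) (g1 : GEN1 K) (g2 : GEN2 K) (re : REAL K) (sy : SYL K)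
    (T : Sylow p (Cfsg.Lie.twistedD4 K (TF.q K)))
    (e : ↥S ≃* ↥(T : Subgroup (Cfsg.Lie.twistedD4 K (TF.q K)))) : F.IsRealizable p := by
  obtain ⟨φ⟩ := sy p T
  have i := (gIso_of_mulEquiv ((e.trans φ).trans Subgroup.topEquiv.symm)).fIso_transport F
  exact i.symm.isRealizable (real0 ess rk tor au g1 g2 re (i.isSaturated hF))

/-- the structure on a field with `q ^ 3` elements -/
theorem exists_tf {K : Type u} [Field K] [Fintype K] (p : ℕ) [hp : Fact p.Prime] [CharP K p] {n : ℕ} (hn : 1 ≤ n)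
    (hK : Fintype.card K = (p ^ n) ^ 3) : ∃ t : TF K, t.q = p ^ n := by
  have : ExpChar K p := .prime hp.out
  refine ⟨⟨p ^ n, iterateFrobeniusEquiv K p n, inferInstance, by rw [Nat.card_eq_fintype_card, hK],
    hp.out.two_le.trans (Nat.le_self_pow (by omega) p), fun x => rfl, fun x => ?_⟩, rfl⟩
  change ((x ^ p ^ n) ^ p ^ n) ^ p ^ n = x
  rw [← pow_mul, ← pow_mul, ← mul_assoc, ← pow_three', ← hK, FiniteField.pow_card]

end CL.TD
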