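/-
Project TD: all parts about the automizers.
-/
import Cfsg.Agent.TD.Lin1
import Cfsg.Agent.TD.Sem
import Cfsg.Agent.TD.Chn
import Cfsg.Agent.TD.Tia
import Cfsg.Agent.TD.Tic
import Cfsg.Agent.TD.S1A
import Cfsg.Agent.TD.S1B
import Cfsg.Agent.TD.N02
import Cfsg.Agent.TD.NI
import Cfsg.Agent.TD.Fam
import Cfsg.Agent.TD.ND
import Cfsg.Agent.TD.NF
import Cfsg.Agent.TD.NK
import Cfsg.Agent.TD.NA
import Cfsg.Agent.TD.CW
import Cfsg.Agent.TD.Far
import Cfsg.Agent.TD.RF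
import Cfsg.Agent.TD.RX
import Cfsg.Agent.TD.L1R
import Cfsg.Agent.TD.L1Q
import Cfsg.Agent.TD.L1W
import Cfsg.Agent.TD.Rho1
import Cfsg.Agent.TD.Rho2
import Cfsg.Agent.TD.Aut1
import Cfsg.Agent.TD.Aut2
import Cfsg.Agent.TD.Lin2
import Cfsg.Agent.TD.Lin2A
import Cfsg.Agent.TD.Com
import Cfsg.Agent.TD.Cp1
import Cfsg.Agent.TD.Cp2
import Cfsg.Agent.TD.Gen
import Cfsg.Agent.TD.AUb
import Cfsg.Agent.TD.ModB
import Cfsg.Agent.TD.Top
import Cfsg.Agent.TD.ES2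
import Cfsg.Agent.TD.EsA
import Cfsg.Agent.TD.EsB
import Cfsg.Agent.TD.ESY
import Cfsg.Agent.TD.Cri2
import Cfsg.Agent.U5.RK

set_option autoImplicit false
set_option linter.unusedSectionVars false

namespace CL.TD

open Cfsg CL.Fus CL.U5

universe u

variable (K : Type u) [Field K] [TF K]

theorem l1s : L1S K := l1s_of (sem K) (chn K) (tia K) (tic K) (ti2 K) (sub K) (s1a K) (s1b K)

theorem naAll : NA K := na K (fam K (ni K)) (an K (ni K)) (nd K (ni K))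
  (nk K (ni K) (fam K (ni K)) (ne1 K (nd K (ni K)) (nf1 K (ni K) (np K) (nd K (ni K)))))

theorem lin1 : LIN1 K := lin1_of (sem K) (chn K) (tia K) (tic K) (ti2 K) (sub K) (s1a K) (s1b K) (n02 K)
  (naAll K) (far K (cw K)) (l1r K (rx K) (rf K (pil K))) (l1q K) (l1w K) (sl2 K)

/-- essential subgroups inside `Q2` in odd characteristic -/
def EX : Prop := ∀ (E : Subgroup (U K)) M B, Crit2 E M B → (2 : K) ≠ 0 → Z2 K ≤ E → E ≤ Q2 K → ¬ E ≤ Q1 K → E = Q2 K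

theorem esfAll (ex : EX K) : ESF K := by
  intro p hp _ F hF E hE
  by_cases h : p = 2
  · subst h
    exact esf2 F hF E hE
  have h2 : (2 : K) ≠ 0 := fun e => h ((Nat.prime_dvd_prime_iff_eq hp.out Nat.prime_two).1
    ((CharP.cast_eq_zero_iff K p 2).1 (by exact_mod_cast e)))
  obtain ⟨M, B, c⟩ := cri2 _ p (pg p) F hF E hE
  by_cases k1 : E ≤ Q1 K
  · exact .inl (esb E M B c.toCrit k1)
  have z := esa h2 E M B c.toCrit k1
  by_cases k2 : E ≤ Q2 K
  · exact .inr (ex E M B c h2 z k2 k1)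
  · exact (esY h2 E M B c.toCrit z k1 k2).elim

theorem gen1All : GEN1 K := gen1 com tor (aut1 ker (rho1 K com) (l1s K) (lin1 K)) cp1

theorem gen2All : GEN2 K := gen2 com tor (aut2 ker (rho2 com) (lin2 lin2a)) cp2

theorem mainOf {Ω : Type*} [Group Ω] {S : Subgroup Ω} [Finite S] (p : ℕ) [Fact p.Prime] (F : FusionSystem S)
    (hF : F.IsSaturated p) [CharP K p] (ex : EX K) (T : Sylow p (Cfsg.Lie.twistedD4 K (TF.q K)))
    (e : ↥S ≃* ↥(T : Subgroup (Cfsg.Lie.twistedD4 K (TF.q K)))) : F.IsRealizable p :=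
  top p F hF (esfAll K ex) rk tor au2 (gen1All K) (gen2All K) (real K) (syl K) T e

end CL.TD
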