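/-
Project TD: linear algebra of the commutator form in odd characteristic.
-/
import Cfsg.Agent.TD.DefsE

set_option autoImplicit false
set_option linter.unusedSectionVars false
set_option linter.unusedVariables false

namespace CL.TD

open Cfsg CL.Fus CL.U5
open scoped commutatorElement

universe u

variable {K : Type u} [Field K] [TF K]

theorem cr_inj (h2 : (2 : K) ≠ 0) {x y : K} (hx : x ≠ 0) (h : cr x y = 0) : y = 0 := by
  obtain ⟨l, -, e, rfl⟩ := cr_eq_zero hx h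
  rw [(mul_eq_zero.1 e).resolve_left h2, zero_mul]

theorem cr_sub (x y z : K) : cr x (y - z) = cr x y - cr x z := by simp only [cr, sg_sub]; ring
theorem cr_smul_l {l : K} (h : sg l = l) (x y : K) : cr (l * x) y = l * cr x y := by simp only [cr, sg_mul, h]; ring

/-- the inverse of the cross product with `t` -/
theorem cr_inv (h2 : (2 : K) ≠ 0) {t : K} (ht : t ≠ 0) (d : K) :
    cr t ((t * Tr (t * d) - 2 * t ^ 2 * d) / (2 * Nr t)) = d := by
  have h1 : sg t ≠ 0 := by simpa using ht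
  have h3 : sg (sg t) ≠ 0 := by simpa using ht
  simp only [cr, Tr, Nr, sg_div, sg_sub, sg_mul, sg_add, sg_pow, sg_two, sg3]
  field_simp
  ring

theorem cr_onto (h2 : (2 : K) ≠ 0) {a : K} (ha : a ≠ 0) (d : K) : ∃ t, cr t a = d := ⟨_, (cr_comm _ _).trans (cr_inv h2 ha d)⟩

theorem nn_eq_zero {r : V2 K} : nn r = 0 ↔ Dep r := by
  rw [show nn r = sg (r.1 * sg r.2 - sg r.1 * r.2) by simp [nn], sg_eq_zero, sub_eq_zero, Dep]

theorem Tr_nn1 (r : V2 K) : Tr (nn r * r.1) = 0 := by simp only [nn, Tr, sg_sub, sg_mul, sg3]; ring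
theorem Tr_nn2 (r : V2 K) : Tr (nn r * r.2) = 0 := by simp only [nn, Tr, sg_sub, sg_mul, sg3]; ring

theorem ne_of_ndep {r : V2 K} (h : ¬ Dep r) : r.1 ≠ 0 := fun e => h (dep_iff.2 (.inl e))

/-- the vectors orthogonal to `nn (a, c)` -/
theorem span2 {r : V2 K} (h : ¬ Dep r) {x : K} (hx : Tr (nn r * x) = 0) :
    ∃ α β, sg α = α ∧ sg β = β ∧ x = α * r.1 + β * r.2 := by
  have n0 : r.1 * sg r.2 - sg r.1 * r.2 ≠ 0 := sub_ne_zero.2 h
  have n1 : sg r.1 * sg (sg r.2) - sg (sg r.1) * sg r.2 ≠ 0 := fun e => h (nn_eq_zero.1 e)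
  simp only [nn, Tr, sg_sub, sg_mul, sg3] at hx
  refine ⟨(x * sg r.2 - sg x * r.2) / (r.1 * sg r.2 - sg r.1 * r.2), (r.1 * sg x - sg r.1 * x) / (r.1 * sg r.2 - sg r.1 * r.2),
    ?_, ?_, by rw [div_mul_eq_mul_div, div_mul_eq_mul_div, ← add_div, eq_div_iff n0]; ring⟩
  · simp only [sg_div, sg_sub, sg_mul]
    rw [div_eq_div_iff n1 n0]
    linear_combination (-sg r.2) * hx
  · simp only [sg_div, sg_sub, sg_mul]
    rw [div_eq_div_iff n1 n0]
    linear_combination sg r.1 * hx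

/-- a vector outside a line is separated from it -/
theorem dual1 {a a0 s : K} (h : ∀ k, sg k = k → a ≠ k * a0) (hs : sg s = s) : ∃ d, Tr (d * a0) = 0 ∧ Tr (d * a) = s := by
  by_cases e : a0 = 0
  · obtain ⟨d, hd⟩ := exists_Tr (x := a) (by simpa using h 0 sg_zero) hs
    exact ⟨d, by simp [e], hd⟩
  have k : sg (a / a0) ≠ a / a0 := fun k => h _ k (div_mul_cancel₀ _ e).symm
  obtain ⟨u, hu⟩ := exists_Tr (sub_ne_zero.2 (sg2_ne k).symm) hs
  refine ⟨(u - sg u) / a0, by rw [div_mul_cancel₀ _ e]; simp only [Tr, sg_sub, sg3]; ring, ?_⟩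
  rw [← hu, div_mul_eq_mul_div, mul_div_assoc]
  generalize a / a0 = t
  simp only [Tr, sg_sub, sg_mul, sg3]; ring

theorem two_onto {r : V2 K} (h : ¬ Dep r) {y z : K} (hy : sg y = y) (hz : sg z = z) :
    ∃ t, Tr (t * r.1) = y ∧ Tr (t * r.2) = z := by
  obtain ⟨t, h1, h2⟩ := dual1 (a := r.2) (a0 := r.1) (fun k hk e => h (dep_iff.2 (.inr ⟨k, hk, e⟩))) hz
  obtain ⟨u, h3, h4⟩ := dual1 (a := r.1) (a0 := r.2) (fun k hk e => h (Dep.swap (dep_iff.2 (.inr ⟨k, hk, e⟩)))) hy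
  exact ⟨t + u, by rw [add_mul, Tr_add, h1, h4, zero_add], by rw [add_mul, Tr_add, h2, h3, add_zero]⟩

theorem omw_self (v : V2 K) : omw v v = 0 := by simp [omw]
theorem omw_swap (v w : V2 K) : omw v w = -omw w v := by simp [omw]
theorem omw_add (v w x : V2 K) : omw v (w + x) = omw v w + omw v x := by
  simp only [omw, cr, Prod.fst_add, Prod.snd_add, sg_add]; ring
theorem omw_smul {s : K} (hs : sg s = s) (v w : V2 K) : omw v (s * w.1, s * w.2) = s * omw v w := by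
  simp only [omw, cr, sg_mul, hs]; ring
theorem omw_Mu {r w : V2 K} (h : Mu r w) : ∃ s, sg s = s ∧ (s = 0 → w = 0) ∧ ∀ v, omw w v = s * omw r v := by
  obtain ⟨s, hs, e1, e2⟩ := h
  exact ⟨s, hs, fun e => Prod.ext (by simp [e1, e]) (by simp [e2, e]), fun v => by simp only [omw, cr, e1, e2, sg_mul, hs]; ring⟩
theorem omw_comb {r w x : V2 K} {α β : K} (h1 : sg α = α) (h2 : sg β = β) (e1 : x.1 = α * r.1 + β * w.1)
    (e2 : x.2 = α * r.2 + β * w.2) (v : V2 K) : omw x v = α * omw r v + β * omw w v := by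
  simp only [omw, cr, e1, e2, sg_mul, sg_add, h1, h2]; ring
theorem Mu_refl (r : V2 K) : Mu r r := ⟨1, by simp⟩

/-- the orthogonal space of `r` projects onto the first coordinate -/
theorem perp_ex (h2 : (2 : K) ≠ 0) {r : V2 K} (h : r.1 ≠ 0) (a : K) : ∃ c, omw r (a, c) = 0 :=
  (cr_onto h2 h (cr r.2 a)).imp fun c e => sub_eq_zero.2 e

theorem perp_inj (h2 : (2 : K) ≠ 0) {r w : V2 K} (h : r.1 ≠ 0) (e : omw r w = 0) (e1 : w.1 = 0) : w.2 = 0 :=
  cr_inj h2 h (by simpa [omw, e1, cr_comm] using e)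

/-- the form on the orthogonal space of `r` is a determinant -/
theorem omf {r w x : V2 K} (hw : omw r w = 0) (hx : omw r x = 0) :
    2 * Nr r.1 * omw w x = -Tr (nn (r.1, w.1) * x.1) * nn r := by
  have k : ∀ {w : V2 K}, omw r w = 0 → 2 * Nr r.1 * w.2 = r.1 * Tr (r.1 * cr r.2 w.1) - 2 * r.1 ^ 2 * cr r.2 w.1 :=
    fun {w} e => by rw [← sub_eq_zero.1 e]; simp only [cr, Tr, Nr, sg_add, sg_mul, sg3]; ring
  rw [omw, mul_sub, ← cr_smul_l (by simp), ← cr_smul_l (by simp), k hw, k hx]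
  simp only [cr, nn, Tr, sg_sub, sg_add, sg_mul, sg_pow, sg_two, sg3]
  ring

/-- orthogonal vectors with coordinates in the span of the coordinates -/
theorem indep (h2 : (2 : K) ≠ 0) {r w : V2 K} (h : ¬ Dep r) (e : omw r w = 0) (e1 : Tr (nn r * w.1) = 0)
    (e2 : Tr (nn r * w.2) = 0) : Mu r w := by
  obtain ⟨α, β, hα, hβ, k1⟩ := span2 h e1
  obtain ⟨γ, δ, hγ, hδ, k2⟩ := span2 h e2
  have a0 := ne_of_ndep h
  obtain ⟨κ, hκ⟩ : ∃ κ, r.2 = κ * r.1 := ⟨r.2 / r.1, (div_mul_cancel₀ _ a0).symm⟩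
  have nκ : sg κ ≠ κ := fun k => h (dep_iff.2 (.inr ⟨κ, k, hκ⟩))
  have a : 2 * γ + (δ - α) * (sg κ + sg (sg κ)) - 2 * β * (sg κ * sg (sg κ)) = 0 :=
    mul_left_cancel₀ (sh_eq_zero.not.2 a0) (by
      simp only [omw, cr, sh, k1, k2, hκ, sg_add, sg_mul, hα, hβ, hγ, hδ] at e ⊢; linear_combination e)
  have a1 := congrArg sg a
  simp only [sg_add, sg_sub, sg_mul, sg_two, hα, hβ, hγ, hδ, sg3, sg_zero] at a1
  have b : δ - α = 2 * β * sg (sg κ) := mul_left_cancel₀ (sub_ne_zero.2 nκ) (by linear_combination a - a1)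
  have b1 := congrArg sg b
  simp only [sg_sub, sg_mul, sg_two, hα, hβ, hδ, sg3] at b1
  have b0 : β = 0 := mul_left_cancel₀ (mul_ne_zero h2 (sub_ne_zero.2 (sg2_ne nκ))) (by linear_combination b1 - b)
  have d0 : δ = α := by rw [b0] at b; linear_combination b
  have g0 : γ = 0 := mul_left_cancel₀ h2 (by rw [b0, d0] at a; linear_combination a)
  exact ⟨α, hα, by simp [k1, b0], by simp [k2, g0, d0]⟩

theorem ndep_of_nMu (h2 : (2 : K) ≠ 0) {r w : V2 K} (h : r.1 ≠ 0) (e : omw r w = 0) (n : ¬ Mu r w) : ¬ Dep (r.1, w.1) :=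
  fun k => by
    obtain ⟨s, hs, e1⟩ := (dep_iff.1 k).resolve_left h
    refine n ⟨s, hs, e1, sub_eq_zero.1 (perp_inj h2 (w := (w.1 - s * r.1, w.2 - s * r.2)) h ?_ (sub_eq_zero.2 e1))⟩
    simp only [omw, cr, sg_sub, sg_mul, hs] at e ⊢; linear_combination e

/-- isotropic subspaces containing a vector of rank two have dimension at most two -/
theorem iso (h2 : (2 : K) ≠ 0) {r w x : V2 K} (h : ¬ Dep r) (e : omw r w = 0) (n : ¬ Mu r w) (e1 : omw r x = 0)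
    (e2 : omw w x = 0) : ∃ α β, sg α = α ∧ sg β = β ∧ x.1 = α * r.1 + β * w.1 ∧ x.2 = α * r.2 + β * w.2 := by
  have a0 := ne_of_ndep h
  have k := omf e e1
  rw [e2, mul_zero, eq_comm, mul_eq_zero, neg_eq_zero] at k
  obtain ⟨α, β, hα, hβ, k1⟩ := span2 (ndep_of_nMu h2 a0 e n) (k.resolve_right (nn_eq_zero.not.2 h))
  refine ⟨α, β, hα, hβ, k1, sub_eq_zero.1 (perp_inj h2 (w := (x.1 - (α * r.1 + β * w.1), x.2 - (α * r.2 + β * w.2))) a0 ?_
    (sub_eq_zero.2 k1))⟩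
  simp only [omw, cr, sg_sub, sg_add, sg_mul, hα, hβ] at e e1 ⊢; linear_combination e1 - β * e

/-- the values of the form on the orthogonal space of `r` -/
theorem perp_line (h2 : (2 : K) ≠ 0) {r w x : V2 K} (h : r.1 ≠ 0) (e : omw r w = 0) (e1 : omw r x = 0) :
    ∃ s, sg s = s ∧ omw w x = s * nn r :=
  ⟨-Tr (nn (r.1, w.1) * x.1) / (2 * Nr r.1), by simp, by
    rw [div_mul_eq_mul_div, ← omf e e1, mul_div_cancel_left₀ _ (mul_ne_zero h2 (Nr_eq_zero.not.2 h))]⟩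

theorem perp_onto (h2 : (2 : K) ≠ 0) {r w : V2 K} (h : r.1 ≠ 0) (e : omw r w = 0) (n : ¬ Mu r w) {s : K} (hs : sg s = s) :
    ∃ x, omw r x = 0 ∧ omw w x = s * nn r := by
  obtain ⟨a, ha⟩ := exists_Tr (nn_eq_zero.not.2 (ndep_of_nMu h2 h e n)) (s := -(2 * Nr r.1 * s)) (by simp [hs])
  obtain ⟨c, hc⟩ := perp_ex h2 h a
  refine ⟨(a, c), hc, mul_left_cancel₀ (mul_ne_zero h2 (Nr_eq_zero.not.2 h)) ?_⟩
  rw [omf e hc, mul_comm _ a, ha]; ring

/-- vectors orthogonal to `E` have rank two -/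
theorem SX.rank {E : Subgroup (U K)} {M B : (U K → U K) → Prop} (h : SX E M B) {r : V2 K} (h0 : r ≠ 0)
    (e : ∀ g ∈ E, omw (pW g) r = 0) : ¬ Dep r := fun k => by
  by_cases a0 : r.1 = 0
  · refine h.nq1 fun g hg => cr_inj h.two (x := r.2) (fun c0 => h0 (Prod.ext a0 c0)) ?_
    simpa [omw, a0, pW] using e g hg
  · obtain ⟨s, hs, e1⟩ := (dep_iff.1 k).resolve_left a0
    refine h.npk s hs fun g hg => ⟨h.q2 hg, (sub_eq_zero.1 (cr_inj h.two a0 ?_)).symm⟩
    have := e g hg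
    simp only [omw, pW, cr, e1, sg_sub, sg_mul, hs] at this ⊢; linear_combination this

/-- the element of `Q2` with given coordinates -/
def xw (v : V2 K) : U K := ⟨v.1, 0, v.2, 0, 0, 0, by simp, by simp, by simp⟩
theorem xw_mem (v : V2 K) : xw v ∈ Q2 K := rfl
@[simp] theorem pW_xw (v : V2 K) : pW (xw v) = v := rfl

end CL.TD
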