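/-
Project TD: essential subgroups inside `Q2` in odd characteristic, assembly.
-/
import Cfsg.Agent.TD.FldE

set_option autoImplicit false

namespace CL.TD

open Cfsg CL.Fus CL.U5
open scoped commutatorElement

universe u

variable {K : Type u} [Field K] [TF K]

theorem esx (he : HEIS K) (tw : TWG K) (a1 : XA1 K) (a2 : XA2 K) (b1 : XB1 K) (b2 : XB2 K) (b3 : XB3 K)
    (E : Subgroup (U K)) (M B : (U K → U K) → Prop) (h : Crit2 E M B) (h2 : (2 : K) ≠ 0) (z2 : Z2 K ≤ E)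
    (q2 : E ≤ Q2 K) (nq : ¬ E ≤ Q1 K) : E = Q2 K := by
  have s : SX E M B := ⟨h, h2, z2, q2, nq, fun k hk le =>
    tw h2 M B k hk (le.antisymm (he E M B k h.toCrit hk z2 le) ▸ h)⟩
  have c2 : ∀ {x : U K}, x ∈ Q2 K → ∀ e ∈ Z2 K, ⁅e, x⁆ = 1 := fun hx e he => by
    rw [← commutatorElement_inv, comm_Q2_Z2 hx he, inv_one]
  have hV := h.inv_cz h.inv_top h.inv_top
  have zV : Z2 K ≤ cz E E := fun z hz =>
    ⟨z2 hz, fun x hx => commutatorElement_eq_one_iff_mul_comm.1 (comm_Q2_Z2 (q2 hx) hz)⟩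
  have i2 : Inv E M (Z2 K) := by
    refine (h.dn h.inv_bot hV bot_le zV).elim id fun ps => (b1 E M B s ps ?_).antisymm zV ▸ hV
    by_contra n3
    refine n3 fun x hx => h.mem1 hV (fun e _ => zV (comm_mem_Z2 e hx)) fun e he => comm_Z3 ?_ hx
    exact b3 E M B s ps (fun r hr r3 le => n3 (b2 E M B s r hr r3 le)) he
  have z3 : Z3 K ≤ E := fun x hx => h.mem1 i2 (fun e _ => comm_mem_Z2 e hx) (c2 hx.2.1)
  have hY := h.inv_czm h.inv_top h.inv_top i2
  have zY : Z3 K ≤ czm E E (Z2 K) := fun z hz => mem_czm.2 ⟨z3 hz, fun x _ => comm_mem_Z2 x hz⟩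
  have i3 : Inv E M (Z3 K) := (h.dn i2 hY Z2_le_Z3 zY).elim id fun ps =>
    (a2 E M B s i2 z3 ps (a1 E M B s i2 z3 ps)).antisymm zY ▸ hY
  exact q2.antisymm fun x hx => h.mem2 i3 i2 (fun e he => comm_Q2 (q2 he) hx)
    (fun e he => comm_symm (comm_mem_Z2 x he)) (c2 hx)

end CL.TD
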