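/-
Project TD: a critical subgroup inside the preimage of a pencil is the whole preimage.
-/
import Cfsg.Agent.TD.DefsE
import Cfsg.Agent.TD.Defs1

set_option autoImplicit false
set_option linter.unusedSectionVars false

namespace CL.TD

open Cfsg CL.Fus CL.U5
open scoped commutatorElement

universe u

variable {K : Type u} [Field K] [TF K]

namespace Heisx

variable {k : K}

/-- coordinates on `Pk k / Z2` -/
def ph (k : K) (g : U K) : V8 K := ⟨0, g.a, g.d - k * sh g.a, 0, sg_zero, sg_zero⟩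

theorem ph_mul (hk : sg k = k) (g : U K) {h : U K} (m : h ∈ Pk k) : ph k (g * h) = ph k g + ph k h := by
  ext <;> simp only [ph, add_b, add_c, add_d, add_y, mul_a, mul_d, m.1, m.2, sh, cr, sg_add, sg_mul, hk] <;> ring

theorem ph_one : ph k 1 = 0 := by ext <;> simp [ph]

theorem ph_inv (hk : sg k = k) {g : U K} (m : g ∈ Pk k) : ph k g⁻¹ = -ph k g :=
  eq_neg_of_add_eq_zero_left (by rw [← ph_mul hk _ m, inv_mul_cancel, ph_one])

theorem ph_zero {g : U K} (m : g ∈ Pk k) : ph k g = 0 ↔ g ∈ Z2 K := by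
  refine ⟨fun e => ?_, fun e => by ext <;> simp [ph, e.1, e.2.2.2]⟩
  have a : g.a = 0 := congrArg V8.c e
  have d : g.d - k * sh g.a = 0 := congrArg V8.d e
  exact ⟨a, m.1, by rw [m.2, a, mul_zero], by simpa [a] using d⟩

theorem ph_surj (k : K) {v : V8 K} (h1 : v.b = 0) (h2 : v.y = 0) : ∃ g ∈ Pk k, ph k g = v :=
  ⟨⟨v.c, 0, k * v.c, v.d + k * sh v.c, 0, 0, sg_zero, sg_zero, sg_zero⟩, ⟨rfl, rfl⟩, by ext <;> simp [ph, h1, h2]⟩

theorem comm (hk : sg k = k) {g h : U K} (m : g ∈ Pk k) (m' : h ∈ Pk k) :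
    ⁅g, h⁆ ∈ Z2 K ∧ ⁅g, h⁆.y = om (ph k g) (ph k h) ∧ ⁅g, h⁆.z = om (ph k g) (ph k h) * k := by
  have d : cr (k * h.a) g.a - cr (k * g.a) h.a = 0 := by simp only [cr, sg_mul, hk]; ring
  refine ⟨⟨comm_a _ _, comm_b _ _, by simp [m.1, m'.1], by simp [m.1, m'.1, m.2, m'.2, d]⟩, ?_, ?_⟩
  · simp only [comm_y, om, ph, m.1, m'.1, m.2, m'.2, Tr, sh, sg_add, sg_sub, sg_mul, sg3, hk]; ring
  · simp only [comm_z, m.1, m'.1, m.2, m'.2, d]
    simp only [om, ph, Tr, sh, sg_add, sg_sub, sg_mul, sg3, hk, sg_zero]; ring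

theorem comm_Ln (hk : sg k = k) {g h : U K} (m : g ∈ Pk k) (m' : h ∈ Pk k) : ⁅g, h⁆ ∈ Ln 1 k :=
  ⟨(comm hk m m').1, _, sg_om _ _, (comm hk m m').2.1.trans (mul_one _).symm, (comm hk m m').2.2⟩

theorem Ln_ext {g h : U K} (m : g ∈ Ln 1 k) (m' : h ∈ Ln 1 k) (e : g.y = h.y) : g = h := by
  obtain ⟨a, s, -, a1, a2⟩ := m
  obtain ⟨b, t, -, b1, b2⟩ := m'
  obtain rfl : s = t := by rw [← mul_one s, ← a1, e, b1, mul_one]
  exact U.ext (a.1.trans b.1.symm) (a.2.1.trans b.2.1.symm) (a.2.2.1.trans b.2.2.1.symm)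
    (a.2.2.2.trans b.2.2.2.symm) e (a2.trans b2.symm)

theorem comm_one (hk : sg k = k) {g h : U K} (m : g ∈ Pk k) (m' : h ∈ Pk k) :
    ⁅g, h⁆ = 1 ↔ om (ph k g) (ph k h) = 0 := by
  rw [← (comm hk m m').2.1]
  exact ⟨fun e => by rw [e, one_y], fun e => Ln_ext (comm_Ln hk m m') (one_mem _) e⟩

/-- the preimage of a line -/
def AA (hk : sg k = k) (v : V8 K) : Subgroup (U K) where
  carrier := {g | g ∈ Pk k ∧ ∃ l : Fx K, ph k g = l • v}
  mul_mem' := by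
    rintro g h ⟨hg, l, e⟩ ⟨hh, m, e'⟩
    exact ⟨mul_mem hg hh, l + m, by rw [ph_mul hk _ hh, e, e', add_smul]⟩
  one_mem' := ⟨one_mem _, 0, by rw [zero_smul, ph_one]⟩
  inv_mem' := by
    rintro g ⟨hg, l, e⟩
    exact ⟨inv_mem hg, -l, by rw [ph_inv hk hg, e, neg_smul]⟩

/-- the preimage of a hyperplane -/
def HH (hk : sg k = k) (v : V8 K) : Subgroup (U K) where
  carrier := {g | g ∈ Pk k ∧ om (ph k g) v = 0}
  mul_mem' := by
    rintro g h ⟨hg, e⟩ ⟨hh, e'⟩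
    exact ⟨mul_mem hg hh, by rw [ph_mul hk _ hh, om_add_l, e, e', add_zero]⟩
  one_mem' := ⟨one_mem _, by rw [ph_one, om_zero_l]⟩
  inv_mem' := by
    rintro g ⟨hg, e⟩
    exact ⟨inv_mem hg, by rw [ph_inv hk hg, om_neg_l, e, neg_zero]⟩

theorem ZP : Z2 K ≤ Pk k := fun _ h => ⟨h.2.1, by rw [h.1, h.2.2.1, mul_zero]⟩

theorem ZH (hk : sg k = k) (v : V8 K) : Ln 1 k ≤ HH hk v := fun _ h =>
  ⟨ZP h.1, by rw [(ph_zero (ZP h.1)).2 h.1, om_zero_l]⟩

/-- a hyperplane is not isotropic -/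
theorem noniso (w w' : V8 K) (h : om w w' ≠ 0) (h1 : w'.b = 0) (h2 : w'.y = 0) :
    ¬ ∀ x y : V8 K, x.b = 0 → x.y = 0 → y.b = 0 → y.y = 0 → om w x = 0 → om w y = 0 → om x y = 0 := fun k => by
  let c : V8 K → Fx K := fun x => ⟨om w x / om w w', by rw [mem_Fx, sg_div, sg_om, sg_om]⟩
  have p : ∀ x, om w (x - c x • w') = 0 := fun x => by
    rw [om_sub_r, om_smul_r]; simp only [c]; rw [div_mul_cancel₀ _ h, sub_self]
  have r : ∀ x y : V8 K, x.b = 0 → x.y = 0 → y.b = 0 → y.y = 0 → om x y = c y * om x w' - c x * om y w' :=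
    fun x y a1 a2 a3 a4 => by
      have := k _ _ (by simp [a1, h1]) (by simp [a2, h2]) (by simp [a3, h1]) (by simp [a4, h2]) (p x) (p y)
      simp only [om_sub_l, om_sub_r, om_smul_l, om_smul_r, om_self, om_swap y w'] at this
      linear_combination this
  obtain ⟨s1, hs1⟩ := exists_Tr (one_ne_zero (α := K)) sg_one
  obtain ⟨s2, hs2, n2⟩ := exists_perp (1 : K) 0
  obtain ⟨t2, ht2⟩ := exists_Tr (x := s2) (fun e => n2 0 sg_zero (by rw [e, zero_mul])) sg_one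
  have e12 := r (nv 1 0) (dv s1) rfl rfl rfl rfl
  have e13 := r (nv 1 0) (nv t2 0) rfl rfl rfl rfl
  have e14 := r (nv 1 0) (dv s2) rfl rfl rfl rfl
  have e34 := r (nv t2 0) (dv s2) rfl rfl rfl rfl
  generalize om (nv 1 0) w' = a1 at *
  generalize om (dv s1) w' = a2 at *
  generalize om (nv t2 0) w' = a3 at *
  generalize om (dv s2) w' = a4 at *
  generalize (c (nv 1 0) : K) = c1 at *
  generalize (c (dv s1) : K) = c2 at *
  generalize (c (nv t2 0) : K) = c3 at *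
  generalize (c (dv s2) : K) = c4 at *
  rw [mul_one] at hs1 hs2
  simp [om, hs1, hs2, ht2] at e12 e13 e14 e34
  have : (1 : K) = 0 := by
    linear_combination e34 + (c4 * a3 - c3 * a4) * e12 + (-(c4 * a2 - c2 * a4)) * e13 + (c3 * a2 - c2 * a3) * e14
  simp at this

end Heisx

open Heisx in
theorem heis : HEIS K := by
  have hT := tv tv0.{u}
  intro E M B k h hk hZ hE
  by_contra hn
  obtain ⟨u0, hu0, hu0'⟩ := SetLike.not_le_iff_exists.1 hn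
  have hV : Inv E M (cz E E) := h.inv_cz h.inv_top h.inv_top
  have hZV : Ln 1 k ≤ cz E E := fun x hx => mem_cz.2 ⟨hZ hx.1, fun e he =>
    commutatorElement_eq_one_iff_mul_comm.1 (comm_Q2_Z2 (hE he).1 hx.1)⟩
  obtain ⟨f, hf, nf⟩ := h.out
  have T := hT (U K) E M B h ⊥ (cz E E) {t : U K // t ∈ Pk k ∧ t ∉ E} (fun i => AA hk (ph k i.1)) (fun _ => Ln 1 k)
    (fun i => HH hk (ph k i.1)) h.inv_bot (fun n hn x => by rw [Subgroup.mem_bot.1 hn]; simp) hV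
    (fun v hv e he => Subgroup.mem_bot.2 (commutatorElement_eq_one_iff_mul_comm.2 ((mem_cz.1 hv).2 e he)))
    (fun i => ⟨bot_le, hZV, ZH hk _⟩) (fun i a ha e he => comm_Ln hk (hE he) ha.1)
    (by
      rintro i a ⟨ha, l, e⟩ v _ hv
      exact Subgroup.mem_bot.2 ((comm_one hk hv.1 ha).2 (by rw [e, om_smul_r, hv.2, mul_zero])))
    (by
      intro i w hw hw' z hz
      have wQ := hE hw.1
      have n : om (ph k w) (ph k i.1) ≠ 0 := fun e => hw' ⟨wQ, e⟩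
      obtain ⟨a, aQ, ea⟩ := ph_surj k (v := (⟨z.y / om (ph k w) (ph k i.1), by rw [mem_Fx, sg_div, sg_om, z.hy]⟩ : Fx K) •
        ph k i.1) (by simp [ph]) (by simp [ph])
      refine ⟨a, ⟨aQ, _, ea⟩, ?_⟩
      rw [Ln_ext (comm_Ln hk wQ aQ) hz (by rw [(comm hk wQ aQ).2.1, ea, om_smul_r]; exact div_mul_cancel₀ _ n),
        inv_mul_cancel]
      exact one_mem _)
    (by
      rintro i a ⟨ha, l, e⟩ haE v hv m
      have vQ := hE hv.1
      have := (comm_one hk vQ ha).1 (Subgroup.mem_bot.1 m)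
      rw [e, om_smul_r, mul_eq_zero] at this
      refine ⟨vQ, this.resolve_left fun l0 => haE (hZ ((ph_zero ha).1 ?_))⟩
      rw [e, show l = 0 from Subtype.ext l0, zero_smul])
    (fun i => ⟨i.1, ⟨i.2.1, 1, (one_smul _ _).symm⟩, i.2.2⟩) (fun _ _ => rfl) f hf nf
  have T1 : ∀ t ∈ Pk k, t ∉ E → ∀ z ∈ Ln 1 k, f z ∈ HH hk (ph k t) → z = 1 :=
    fun t ht ht' z hz m => Subgroup.mem_bot.1 ((T ⟨t, ht, ht'⟩ ⟨t, ht, ht'⟩).1 z hz m)
  obtain ⟨z0, hz0, nz0⟩ : ∃ z0 ∈ Ln 1 k, z0 ≠ 1 :=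
    ⟨⟨0, 0, 0, 0, 1, k, sg_zero, sg_one, hk⟩, ⟨⟨rfl, rfl, rfl, rfl⟩, 1, sg_one, (mul_one _).symm, (one_mul _).symm⟩,
      fun e => one_ne_zero (congrArg U.y e)⟩
  have wQ := hE (h.mem hf _ (hZ hz0.1))
  have hw : ∀ x ∈ Pk k, om (ph k (f z0)) (ph k x) = 0 → x ∈ E := fun x hx m => by
    by_contra c
    exact nz0 (T1 x hx c _ hz0 ⟨wQ, m⟩)
  refine noniso _ (ph k u0) (fun m => hu0' (hw u0 hu0 m)) rfl rfl fun x y a1 a2 a3 a4 hx hy => ?_
  obtain ⟨x, xP, rfl⟩ := ph_surj k a1 a2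
  obtain ⟨y, yP, rfl⟩ := ph_surj k a3 a4
  refine (comm_one hk xP yP).1 (T1 u0 hu0 hu0' _ (comm_Ln hk xP yP) (ZH hk _ ?_))
  rw [h.map_comm hf (hw x xP hx) (hw y yP hy)]
  exact comm_Ln hk (hE (h.mem hf _ (hw x xP hx))) (hE (h.mem hf _ (hw y yP hy)))

end CL.TD
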