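/-
Project TD, job TWG (helper60): the preimage of a pencil is not critical.
-/
import Cfsg.Agent.TD.FldE

set_option autoImplicit false
set_option linter.unusedSectionVars false
set_option linter.unusedVariables false

namespace CL.TD

open Cfsg CL.Fus CL.U5
open scoped commutatorElement

universe u

variable {K : Type u} [Field K] [TF K]

namespace Twgx

/-- coordinates on `Pk k / Z2` -/
def pi (k : K) (g : U K) : V2 K := (g.a, g.d - k * sh g.a)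

variable {k : K}

theorem Z3_le : Z3 K ≤ Pk k := fun g hg => ⟨hg.2.1, by rw [hg.1, hg.2.2, mul_zero]⟩

theorem mem_Z3' {g : U K} (hg : g ∈ Pk k) (h : g.a = 0) : g ∈ Z3 K := ⟨h, hg.1, by rw [hg.2, h, mul_zero]⟩

theorem cl (hk : sg k = k) : TVx.Cl (Z2 K) (Pk k) (pi k) where
  add x hx y hy := Prod.ext rfl (by
    simp only [pi, Prod.snd_add, mul_d, mul_a, hy.1, hy.2, sh_add, cr_smul_l hk, cr_comm y.a]; ring)
  ker x hx := ⟨fun e => by
    have h1 : x.a = 0 := congrArg Prod.fst e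
    have h2 : x.d - k * sh x.a = 0 := congrArg Prod.snd e
    exact ⟨h1, hx.1, (mem_Z3' hx h1).2.2, by simpa [h1] using h2⟩, fun e => by simp [pi, e.1, e.2.2.2]⟩
  sur w := ⟨⟨w.1, 0, k * w.1, w.2 + k * sh w.1, 0, 0, by simp, by simp, by simp⟩, ⟨rfl, rfl⟩, by simp [pi]⟩

theorem comm_E (hk : sg k = k) {g h : U K} (hg : g ∈ Pk k) (hh : h ∈ Pk k) : ⁅g, h⁆ ∈ Z2 K :=
  ⟨comm_a g h, comm_b g h, (comm_Q2 hg.1 hh.1).2.2, by simp [hg.1, hg.2, hh.1, hh.2, cr_smul_l hk, cr_comm g.a]⟩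

theorem cz_eq : cz (Pk k) (Pk k) = Z2 K := le_antisymm (fun y hy => by
  have c : ∀ x ∈ Pk k, ⁅x, y⁆ = 1 := fun x hx => commutatorElement_eq_one_iff_mul_comm.2 (hy.2 x hx)
  have h1 : y ∈ Z3 K := mem_Z3' hy.1 (Tr_nondeg fun t => by
    have := (comm_Z3_Q2 (g := xd t) ⟨rfl, rfl, rfl⟩ hy.1.1).1
    rw [c _ (Z3_le ⟨rfl, rfl, rfl⟩)] at this
    simpa [xd] using this.symm)
  refine ⟨h1.1, h1.2.1, h1.2.2, Tr_nondeg fun t => ?_⟩
  have := (comm_Q2_Z3 (xw_mem (t, k * t)) h1).1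
  rw [c _ ⟨rfl, rfl⟩] at this
  simpa [xw, mul_comm] using this.symm)
  fun y hy => ⟨Z3_le (Z2_le_Z3 hy), fun x hx => commutatorElement_eq_one_iff_mul_comm.1 (comm_Q2_Z2 hx.1 hy)⟩

theorem nm {a : U K} (ha : a ∈ Q2 K) : Nm (Pk k) a := fun e he => Z3_le (comm_Q2 he.1 ha)

theorem pi_cj (hk : sg k = k) (t : K) {v : U K} (hv : v ∈ Pk k) :
    pi k (cj (xc t) v) = ((pi k v).1, (pi k v).2 - cr t (pi k v).1) := by
  rw [(cl hk).cj_eq hv (nm (a := xc t) rfl v hv)]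
  simp [pi, xc, hv.1]

theorem pi_xd (d : K) : pi k (xd d) = (0, d) := by simp [pi, xd]

end Twgx

open Twgx

theorem twg (twl : TWL K) : TWG K := by
  intro h2 M B k hk h
  have c := cl hk
  have hN : Inv (Pk k) M (Z2 K) := cz_eq (k := k) ▸ h.inv_cz h.inv_top h.inv_top
  have xdE : ∀ d : K, xd d ∈ Z3 K := fun d => ⟨rfl, rfl, rfl⟩
  have out : xc (1 : K) ∉ Pk k := fun e => by simpa [xc] using e.2
  rcases h.dn hN h.inv_top (X := Z3 K) Z2_le_Z3 Z3_le with h3 | ps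
  · exact out (h.mem2 h3 hN (fun e he => comm_Q2 he.1 rfl) (fun e he => comm_symm (comm_mem_Z2 _ he))
      fun e he => by rw [← commutatorElement_inv, comm_Q2_Z2 rfl he, inv_one])
  have T : ∀ {f}, M f → ¬ B f → (∀ z ∈ Z3 K, f z ∈ Z3 K → z ∈ Z2 K) ∧ ∀ v ∈ Pk k, ∃ z ∈ Z3 K, v⁻¹ * f z ∈ Z3 K :=
    fun {f} hf nf => tv2 h.toCrit (I := PUnit) (fun _ => Q2 K) (fun _ => Z3 K) (fun _ => Z3 K) ps hN h.inv_top
      (fun v hv e he => comm_E hk he hv) (fun _ => ⟨Z2_le_Z3, Z3_le, le_rfl⟩) (fun _ a ha => nm ha)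
      (fun _ a ha v hv => comm_Q2 hv.1 ha) (fun _ a _ v _ hv => comm_symm (comm_mem_Z2 a hv))
      (fun _ w hw hw' z hz => by
        obtain ⟨t, ht⟩ := cr_onto h2 (fun e => hw' (mem_Z3' hw e)) z.d
        have m := mul_mem (inv_mem (comm_Q2 (h := xc t) hw.1 rfl)) hz
        exact ⟨xc t, rfl, m.1, m.2.1, m.2.2, by simp [xc, hw.1, hz.2.1, hz.2.2, ht]⟩)
      (fun _ a ha aE v hv e => mem_Z3' hv (cr_inj h2 (x := a.c - k * a.a) (fun e => aE ⟨ha, sub_eq_zero.1 e⟩) (by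
        have := e.2.2.2
        rw [cr_comm, cr_sub, cr_smul hk, cr_comm v.a a.c]
        simpa [hv.1, hv.2, mem_Q2.1 ha, cr_smul_l hk] using this)))
      (fun _ => ⟨xc 1, rfl, out⟩) (fun _ _ => rfl) hf nf PUnit.unit PUnit.unit
  let L : Subgroup (Au (V2 K)) :=
    { carrier := {g | ∃ f, M f ∧ ∀ v ∈ Pk k, g (pi k v) = pi k (f v)}
      mul_mem' := by
        rintro g g' ⟨f, hf, e⟩ ⟨f', hf', e'⟩
        exact ⟨f ∘ f', h.comp hf hf', fun v hv => by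
          rw [LinearEquiv.mul_apply, e' v hv, e _ (h.mem hf' v hv)]; rfl⟩
      one_mem' := ⟨id, h.id, fun _ _ => rfl⟩
      inv_mem' := by
        rintro g ⟨f, hf, e⟩
        obtain ⟨f', hf', e'⟩ := h.inv hf
        exact ⟨f', hf', fun v hv => g.injective (by
          rw [e _ (h.mem hf' v hv), (e' v hv).2]; exact g.apply_symm_apply _)⟩ }
  have ex : ∀ {f}, M f → ∃ g : Au (V2 K), ∀ v ∈ Pk k, g (pi k v) = pi k (f v) := fun hf => by
    obtain ⟨F, hF⟩ := c.exists_ind h.toCrit hN h.inv_top hf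
    exact ⟨F.toIntLinearEquiv, hF⟩
  have alt : ∀ {f} {g : Au (V2 K)}, M f → ¬ B f → (∀ v ∈ Pk k, g (pi k v) = pi k (f v)) →
      ∀ d, (g (0, d)).1 = 0 → d = 0 := fun hf nf e d hd => by
    rw [← pi_xd (k := k), e _ (Z3_le (xdE d))] at hd
    exact ((T hf nf).1 _ (xdE d) (mem_Z3' (h.mem hf _ (Z3_le (xdE d))) hd)).2.2.2
  obtain ⟨f0, g0, hf0, nf0, hg0, ng0, e0⟩ := h.exists_out
  obtain ⟨G, hG⟩ := ex hf0
  refine one_ne_zero (alt hf0 nf0 hG 1 (twl h2 L (fun t => ?_) ?_ G ⟨f0, hf0, hG⟩ 1))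
  · obtain ⟨g, hg⟩ := ex (h.conj (nm (a := xc t) rfl))
    refine ⟨g, ⟨_, h.conj (nm (a := xc t) rfl), hg⟩, fun v => ?_⟩
    obtain ⟨x, hx, rfl⟩ := c.sur v
    rw [hg x hx, pi_cj hk t hx]
  · rintro g ⟨f, hf, e⟩
    by_cases b : B f
    swap
    · exact .inr (alt hf b e)
    refine .inl fun d => ?_
    rw [← pi_xd (k := k), e _ (Z3_le (xdE d))]
    by_contra wa
    have wE := h.mem hf _ (Z3_le (xdE d))
    obtain ⟨z, hz, m⟩ := (T hf0 nf0).2 _ wE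
    have zE := h.mem hf0 _ (Z3_le hz)
    obtain ⟨t, ht⟩ := cr_onto h2 wa ((pi k (f (xd d))).2 - (pi k (f0 z)).2)
    have mc := h.conj (nm (k := k) (a := xc t) rfl)
    have w' := h.mem mc _ wE
    have p : pi k (f0 z) = pi k (cj (xc t) (f (xd d))) := by
      rw [pi_cj hk t wE, ht]
      exact Prod.ext (neg_add_eq_zero.1 m.1).symm (by simp)
    have q := hN.2 g0 hg0 _ ((c.eq_iff zE w').1 p)
    rw [h.mul hg0 _ (inv_mem zE) _ w', h.map_inv hg0 zE, (e0 z (Z3_le hz)).1] at q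
    have bc : B (cj (xc t)) := by_contra fun n =>
      one_ne_zero ((T mc n).1 _ (xdE 1) ((inferInstance : (Z3 K).Normal).conj_mem _ (xdE 1) _)).2.2.2
    exact wa (hN.2 f hf _ ((T (h.comp (h.comp hg0 mc) hf) (h.outComp (h.comp hg0 mc) (h.outComp hg0 ng0 mc bc) hf b)).1
      _ (xdE d) ((mul_mem_cancel_left (inv_mem hz)).1 (Z2_le_Z3 q)))).1

end CL.TD
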