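/-
Project TD: the twisted field plane has only one shears axis.
-/
import Cfsg.Agent.TD.DefsE
import Cfsg.Agent.TD.Defs1

set_option autoImplicit false
set_option linter.unusedSectionVars false
set_option linter.unusedSimpArgs false

namespace CL.TD

open Cfsg CL.Fus CL.U5

universe u

variable {K : Type u} [Field K] [TF K]

namespace TWLx

/-- the inverse of the cross product with `w⁻¹` -/
def xi (w d : K) : K := (-(sh w / w) * d + sg (sg w) * sg d + sg w * sg (sg d)) / 2

theorem cr_xi (h2 : (2 : K) ≠ 0) {w : K} (hw : w ≠ 0) (d : K) : cr w⁻¹ (xi w d) = d := by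
  have h1 : sg w ≠ 0 := by simpa using hw
  have h3 : sg (sg w) ≠ 0 := by simpa using hw
  simp only [cr, xi, sh, sg_div, sg_add, sg_mul, sg_neg, sg_inv, sg3, sg_two]
  field_simp
  ring

theorem pw_inv {g : Au (V2 K)} (h : PW g) : PW g⁻¹ := fun c =>
  inv_mem_of (W := {v : V2 K | v.1 = 0}) (fun v (hv : v.1 = 0) => by
    rw [show v = (0, v.2) from Prod.ext hv rfl]; exact h _) rfl

end TWLx

open TWLx in
theorem twl : TWL K := by
  intro h2 L hs hL g hg
  by_contra np
  choose s sL hs using hs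
  have inj := (hL g hg).resolve_left np
  have inj' := (hL g⁻¹ (inv_mem hg)).resolve_left fun k => np (by simpa using pw_inv k)
  have zs : ∀ (k : Au (V2 K)) d d', k (0, d - d') = k (0, d) - k (0, d') := fun k d d' => by
    rw [← map_sub]; simp
  have sur : ∀ {k : Au (V2 K)}, (∀ d, (k (0, d)).1 = 0 → d = 0) → ∀ a, ∃ d, (k (0, d)).1 = a := fun {k} hk =>
    (Finite.injective_iff_surjective (f := fun d => (k (0, d)).1)).1 fun d d' e =>
      sub_eq_zero.1 (hk _ (by rw [zs, Prod.fst_sub, sub_eq_zero]; exact e))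
  -- the displacement of `(0, d)` under the conjugate of `s t`
  set D : K → K → V2 K := fun t d => g (0, -cr t (g⁻¹ (0, d)).1) with hD
  have e1 : ∀ t d, (g * s t * g⁻¹) (0, d) = (0, d) + D t d := fun t d => by
    rw [au_mul, au_mul, hs, hD]
    conv_rhs => rw [← au_apply_inv g (0, d)]
    rw [← map_add]; congr 1; ext <;> simp [sub_eq_add_neg]
  have add : ∀ t t' d, D (t + t') d = D t d + D t' d := fun t t' d => by
    simp only [hD]
    rw [← map_add, cr_comm, cr_add, cr_comm _ t, cr_comm _ t']; congr 1; ext <;> simp; ring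
  have ne : ∀ t, t ≠ 0 → ∀ d, (D t d).1 = 0 → d = 0 := fun t ht d e =>
    inj' d (cr_inj h2 ht (neg_eq_zero.1 (inj _ e)))
  have key : ∀ t, t ≠ 0 → ∃ w, w ≠ 0 ∧ ∀ d, (D t d).1 = -xi w d := fun t ht => by
    have m : g * s t * g⁻¹ ∈ L := mul_mem (mul_mem hg (sL t)) (inv_mem hg)
    obtain ⟨d0, hd0⟩ := sur inj 1
    obtain ⟨d1, hd1⟩ := sur (k := g * s t * g⁻¹) (fun d e => ne t ht d (by simpa [e1] using e)) 1
    obtain ⟨u, hu⟩ := cr_surj h2 (one_ne_zero (α := K)) ((g (0, d0)).2 - ((g * s t * g⁻¹) (0, d1)).2)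
    have m2 : (s u * g)⁻¹ * (g * s t * g⁻¹) ∈ L := mul_mem (inv_mem (mul_mem (sL u) hg)) m
    have e2 : (s u * g) (0, d0) = (g * s t * g⁻¹) (0, d1) := by
      rw [au_mul (s u), hs, hd0, cr_comm, hu, sub_sub_cancel, ← hd1]
    have d1ne : d1 ≠ 0 := by rintro rfl; simp [show ((0 : K), (0 : K)) = 0 from rfl] at hd1
    have pw : PW ((s u * g)⁻¹ * (g * s t * g⁻¹)) := (hL _ m2).resolve_right fun k =>
      d1ne (k d1 (by rw [au_mul, ← e2, au_inv_apply]))
    have e3 : ∀ d, d = -cr u (D t d).1 := fun d => by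
      obtain ⟨c, hc⟩ : ∃ c, (g * s t * g⁻¹) (0, d) = (s u * g) (0, c) :=
        ⟨_, by rw [← au_apply_inv (s u * g) ((g * s t * g⁻¹) (0, d)), ← au_mul (s u * g)⁻¹]
               exact congrArg _ (Prod.ext (pw d) rfl)⟩
      rw [e1, au_mul, hs] at hc
      have c1 : (D t d).1 = (g (0, c)).1 := by simpa using congrArg Prod.fst hc
      have c2 : d + (D t d).2 = (g (0, c)).2 - cr u (g (0, c)).1 := by simpa using congrArg Prod.snd hc
      have c3 : c = -cr t (g⁻¹ (0, d)).1 := sub_eq_zero.1 (inj _ (by rw [zs, Prod.fst_sub, ← c1, hD, sub_self]))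
      have c4 : D t d = g (0, c) := by rw [c3]
      rw [← c4] at c2
      linear_combination c2
    have u0 : u ≠ 0 := by rintro rfl; simpa using e3 1
    refine ⟨u⁻¹, inv_ne_zero u0, fun d => ?_⟩
    have := cr_xi h2 (inv_ne_zero u0) d
    rw [inv_inv] at this
    exact eq_neg_of_add_eq_zero_left (cr_inj h2 u0 (by rw [cr_add, this]; linear_combination e3 d))
  choose! W W0 hW using key
  have Winj : ∀ t t', t ≠ 0 → t' ≠ 0 → W t = W t' → t = t' := fun t t' h h' e => by
    by_contra k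
    have := add (t - t') t' 1
    rw [sub_add_cancel] at this
    have e' := congrArg Prod.fst this
    rw [Prod.fst_add, hW t h, hW t' h', e, right_eq_add] at e'
    exact one_ne_zero (ne _ (sub_ne_zero.2 k) 1 e')
  have Wsur : ∀ w, w ≠ 0 → ∃ t, t ≠ 0 ∧ W t = w := fun w hw => by
    obtain ⟨t, e⟩ := (Finite.injective_iff_surjective
      (f := fun t : {t : K // t ≠ 0} => (⟨W t, W0 _ t.2⟩ : {t : K // t ≠ 0}))).1
      (fun t t' e => Subtype.ext (Winj _ _ t.2 t'.2 (congrArg Subtype.val e))) ⟨w, hw⟩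
    exact ⟨t, t.2, congrArg Subtype.val e⟩
  obtain ⟨w, hw⟩ := exists_ne K
  have w0 : w ≠ 0 := by rintro rfl; simp at hw
  obtain ⟨t1, h1, a1⟩ := Wsur 1 one_ne_zero
  obtain ⟨t2, h3, a2⟩ := Wsur w w0
  have sum : ∀ d, (D (t1 + t2) d).1 = -xi 1 d + -xi w d := fun d => by rw [add, Prod.fst_add, hW _ h1, hW _ h3, a1, a2]
  by_cases z : t1 + t2 = 0
  · have := (dedekind (r0 := -1 + -(sh w / w)) (r1 := 1 + sg (sg w)) (r2 := 1 + sg w) fun d => by
      have := sum d
      simp only [z, hD, cr_zero_l, neg_zero, show ((0 : K), (0 : K)) = 0 from rfl, map_zero, Prod.fst_zero, xi, sh_one,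
        sg_one] at this
      field_simp at this ⊢
      linear_combination this).2.2
    have e : w = -1 := sg_inj (by rw [sg_neg, sg_one]; linear_combination this)
    exact hw (by rw [e]; simp)
  · obtain ⟨b0, -, b2⟩ := dedekind (r0 := -1 + -(sh w / w) + sh (W (t1 + t2)) / W (t1 + t2))
      (r1 := 1 + sg (sg w) - sg (sg (W (t1 + t2)))) (r2 := 1 + sg w - sg (W (t1 + t2))) fun d => by
      have := sum d
      rw [hW _ z] at this
      simp only [xi, sh_one, sg_one] at this
      generalize sh w / w = A at this ⊢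
      generalize sh (W (t1 + t2)) / W (t1 + t2) = A' at this ⊢
      field_simp at this
      linear_combination this
    have e : W (t1 + t2) = 1 + w := sg_inj (by rw [sg_add, sg_one]; linear_combination -b2)
    have n := W0 _ z
    rw [e] at b0 n
    simp only [sh, sg_add, sg_one] at b0
    field_simp at b0
    exact mul_ne_zero (sub_ne_zero.2 hw) (sub_ne_zero.2 (sg2_ne hw)) (by linear_combination -b0)

end CL.TD
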