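/-
Project TD: the centralizer of `E` modulo `Z2` is not a single line modulo `Z3`.
-/
import Cfsg.Agent.TD.FldE

set_option autoImplicit false
set_option linter.unusedSectionVars false
set_option linter.unusedVariables false

namespace CL.TD

open Cfsg CL.Fus CL.U5
open scoped commutatorElement

universe u

variable {K : Type u} [Field K] [TF K]

namespace XA1x

/-- the elements of `Q2` whose product with `r` is a multiple of `δ` -/
def Ar (r : V2 K) (δ : K) : Subgroup (U K) where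
  carrier := {x | x ∈ Q2 K ∧ ∃ s, sg s = s ∧ omw r (pW x) = s * δ}
  mul_mem' := fun {g h} ⟨hg, s, hs, e1⟩ ⟨hh, t, ht, e2⟩ => ⟨mul_mem hg hh, s + t, by simp [hs, ht],
    by rw [pW_mul g hh, omw_add, e1, e2, add_mul]⟩
  one_mem' := ⟨one_mem _, 0, by simp, by simp [omw, pW]⟩
  inv_mem' := fun {g} ⟨hg, s, hs, e1⟩ => ⟨inv_mem hg, -s, by simp [hs], by
    have k := omw_add r (pW g⁻¹) (pW g)
    rw [← pW_mul _ hg, inv_mul_cancel, e1, show omw r (pW 1) = 0 by simp [omw, pW]] at k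
    linear_combination -k⟩

theorem omw_xc (r : V2 K) (t : K) : omw r (pW (xc t)) = cr t r.1 := by simp [omw, pW, xc]

theorem xc_mem (t : K) : xc t ∈ Q2 K := rfl

theorem div_d {u z : U K} (hu : u ∈ Z3 K) : (u⁻¹ * z).d = z.d - u.d := by
  simp [hu.1, hu.2.1, hu.2.2]; ring

end XA1x

open XA1x

theorem xa1 : XA1 K := fun E M B h hN z3 ps r hr r3 hY => by
  have hV : Inv E M (czm E E (Z2 K)) := h.inv_czm h.inv_top h.inv_top hN
  have z3Y : Z3 K ≤ czm E E (Z2 K) := fun v hv => mem_czm.2 ⟨z3 hv, fun e _ => comm_mem_Z2 e hv⟩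
  have hc : ∀ v ∈ czm E E (Z2 K), ∀ e ∈ E, ⁅e, v⁆ ∈ Z2 K := fun v hv => (mem_czm.1 hv).2
  generalize czm E E (Z2 K) = Y at *
  have yq : ∀ {v}, v ∈ Y → v ∈ Q2 K := fun hv => h.q2 (hV.1 hv)
  have a0 : (pW r).1 ≠ 0 := ne_of_ndep (h.rank (fun e => r3 ((pW_eq_zero (yq hr)).1 e))
    fun g hg => (comm_Z2_iff (h.q2 hg) (yq hr)).1 (hc r hr g hg))
  have mu : ∀ v ∈ Y, ∃ s, sg s = s ∧ (s = 0 → v ∈ Z3 K) ∧ ∀ x, omw (pW v) x = s * omw (pW r) x := fun v hv => by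
    obtain ⟨s, hs, e0, e⟩ := omw_Mu (hY hv).2
    exact ⟨s, hs, fun k => (pW_eq_zero (yq hv)).1 (e0 k), e⟩
  have perp : ∀ x ∈ Q2 K, omw (pW r) (pW x) = 0 → x ∈ E := fun x hx e =>
    h.mem2 hV hN (fun g hg => z3Y (comm_Q2 (h.q2 hg) hx))
      (fun v hv => (comm_Z2_iff (yq hv) hx).2 (by obtain ⟨s, -, -, k⟩ := mu v hv; rw [k, e, mul_zero]))
      fun v hv => by rw [← commutatorElement_inv, comm_Q2_Z2 hx hv, inv_one]
  obtain ⟨f, hf, nf⟩ := h.out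
  have main := tv2 h.toCrit (I := {δ : K // δ ≠ 0}) (fun δ => Ar (pW r) δ) (fun δ => Ld δ) (fun _ => Z3 K) ps hN hV hc
    (fun δ => ⟨Z2_le_Ld _, fun _ hz => z3Y hz.1, fun _ hz => hz.1⟩)
    (fun δ a ha e he => z3 (comm_Q2 (h.q2 he) ha.1))
    (fun δ a ⟨ha, s, hs, e⟩ v hv => by
      obtain ⟨t, ht, -, k⟩ := mu v hv
      exact ⟨comm_Q2 (yq hv) ha, t * s, by simp [hs, ht], by rw [comm_omw (yq hv) ha, k, e, mul_assoc]⟩)
    (fun δ a _ v _ hv => comm_symm (comm_mem_Z2 a hv))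
    (fun δ w hw w3 z ⟨hz, s, hs, e⟩ => by
      obtain ⟨t, ht, t0, k⟩ := mu w hw
      have t1 : t ≠ 0 := fun e => w3 (t0 e)
      obtain ⟨c, e1⟩ := cr_onto h.two a0 (z.d / t)
      have u3 := comm_Q2 (yq hw) (xc_mem c)
      have m := mul_mem (inv_mem u3) hz
      refine ⟨xc c, ⟨xc_mem c, s / t, by simp [hs, ht], by rw [omw_xc, e1, e]; ring⟩, m.1, m.2.1, m.2.2, ?_⟩
      rw [div_d u3, comm_omw (yq hw) (xc_mem c), k, omw_xc, e1, mul_div_cancel₀ _ t1, sub_self])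
    (fun δ a ha aE v hv e => by
      obtain ⟨t, -, t0, k⟩ := mu v hv
      have := (comm_Z2_iff (yq hv) ha.1).1 e
      rw [k, mul_eq_zero] at this
      exact t0 (this.resolve_right fun e => aE (perp a ha.1 e)))
    (fun δ => by
      obtain ⟨c, e1⟩ := cr_onto h.two a0 δ.1
      refine ⟨xc c, ⟨xc_mem c, 1, sg_one, by rw [omw_xc, e1, one_mul]⟩, fun hE => δ.2 ?_⟩
      rw [← e1, ← omw_xc]
      exact (comm_Z2_iff (yq hr) (xc_mem c)).1 (comm_symm (hc r hr _ hE)))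
    (fun i j => card_Ld i.2 j.2) hf nf
  obtain ⟨t, ht⟩ := exists_ne K
  have x3 : xd t ∈ Z3 K := ⟨rfl, rfl, rfl⟩
  obtain ⟨z, ⟨hz, s, hs, e⟩, k⟩ := (main ⟨1, one_ne_zero⟩ ⟨1, one_ne_zero⟩).2 _ (hV.2 f hf _ (z3Y x3))
  rw [← h.map_inv hf (z3 x3), ← h.mul hf _ (inv_mem (z3 x3)) _ (z3 hz)] at k
  have d0 : ((xd t)⁻¹ * z).d ≠ 0 := fun e0 => by
    rw [div_d x3, e, mul_one, sub_eq_zero] at e0
    exact ht ((show s = t from e0) ▸ hs)
  exact d0 ((main ⟨_, d0⟩ ⟨1, one_ne_zero⟩).1 _ ⟨mul_mem (inv_mem x3) hz, 1, sg_one, (one_mul _).symm⟩ k).2.2.2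

end CL.TD
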