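/-
Project TD: the centralizer of an essential subgroup modulo `Z2` lies in `Z3` (second part).
-/
import Cfsg.Agent.TD.FldE

set_option autoImplicit false
set_option linter.unusedSectionVars false
set_option linter.unusedVariables false

namespace CL.TD

open Cfsg CL.Fus CL.U5
open scoped commutatorElement

universe u

namespace XA2x

variable {K : Type u} [Field K] [TF K]

theorem omw_one (r : V2 K) : omw r (pW (1 : U K)) = 0 := by simp [pW, omw, cr]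

/-- the elements of `Q2` orthogonal to `r` -/
def Ar (r : V2 K) : Subgroup (U K) where
  carrier := {x | x ∈ Q2 K ∧ omw r (pW x) = 0}
  mul_mem' := fun {g h} hg hh => ⟨mul_mem hg.1 hh.1, by rw [pW_mul g hh.1, omw_add, hg.2, hh.2, add_zero]⟩
  one_mem' := ⟨one_mem _, omw_one r⟩
  inv_mem' := fun {g} hg => ⟨inv_mem hg.1, by
    have e := omw_add r (pW g) (pW g⁻¹)
    rw [← pW_mul g (inv_mem hg.1), mul_inv_cancel, hg.2, zero_add, omw_one] at e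
    exact e.symm⟩

theorem mem_Z2_of {g z : U K} (hg : g ∈ Z3 K) (hz : z ∈ Z3 K) (e : g.d = z.d) : g⁻¹ * z ∈ Z2 K := by
  have k := mul_mem (inv_mem hg) hz
  exact ⟨k.1, k.2.1, k.2.2, by simp [hg.1, e]⟩

end XA2x

open XA2x in
theorem xa2 {K : Type u} [Field K] [TF K] : XA2 K := by
  intro E M B h hZ2 hZ3 ps hyp
  have iY : Inv E M (czm E E (Z2 K)) := h.inv_czm h.inv_top h.inv_top hZ2
  have Z3Y : Z3 K ≤ czm E E (Z2 K) := fun v hv => mem_czm.2 ⟨hZ3 hv, fun e _ => comm_mem_Z2 e hv⟩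
  have cY : ∀ v ∈ czm E E (Z2 K), ∀ e ∈ E, ⁅e, v⁆ ∈ Z2 K := fun v hv => (mem_czm.1 hv).2
  generalize czm E E (Z2 K) = Y at *
  have YQ : ∀ {v}, v ∈ Y → v ∈ Q2 K := fun hv => h.q2 (iY.1 hv)
  have om : ∀ {v e}, v ∈ Y → e ∈ E → omw (pW e) (pW v) = 0 := fun hv he =>
    (comm_Z2_iff (h.q2 he) (YQ hv)).1 (cY _ hv _ he)
  have nd : ∀ {r}, r ∈ Y → r ∉ Z3 K → ¬ Dep (pW r) := fun hr n =>
    h.rank (fun e => n ((pW_eq_zero (YQ hr)).1 e)) fun g hg => om hr hg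
  have perp : ∀ {x}, x ∈ Q2 K → (∀ v ∈ Y, omw (pW v) (pW x) = 0) → x ∈ E := fun hx e =>
    h.mem2 iY hZ2 (fun g hg => Z3Y (comm_Q2 (h.q2 hg) hx)) (fun v hv => (comm_Z2_iff (YQ hv) hx).2 (e v hv))
      fun g hg => by rw [← commutatorElement_inv, comm_Q2_Z2 hx hg, inv_one]
  intro r0 h0
  by_contra n0
  obtain ⟨f, hf, nf⟩ := h.out
  have main := tv2 (I := {r : U K // r ∈ Y ∧ r ∉ Z3 K}) h.toCrit (fun r => Ar (pW r.1)) (fun r => Ld (nn (pW r.1)))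
    (fun r => Mr (pW r.1)) ps hZ2 iY cY
    (fun r => ⟨Z2_le_Ld _, fun g hg => Z3Y hg.1, fun g hg => Z3_le_Mr _ hg.1⟩)
    (fun r a ha e he => hZ3 (comm_Q2 (h.q2 he) ha.1)) ?_ ?_ ?_ ?_ ?_
    (fun r r' => card_Ld (nn_eq_zero.not.2 (nd r.2.1 r.2.2)) (nn_eq_zero.not.2 (nd r'.2.1 r'.2.2))) hf nf ⟨r0, h0, n0⟩
  · have hz : xd (nn (pW r0)) ∈ Ld (nn (pW r0)) := ⟨⟨rfl, rfl, rfl⟩, 1, by simp, (one_mul _).symm⟩
    have hu := iY.2 f hf _ (Z3Y hz.1)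
    refine nd h0 n0 (nn_eq_zero.1 (show xd (nn (pW r0)) ∈ Z2 K from ?_).2.2.2)
    by_cases c : f (xd (nn (pW r0))) ∈ Z3 K
    · exact (main ⟨r0, h0, n0⟩).1 _ hz (Z3_le_Mr _ c)
    · exact (main ⟨_, hu, c⟩).1 _ hz ⟨YQ hu, Mu_refl _⟩
  · rintro ⟨r, hr, n⟩ a ha v hv
    refine ⟨comm_Q2 (YQ hv) ha.1, ?_⟩
    rw [comm_omw (YQ hv) ha.1]
    exact perp_line h.two (ne_of_ndep (nd hr n)) (om hv (iY.1 hr)) ha.2
  · rintro ⟨r, hr, n⟩ a ha v hv vH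
    obtain ⟨s, -, -, e⟩ := omw_Mu vH.2
    exact (comm_Z2_iff (YQ hv) ha.1).2 (by rw [e, ha.2, mul_zero])
  · rintro ⟨r, hr, n⟩ w hw wH z ⟨hz, s, hs, e⟩
    obtain ⟨x, e1, e2⟩ := perp_onto h.two (ne_of_ndep (nd hr n)) (om hw (iY.1 hr)) (fun k => wH ⟨YQ hw, k⟩) hs
    exact ⟨xw x, ⟨xw_mem x, e1⟩, mem_Z2_of (comm_Q2 (YQ hw) (xw_mem x)) hz (by
      rw [comm_omw (YQ hw) (xw_mem x), pW_xw, e2, e])⟩
  · rintro ⟨r, hr, n⟩ a ha aE v hv c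
    by_contra vH
    refine aE (perp ha.1 fun v' hv' => ?_)
    obtain ⟨α, β, h1, h2, e1, e2⟩ := iso h.two (nd hr n) (om hv (iY.1 hr)) (fun k => vH ⟨YQ hv, k⟩)
      (om hv' (iY.1 hr)) (om hv' (iY.1 hv))
    rw [omw_comb h1 h2 e1 e2, ha.2, (comm_Z2_iff (YQ hv) ha.1).1 c, mul_zero, mul_zero, add_zero]
  · rintro ⟨r, hr, n⟩
    obtain ⟨w, hw, wH⟩ := SetLike.not_le_iff_exists.1 (hyp r hr n)
    obtain ⟨x, e1, e2⟩ := perp_onto h.two (ne_of_ndep (nd hr n)) (om hw (iY.1 hr)) (fun k => wH ⟨YQ hw, k⟩)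
      (s := 1) (by simp)
    refine ⟨xw x, ⟨xw_mem x, e1⟩, fun xE => nd hr n (nn_eq_zero.1 ?_)⟩
    have k := om hw xE
    rw [pW_xw, omw_swap, neg_eq_zero, e2, one_mul] at k
    exact k

end CL.TD
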