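/-
Project TD: the centre of an essential subgroup containing `Z3`.
-/
import Cfsg.Agent.TD.FldE

set_option autoImplicit false

namespace CL.TD

open Cfsg CL.Fus CL.U5
open scoped commutatorElement

universe u

variable {K : Type u} [Field K] [TF K]

namespace XB1y

def Hc (c : K) : Subgroup (U K) where
  carrier := {v | v ∈ Z3 K ∧ Tr (v.d * c) = 0}
  mul_mem' := fun {g h} hg hh => ⟨mul_mem hg.1 hh.1, by simp [hg.1.1, add_mul, Tr_add, hg.2, hh.2]⟩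
  one_mem' := ⟨one_mem _, by simp⟩
  inv_mem' := fun {g} hg => ⟨inv_mem hg.1, by simp [hg.1.1, hg.2]⟩

theorem cm {v x : U K} {α γ c s : K} (hv : v ∈ Z3 K) (hx : x ∈ Q2 K) (h1 : sg α = α) (h2 : sg γ = γ) (hs : sg s = s)
    (e1 : x.a = s * (α * c)) (e2 : x.c = s * (γ * c)) :
    ⁅v, x⁆.y = -(s * Tr (v.d * c)) * α ∧ ⁅v, x⁆.z = -(s * Tr (v.d * c)) * γ := by
  rw [(comm_Z3_Q2 hv hx).1, (comm_Z3_Q2 hv hx).2, e1, e2]
  simp only [Tr, sg_mul, h1, h2, hs]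
  exact ⟨by ring, by ring⟩

theorem one_iff {g : U K} (h : g ∈ Z2 K) : g ∈ (⊥ : Subgroup (U K)) ↔ g.y = 0 ∧ g.z = 0 := by
  rw [Subgroup.mem_bot, eq_one_iff]; simp [h.1, h.2.1, h.2.2.1, h.2.2.2]

end XB1y

open XB1y in
theorem xb1' : XB1 K := by
  intro E M B h ps z3 v0 hv0
  by_contra n0
  have hV := h.inv_cz h.inv_top h.inv_top
  have V3 : cz E E ≤ Z3 K := fun v hv => by
    have q := h.q2 hv.1
    have k : ∀ t, ⁅v, xd t⁆ = 1 := fun t =>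
      commutatorElement_eq_one_iff_mul_comm.2 (hv.2 (xd t) (z3 ⟨rfl, rfl, rfl⟩)).symm
    exact ⟨Tr_nondeg fun t => ((comm_Q2_Z3 q (h := xd t) ⟨rfl, rfl, rfl⟩).1).symm.trans (by rw [k]; rfl), q,
      Tr_nondeg fun t => ((comm_Q2_Z3 q (h := xd t) ⟨rfl, rfl, rfl⟩).2).symm.trans (by rw [k]; rfl)⟩
  have zV : Z2 K ≤ cz E E := fun z hz =>
    ⟨h.z2 hz, fun x hx => commutatorElement_eq_one_iff_mul_comm.1 (comm_Q2_Z2 (h.q2 hx) hz)⟩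
  have d0 : v0.d ≠ 0 := fun e => n0 ⟨(V3 hv0).1, (V3 hv0).2.1, (V3 hv0).2.2, e⟩
  obtain ⟨c, hc⟩ := exists_Tr d0 sg_one
  rw [mul_comm] at hc
  have c2 : ∀ {v x : U K}, v ∈ cz E E → ⁅v, x⁆ ∈ Z2 K := fun hv => comm_symm (comm_mem_Z2 _ (V3 hv))
  obtain ⟨f, hf, nf⟩ := h.out
  have main := fun i j => tv2 h.toCrit (N := ⊥) (V := cz E E)
    (I := {p : K × K // sg p.1 = p.1 ∧ sg p.2 = p.2 ∧ (p.1 ≠ 0 ∨ p.2 ≠ 0)})
    (fun p => Mr (p.1.1 * c, p.1.2 * c)) (fun p => Ln p.1.1 p.1.2) (fun _ => Hc c) ps h.inv_bot hV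
    (fun v hv e he => commutatorElement_eq_one_iff_mul_comm.2 (hv.2 e he))
    (fun i => ⟨bot_le, fun z hz => zV hz.1, fun z hz => ⟨Z2_le_Z3 hz.1, by simp [hz.1.2.2.2]⟩⟩)
    (fun i a ha e he => z3 (comm_Q2 (h.q2 he) ha.1))
    (fun i a ⟨ha, s, hs, e1, e2⟩ v hv => ⟨c2 hv, _, by simp [hs], cm (V3 hv) ha i.2.1 i.2.2.1 hs e1 e2⟩)
    (fun i a ⟨ha, s, hs, e1, e2⟩ v hv hH => (one_iff (c2 hv)).2 (by
      simpa [hH.2] using cm (V3 hv) ha i.2.1 i.2.2.1 hs e1 e2))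
    (fun i w hw nH z ⟨hz, s, hs, e1, e2⟩ => by
      have t0 : Tr (w.d * c) ≠ 0 := fun e => nH ⟨V3 hw, e⟩
      have hs' : sg (-s / Tr (w.d * c)) = -s / Tr (w.d * c) := by simp [hs]
      refine ⟨xw (_ * (i.1.1 * c), _ * (i.1.2 * c)), ⟨xw_mem _, _, hs', rfl, rfl⟩, ?_⟩
      obtain ⟨k1, k2⟩ := cm (V3 hw) (xw_mem (_ * (i.1.1 * c), _ * (i.1.2 * c))) i.2.1 i.2.2.1 hs' rfl rfl
      rw [div_mul_cancel₀ _ t0, neg_neg] at k1 k2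
      have k := c2 (x := xw (-s / Tr (w.d * c) * (i.1.1 * c), -s / Tr (w.d * c) * (i.1.2 * c))) hw
      rw [Subgroup.mem_bot, inv_mul_eq_one]
      exact U.ext (k.1.trans hz.1.symm) (k.2.1.trans hz.2.1.symm) (k.2.2.1.trans hz.2.2.1.symm)
        (k.2.2.2.trans hz.2.2.2.symm) (k1.trans e1.symm) (k2.trans e2.symm))
    (fun i a ⟨ha, s, hs, e1, e2⟩ nE v hv k => ⟨V3 hv, by
      have s0 : s ≠ 0 := fun e => nE (z3 ⟨by simpa [e, pW] using e1, ha, by simpa [e, pW] using e2⟩)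
      obtain ⟨k1, k2⟩ := cm (V3 hv) ha i.2.1 i.2.2.1 hs e1 e2
      obtain ⟨k3, k4⟩ := (one_iff (c2 hv)).1 k
      rw [k3] at k1; rw [k4] at k2
      rcases i.2.2.2 with e | e
      · simpa [e, s0] using k1
      · simpa [e, s0] using k2⟩)
    (fun i => ⟨xw (i.1.1 * c, i.1.2 * c), ⟨xw_mem _, Mu_refl _⟩, fun k => by
      obtain ⟨k1, k2⟩ := cm (V3 hv0) (xw_mem (i.1.1 * c, i.1.2 * c)) i.2.1 i.2.2.1 sg_one (one_mul _).symm (one_mul _).symm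
      rw [commutatorElement_eq_one_iff_mul_comm.2 (hv0.2 _ k).symm, hc] at k1 k2
      rcases i.2.2.2 with e | e
      · exact e (by simpa using k1)
      · exact e (by simpa using k2)⟩)
    (fun i j => (card_Ln i.2.1 i.2.2.1 i.2.2.2).trans (card_Ln j.2.1 j.2.2.1 j.2.2.2).symm) hf nf i j
  have z2 : xz 1 sg_one ∈ Z2 K := ⟨rfl, rfl, rfl, rfl⟩
  obtain ⟨z, ⟨hz, s, -, -, e⟩, k⟩ := (main ⟨(1, 0), by simp⟩ ⟨(1, 0), by simp⟩).2 _ (hV.2 f hf _ (zV z2))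
  rw [← h.map_inv hf (h.z2 z2), ← h.mul hf _ (inv_mem (h.z2 z2)) _ (h.z2 hz)] at k
  have u2 := mul_mem (inv_mem z2) hz
  have uz : ((xz 1 sg_one : U K)⁻¹ * z).z = -1 := by simp [xz, e, hz.2.1]
  generalize (xz 1 sg_one : U K)⁻¹ * z = w at k u2 uz
  have := (main ⟨(w.y, w.z), w.hy, w.hz, .inr (by simp [uz])⟩ ⟨(1, 0), by simp⟩).1 _ ⟨u2, 1, by simp⟩ k
  rw [Subgroup.mem_bot.1 this] at uz
  simp at uz

end CL.TD
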