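/-
Project TD: a centre of rank one over `Z3` forces `Z3 ≤ E`.
-/
import Cfsg.Agent.TD.FldE

set_option autoImplicit false
set_option linter.unusedSectionVars false
set_option linter.unusedVariables false

namespace CL.TD

open Cfsg CL.Fus CL.U5
open scoped commutatorElement

universe u

variable {K : Type u} [Field K] [TF K]

namespace XB2x

theorem co {r v : U K} (hv : v ∈ Mr (pW r)) : ∃ s, sg s = s ∧ v.a = s * r.a ∧ (s = 0 → v ∈ Z3 K) ∧
    ∀ x ∈ Z3 K, ⁅v, x⁆.y = s * Tr (x.d * r.a) ∧ ⁅v, x⁆.z = s * Tr (x.d * r.c) := by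
  obtain ⟨q, s, hs, (e1 : v.a = s * r.a), (e2 : v.c = s * r.c)⟩ := hv
  refine ⟨s, hs, e1, fun e => ⟨by simp [e1, e], q, by simp [e2, e]⟩, fun x hx => ?_⟩
  rw [(comm_Q2_Z3 q hx).1, (comm_Q2_Z3 q hx).2, e1, e2, ← Tr_smul hs, ← Tr_smul hs]
  exact ⟨by ring_nf, by ring_nf⟩

theorem z2_ext {g h : U K} (hg : g ∈ Z2 K) (hh : h ∈ Z2 K) (e1 : g.y = h.y) (e2 : g.z = h.z) : g = h :=
  U.ext (hg.1.trans hh.1.symm) (hg.2.1.trans hh.2.1.symm) (hg.2.2.1.trans hh.2.2.1.symm)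
    (hg.2.2.2.trans hh.2.2.2.symm) e1 e2

/-- the element of `Z2` with given coordinates -/
def yz (c : {x : K // sg x = x} × {x : K // sg x = x}) : U K := ⟨0, 0, 0, 0, c.1, c.2, by simp, c.1.2, c.2.2⟩

theorem yz_mem (c : {x : K // sg x = x} × {x : K // sg x = x}) : yz c ∈ Z2 K := ⟨rfl, rfl, rfl, rfl⟩

end XB2x

open XB2x

theorem xb2 : XB2 K := by
  intro E M B h r hr r3 hV
  have c := h.toCrit
  have iV : Inv E M (cz E E) := c.inv_cz c.inv_top c.inv_top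
  have cV : ∀ v ∈ cz E E, ∀ e ∈ E, ⁅e, v⁆ = 1 := fun v hv e he =>
    commutatorElement_eq_one_iff_mul_comm.2 ((mem_cz.1 hv).2 e he)
  have zV : Z2 K ≤ cz E E := fun z hz => mem_cz.2 ⟨h.z2 hz, fun e he =>
    commutatorElement_eq_one_iff_mul_comm.1 (comm_Q2_Z2 (h.q2 he) hz)⟩
  have rq : r ∈ Q2 K := h.q2 hr.1
  have nd : ¬ Dep (pW r) := h.rank (fun e => r3 ((pW_eq_zero rq).1 e)) fun g hg => by
    rw [← comm_omw (h.q2 hg) rq, cV r hr g hg, one_d]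
  have a0 : r.a ≠ 0 := ne_of_ndep nd
  by_contra hn
  obtain ⟨x0, hx0, nx0⟩ := SetLike.not_le_iff_exists.1 hn
  obtain ⟨f, hf, nf⟩ := c.out
  have main := (tv tv0 (U K) E M B c ⊥ (cz E E) PUnit (fun _ => Z3 K) (fun _ => Z2 K) (fun _ => Z3 K) c.inv_bot
    (fun n hn x => by rw [Subgroup.mem_bot.1 hn, commutatorElement_one_left]) iV cV
    (fun _ => ⟨bot_le, zV, Z2_le_Z3⟩) (fun _ a ha e _ => comm_mem_Z2 e ha) (fun _ a ha v _ hv => comm_Z3 hv ha)
    (fun _ w hw w3 z hz => ?_) (fun _ a ha aE v hv e => ?_) (fun _ => ⟨x0, hx0, nx0⟩) (fun _ _ => rfl)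
    f hf nf PUnit.unit PUnit.unit).1
  · have fV : ∀ g ∈ Z2 K, f g ∈ cz E E := fun g hg => iV.2 f hf g (zV hg)
    have k := Nat.card_le_card_of_injective (fun c => (⟨(f (yz c)).a / r.a, by
      obtain ⟨s, hs, e, -⟩ := co (hV (fV _ (yz_mem c)))
      rw [e, mul_div_cancel_right₀ _ a0, hs]⟩ : {x : K // sg x = x})) fun g g' e => by
      have e1 : (f (yz g)).a = (f (yz g')).a := (div_left_inj' a0).1 (congrArg Subtype.val e)
      have m := mul_mem (inv_mem (yz_mem g)) (yz_mem g')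
      obtain ⟨s, -, e2, e3, -⟩ := co (hV (fV _ m))
      rw [c.mul hf _ (inv_mem (h.z2 (yz_mem g))) _ (h.z2 (yz_mem g')), c.map_inv hf (h.z2 (yz_mem g)), mul_a, inv_a, e1,
        neg_add_cancel] at e2
      have e4 := inv_mul_eq_one.1 (Subgroup.mem_bot.1 (main _ m (e3 ((mul_eq_zero.1 e2.symm).resolve_right a0))))
      exact Prod.ext (Subtype.ext (congrArg U.y e4)) (Subtype.ext (congrArg U.z e4))
    rw [Nat.card_prod, card_fix] at k
    have q2 := two_le_q (K := K)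
    have := Nat.mul_le_mul_left (TF.q K) q2
    omega
  · obtain ⟨s, hs, -, e1, e2⟩ := co (hV hw)
    have s0 : s ≠ 0 := fun e => w3 (e1 e)
    obtain ⟨t, h1, h2⟩ := two_onto nd (y := z.y / s) (z := z.z / s) (by simp [hs]) (by simp [hs])
    have tm : xd t ∈ Z3 K := ⟨rfl, rfl, rfl⟩
    refine ⟨xd t, tm, Subgroup.mem_bot.2 (inv_mul_eq_one.2 (z2_ext (comm_mem_Z2 w tm) hz ?_ ?_))⟩
    · exact (e2 _ tm).1.trans ((congrArg (s * ·) h1).trans (mul_div_cancel₀ _ s0))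
    · exact (e2 _ tm).2.trans ((congrArg (s * ·) h2).trans (mul_div_cancel₀ _ s0))
  · by_contra v3
    obtain ⟨s, hs, -, e1, e2⟩ := co (hV hv)
    have s0 : s ≠ 0 := fun e => v3 (e1 e)
    obtain ⟨k1, k2⟩ := e2 a ha
    rw [Subgroup.mem_bot.1 e] at k1 k2
    refine aE (c.mem1 iV (fun e _ => zV (comm_mem_Z2 e ha)) fun w hw => ?_)
    obtain ⟨s', -, -, -, e3⟩ := co (hV hw)
    refine z2_ext (comm_mem_Z2 w ha) (one_mem _) ?_ ?_
    · rw [(e3 a ha).1, (mul_eq_zero.1 k1.symm).resolve_left s0, mul_zero, one_y]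
    · rw [(e3 a ha).2, (mul_eq_zero.1 k2.symm).resolve_left s0, mul_zero, one_z]

end CL.TD
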