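/-
Project TD: the centre of an essential subgroup inside `Q2`, the case of two independent directions.
-/
import Cfsg.Agent.TD.FldE

set_option autoImplicit false
set_option linter.unusedSectionVars false

namespace CL.TD

open Cfsg CL.Fus CL.U5
open scoped commutatorElement

universe u

variable {K : Type u} [Field K] [TF K]

namespace XB3x

theorem z2_ext {g h : U K} (hg : g ∈ Z2 K) (hh : h ∈ Z2 K) (e1 : g.y = h.y) (e2 : g.z = h.z) : g = h :=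
  U.ext (hg.1.trans hh.1.symm) (hg.2.1.trans hh.2.1.symm) (hg.2.2.1.trans hh.2.2.1.symm)
    (hg.2.2.2.trans hh.2.2.2.symm) e1 e2

/-- the commutator of an element of the plane with an element of the line -/
theorem cm {r w : V2 K} {v a : U K} (hv : v ∈ Q2 K) (ha : a ∈ Z3 K) {α β s : K} (hα : sg α = α) (hβ : sg β = β)
    (hs : sg s = s) (e1 : v.a = α * r.1 + β * w.1) (e2 : v.c = α * r.2 + β * w.2) (e : a.d = s * nn r) :
    ⁅v, a⁆.y = s * β * Tr (nn r * w.1) ∧ ⁅v, a⁆.z = s * β * Tr (nn r * w.2) := by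
  obtain ⟨k1, k2⟩ := comm_Q2_Z3 hv ha
  rw [k1, k2, e, e1, e2]
  constructor
  · rw [show s * nn r * (α * r.1 + β * w.1) = s * α * (nn r * r.1) + s * β * (nn r * w.1) by ring, Tr_add,
      Tr_smul (l := s * α) (by simp [hs, hα]), Tr_smul (l := s * β) (by simp [hs, hβ]), Tr_nn1, mul_zero, zero_add]
  · rw [show s * nn r * (α * r.2 + β * w.2) = s * α * (nn r * r.2) + s * β * (nn r * w.2) by ring, Tr_add,
      Tr_smul (l := s * α) (by simp [hs, hα]), Tr_smul (l := s * β) (by simp [hs, hβ]), Tr_nn2, mul_zero, zero_add]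

end XB3x

variable (K) in
open XB3x in
theorem xb3 : XB3 K := by
  intro E M B h ps hM r0 hr0
  by_contra n0
  have c := h.toCrit2.toCrit
  have cV : ∀ v ∈ cz E E, ∀ e ∈ E, ⁅e, v⁆ = 1 := fun v hv e he =>
    commutatorElement_eq_one_iff_mul_comm.2 ((mem_cz.1 hv).2 e he)
  have qV : ∀ v ∈ cz E E, v ∈ Q2 K := fun v hv => h.q2 hv.1
  have om : ∀ v ∈ cz E E, ∀ e ∈ E, omw (pW e) (pW v) = 0 := fun v hv e he =>
    (comm_Z2_iff (h.q2 he) (qV v hv)).1 (cV v hv e he ▸ one_mem _)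
  have zV : Z2 K ≤ cz E E := fun z hz => mem_cz.2 ⟨h.z2 hz, fun e he =>
    commutatorElement_eq_one_iff_mul_comm.1 (comm_Q2_Z2 (h.q2 he) hz)⟩
  have ex : ∀ i : {r : U K // r ∈ cz E E ∧ r ∉ Z3 K}, ∃ w ∈ cz E E, ¬ Mu (pW i.1) (pW w) := fun i => by
    obtain ⟨w, hw, n⟩ := SetLike.not_le_iff_exists.1 (hM i.1 i.2.1 i.2.2)
    exact ⟨w, hw, fun k => n ⟨qV w hw, k⟩⟩
  choose w wV wn using ex
  have nd : ∀ i : {r : U K // r ∈ cz E E ∧ r ∉ Z3 K}, ¬ Dep (pW i.1) := fun i =>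
    h.rank (fun e => i.2.2 ((pW_eq_zero (qV _ i.2.1)).1 e)) (om _ i.2.1)
  have ne : ∀ i, Tr (nn (pW i.1) * (pW (w i)).1) ≠ 0 ∨ Tr (nn (pW i.1) * (pW (w i)).2) ≠ 0 := fun i => by
    by_contra! k
    exact wn i (indep h.two (nd i) (om _ (wV i) _ i.2.1.1) k.1 k.2)
  have sp : ∀ i, ∀ v ∈ cz E E, ∃ α β, sg α = α ∧ sg β = β ∧ v.a = α * (pW i.1).1 + β * (pW (w i)).1 ∧
      v.c = α * (pW i.1).2 + β * (pW (w i)).2 := fun i v hv =>
    iso (x := pW v) h.two (nd i) (om _ (wV i) _ i.2.1.1) (wn i) (om _ hv _ i.2.1.1) (om _ hv _ (wV i).1)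
  obtain ⟨f, hf, nf⟩ := c.out
  have main := tv2 c (N := ⊥) (V := cz E E) (fun i : {r : U K // r ∈ cz E E ∧ r ∉ Z3 K} => Ld (nn (pW i.1)))
    (fun i => Ln (Tr (nn (pW i.1) * (pW (w i)).1)) (Tr (nn (pW i.1) * (pW (w i)).2))) (fun i => Mr (pW i.1)) ps c.inv_bot
    (c.inv_cz c.inv_top c.inv_top) cV
    (fun i => ⟨bot_le, fun z hz => zV hz.1, fun z hz => Z3_le_Mr _ (Z2_le_Z3 hz.1)⟩)
    (fun i a ha e _ => h.z2 (comm_mem_Z2 e ha.1)) ?_ ?_ ?_ ?_ ?_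
    (fun i j => (card_Ln (by simp) (by simp) (ne i)).trans (card_Ln (by simp) (by simp) (ne j)).symm) hf nf
  · let i : {r : U K // r ∈ cz E E ∧ r ∉ Z3 K} := ⟨r0, hr0, n0⟩
    let z : U K := ⟨0, 0, 0, 0, Tr (nn (pW i.1) * (pW (w i)).1), Tr (nn (pW i.1) * (pW (w i)).2), by simp, by simp, by simp⟩
    have hz : z ∈ Ln (Tr (nn (pW i.1) * (pW (w i)).1)) (Tr (nn (pW i.1) * (pW (w i)).2)) :=
      ⟨⟨rfl, rfl, rfl, rfl⟩, 1, sg_one, (one_mul _).symm, (one_mul _).symm⟩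
    have fV := (c.inv_cz c.inv_top c.inv_top).2 f hf z (zV hz.1)
    have : z = 1 := by
      by_cases k : f z ∈ Z3 K
      · exact (main i i).1 z hz (Z3_le_Mr _ k)
      · exact (main i ⟨f z, fV, k⟩).1 z hz ⟨qV _ fV, Mu_refl _⟩
    exact (ne i).elim (fun k => k (congrArg U.y this)) fun k => k (congrArg U.z this)
  · rintro i a ⟨ha, s, hs, e⟩ v hv
    obtain ⟨α, β, hα, hβ, e1, e2⟩ := sp i v hv
    exact ⟨comm_mem_Z2 v ha, s * β, by simp [hs, hβ], cm (qV v hv) ha hα hβ hs e1 e2 e⟩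
  · rintro i a ⟨ha, s, hs, e⟩ v hv ⟨-, t, ht, e1, e2⟩
    obtain ⟨k1, k2⟩ := cm (w := 0) (β := 0) (qV v hv) ha ht sg_zero hs (e1.trans (by simp)) (e2.trans (by simp)) e
    exact z2_ext (comm_mem_Z2 v ha) (one_mem _) (by simpa using k1) (by simpa using k2)
  · rintro i v hv n z ⟨hz, s, hs, e3, e4⟩
    obtain ⟨α, β, hα, hβ, e1, e2⟩ := sp i v hv
    have b0 : β ≠ 0 := by
      rintro rfl
      exact n ⟨qV v hv, α, hα, e1.trans (by simp), e2.trans (by simp)⟩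
    have ha : xd (s / β * nn (pW i.1)) ∈ Z3 K := ⟨rfl, rfl, rfl⟩
    obtain ⟨k1, k2⟩ := cm (s := s / β) (qV v hv) ha hα hβ (by simp [hs, hβ]) e1 e2 rfl
    rw [div_mul_cancel₀ _ b0] at k1 k2
    exact ⟨_, ⟨ha, s / β, by simp [hs, hβ], rfl⟩,
      inv_mul_eq_one.2 (z2_ext (comm_mem_Z2 v ha) hz (k1.trans e3.symm) (k2.trans e4.symm))⟩
  · rintro i a ⟨ha, s, hs, e⟩ n v hv k
    obtain ⟨α, β, hα, hβ, e1, e2⟩ := sp i v hv
    have s0 : s ≠ 0 := by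
      rintro rfl
      exact n (h.z2 ⟨ha.1, ha.2.1, ha.2.2, by simpa using e⟩)
    obtain ⟨k1, k2⟩ := cm (qV v hv) ha hα hβ hs e1 e2 e
    rw [Subgroup.mem_bot.1 k] at k1 k2
    have b0 : β = 0 := by
      by_contra b0
      exact (ne i).elim (fun k => mul_ne_zero (mul_ne_zero s0 b0) k k1.symm) fun k => mul_ne_zero (mul_ne_zero s0 b0) k k2.symm
    subst b0
    exact ⟨qV v hv, α, hα, e1.trans (by simp), e2.trans (by simp)⟩
  · intro i
    have ha : xd (nn (pW i.1)) ∈ Z3 K := ⟨rfl, rfl, rfl⟩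
    refine ⟨_, ⟨ha, 1, sg_one, (one_mul _).symm⟩, fun k => ?_⟩
    obtain ⟨k1, k2⟩ := comm_Q2_Z3 (qV _ (wV i)) ha
    rw [← commutatorElement_inv, cV _ (wV i) _ k, inv_one] at k1 k2
    exact (ne i).elim (fun k => k k1.symm) fun k => k k2.symm

end CL.TD
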