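/-
Project TD: the essential subgroups in characteristic two.
-/
import Cfsg.Agent.TD.DefsQ
import Cfsg.Agent.SYU.Ec

set_option autoImplicit false

namespace CL.TD

open Cfsg CL.SY

universe u

variable {K : Type u} [Field K] [TF K]

namespace ES2x

variable {K0 : Type} [Field K0] (θ : K0 ≃+* K)

/-- the automorphism on the small copy -/
def s0 : K0 ≃+* K0 := (θ.trans TF.s).trans θ.symm

theorem θs (x : K0) : θ (s0 θ x) = sg (θ x) := θ.apply_symm_apply _

/-- the fixed field -/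
def F0 : Subfield K0 := RingHom.eqLocusField (s0 θ : K0 →+* K0) (RingHom.id K0)

theorem fx (x : F0 θ) : sg (θ x) = θ x := (θs θ x).symm.trans (congrArg θ x.2)

theorem mem {x : K0} (h : sg (θ x) = θ x) : x ∈ F0 θ := θ.injective ((θs θ x).trans h)

/-- the cubic extension -/
def D0 : Fd (F0 θ) K0 where
  σ := AlgEquiv.ofRingEquiv (f := s0 θ) fun x => x.2
  T :=
    { toFun := fun x => ⟨θ.symm (Tr (θ x)), mem θ (by simp)⟩
      map_add' := fun x y => Subtype.ext (by simp [Tr_add])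
      map_smul' := fun c x => Subtype.ext (θ.injective (by
        simp only [Subfield.smul_def, smul_eq_mul, map_mul, RingEquiv.apply_symm_apply, RingHom.id_apply,
          Subfield.coe_mul, Tr_smul (fx θ c)])) }
  N := fun x => ⟨θ.symm (Nr (θ x)), mem θ (by simp)⟩
  s3 := fun x => θ.injective (by
    change θ (s0 θ (s0 θ (s0 θ x))) = _
    rw [θs, θs, θs, sg3])
  hT := fun x => θ.injective (by
    change θ (θ.symm _) = θ (x + s0 θ x + s0 θ (s0 θ x))
    simp only [RingEquiv.apply_symm_apply, map_add, θs, Tr])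
  hN := fun x => θ.injective (by
    change θ (θ.symm _) = θ (x * s0 θ x * s0 θ (s0 θ x))
    simp only [RingEquiv.apply_symm_apply, map_mul, θs, Nr])

theorem θσ (x : K0) : θ ((D0 θ).σ x) = sg (θ x) := θs θ x
theorem θT (x : K0) : θ ((D0 θ).T x) = Tr (θ x) := θ.apply_symm_apply _
theorem θN (x : K0) : θ ((D0 θ).N x) = Nr (θ x) := θ.apply_symm_apply _
theorem θadj (x : K0) : θ ((D0 θ).adj x) = sh (θ x) := by simp only [Fd.adj, map_mul, θσ, sh]
theorem θcr (x y : K0) : θ ((D0 θ).cr x y) = cr (θ x) (θ y) := by simp only [Fd.cr, map_add, map_mul, θσ, cr]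

theorem ok : (D0 θ).Ok := by
  have fin : Finite K0 := Finite.of_equiv K θ.symm.toEquiv
  refine ⟨fin, fun x h => ⟨⟨x, h⟩, rfl⟩, .inr ?_⟩
  have c : Nat.card (F0 θ) = TF.q K := (Nat.card_congr (α := F0 θ) (β := {x : K // sg x = x}) ⟨fun x => ⟨θ x, fx θ x⟩,
    fun x => ⟨θ.symm x, mem θ (by rw [θ.apply_symm_apply]; exact x.2)⟩, fun x => Subtype.ext (θ.symm_apply_apply _),
    fun x => Subtype.ext (θ.apply_symm_apply _)⟩).trans (card_fix K)
  have e := Module.natCard_eq_pow_finrank (K := F0 θ) (V := K0)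
  rw [Nat.card_congr θ.toEquiv, card_K, c] at e
  exact (Nat.pow_right_injective two_le_q e).symm

/-- the coordinates -/
def ψ (p : Pt (D0 θ)) : U K := ⟨θ p.v, θ p.t, θ p.d, θ p.b, θ p.a, θ p.c, fx θ _, fx θ _, fx θ _⟩

theorem ψ_mul [CharP K 2] (p q : Pt (D0 θ)) : ψ θ (p * q) = ψ θ q * ψ θ p := by
  ext <;> simp only [ψ, mul_a, mul_b, mul_c, mul_d, mul_y, mul_z, Pt.mul_v, Pt.mul_a, Pt.mul_b, Pt.mul_c, Pt.mul_d,
    Pt.mul_t, Subfield.smul_def, smul_eq_mul, Subfield.coe_add, Subfield.coe_mul, SubmonoidClass.coe_pow, map_add θ, map_mul,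
    map_pow, θT, θN, θadj, θcr, CharTwo.sub_eq_add, cr_comm (θ q.v), mul_comm (θ q.v)] <;> ring

theorem ψ_bij : Function.Bijective (ψ θ) := by
  refine ⟨fun p q e => ?_, fun g => ⟨⟨θ.symm g.a, ⟨θ.symm g.y, mem θ (by simp)⟩, θ.symm g.d, ⟨θ.symm g.z, mem θ (by simp)⟩,
    θ.symm g.c, ⟨θ.symm g.b, mem θ (by simp)⟩⟩, by ext <;> simp [ψ]⟩⟩
  obtain ⟨e1, e2, e3, e4, e5, e6⟩ := U.ext_iff.1 e
  exact Pt.ext (θ.injective e1) (Subtype.ext (θ.injective e5)) (θ.injective e4) (Subtype.ext (θ.injective e6))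
    (θ.injective e3) (Subtype.ext (θ.injective e2))

end ES2x

open ES2x in
theorem esf2 [CharP K 2] (F : FusionSystem (⊤ : Subgroup (U K))) (hF : F.IsSaturated 2) (E : Subgroup (U K))
    (hE : F.IsEssential 2 E) : E = Q1 K ∨ E = Q2 K := by
  have := Fact.mk Nat.prime_two
  let θ : Shrink.{0} K ≃+* K := Shrink.ringEquiv.{0} K
  have : CharP (Shrink.{0} K) 2 := (θ : Shrink.{0} K →+* K).charP θ.injective 2
  let j : Pt (D0 θ) →* U K := MonoidHom.mk' (fun p => (ψ θ p)⁻¹) fun p q => by rw [ψ_mul, mul_inv_rev]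
  have hj : Function.Bijective j := inv_involutive.bijective.comp (ψ_bij θ)
  refine (CL.SYU.ecF (pg 2) (ok θ) j hj hF hE).imp (fun h => h.trans ?_) fun h => h.trans ?_ <;> ext g <;>
    obtain ⟨p, rfl⟩ := hj.2 g <;> rw [Subgroup.mem_map_iff_mem hj.1]
  · change p.v = 0 ↔ -θ p.v = 0
    simp
  · change p.t = 0 ↔ -θ p.t = 0
    simp

end CL.TD
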