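/-
Project TD (S5261): polynomial functions of small degree (job TD1-PIL+RF, helper27).
-/
import Cfsg.Agent.TD.Defs1

set_option autoImplicit false

namespace CL.TD

open Polynomial

universe u

variable (K : Type u) [Field K] [TF K]

namespace RFx

theorem dig {q i i' m m' : ℕ} (hi : i < q) (hi' : i' < q) (h : i + q * m = i' + q * m') : i = i' ∧ m = m' := by
  have h1 := congrArg (· % q) h
  simp only [Nat.add_mul_mod_self_left, Nat.mod_eq_of_lt hi, Nat.mod_eq_of_lt hi'] at h1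
  subst h1
  exact ⟨rfl, Nat.eq_of_mul_eq_mul_left (by omega) (Nat.add_left_cancel h)⟩

end RFx

theorem pil : PIL K := by
  intro hq c h
  classical
  haveI := Fintype.ofFinite K
  set q := TF.q K with hq'
  let e : Fin 3 × Fin 3 × Fin 3 → ℕ := fun x => x.1 + q * (x.2.1 + q * x.2.2)
  have inj : Function.Injective e := fun x y hxy => by
    obtain ⟨h1, h2⟩ := RFx.dig (x.1.2.trans_le hq) (y.1.2.trans_le hq) hxy
    obtain ⟨h3, h4⟩ := RFx.dig (x.2.1.2.trans_le hq) (y.2.1.2.trans_le hq) h2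
    exact Prod.ext (Fin.ext h1) (Prod.ext (Fin.ext h3) (Fin.ext h4))
  have hP : (∑ x : Fin 3 × Fin 3 × Fin 3, monomial (e x) (c x.1 x.2.1 x.2.2)) = 0 := by
    refine eq_zero_of_natDegree_lt_card_of_eval_eq_zero _ (f := id) Function.injective_id (fun a => ?_) ?_
    · rw [← h a]
      simp only [eval_finset_sum, eval_monomial, Fintype.sum_prod_type, e, id, sg_eq_pow, ← hq', pow_add, pow_mul,
        mul_assoc]
    · refine lt_of_le_of_lt (natDegree_sum_le_of_forall_le _ _ (n := 2 + q * (2 + q * 2)) fun x _ =>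
        (natDegree_monomial_le _).trans ?_) ?_
      · have := x.1.2
        have := x.2.1.2
        have := x.2.2.2
        exact add_le_add (by omega) (Nat.mul_le_mul_left _ (add_le_add (by omega) (Nat.mul_le_mul_left _ (by omega))))
      · rw [← Nat.card_eq_fintype_card, card_K, ← hq']
        nlinarith [Nat.mul_le_mul hq (Nat.mul_le_mul hq le_rfl (m₂ := q)), Nat.mul_le_mul hq (le_refl q),
          Nat.mul_le_mul hq (le_refl (q * q))]
  intro i j k
  have := congrArg (fun P => coeff P (e (i, j, k))) hP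
  simpa [finset_sum_coeff, coeff_monomial, inj.eq_iff] using this

theorem rf (pil : PIL K) : RF K := by
  intro hq s B r0 r1 r2 u0 u1 u2 t0 t1 t2 w0 w1 w2 hs h hn
  have key := pil hq ![![![0, 0, s * (sg r1 * sg (sg r0)) - (2 * sg (sg B) * t2)],
       ![0, s * (sg r0 * sg (sg r0) + sg r1 * sg (sg r2)) - (2 * sg B * t2 + 2 * sg (sg B) * t1), s * (sg r1 * sg (sg u1) + sg u2 * sg (sg r0)) - (2 * sg (sg B) * w0)],
       ![s * (sg r0 * sg (sg r2)) - (2 * sg B * t1), s * (sg r0 * sg (sg u1) + sg u2 * sg (sg r2)) - (2 * sg B * w0), s * (sg u2 * sg (sg u1))]],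
     ![![0, s * (sg r1 * sg (sg r1) + sg r2 * sg (sg r0)) - (2 * B * t2 + 2 * sg (sg B) * t0), s * (sg r1 * sg (sg u2) + sg u0 * sg (sg r0)) - (2 * sg (sg B) * w1)],
       ![s * (sg r0 * sg (sg r1) + sg r2 * sg (sg r2)) - (2 * B * t1 + 2 * sg B * t0), s * (sg r0 * sg (sg u2) + sg r1 * sg (sg u0) + sg r2 * sg (sg u1) + sg u0 * sg (sg r2) + sg u1 * sg (sg r0) + sg u2 * sg (sg r1)) - (2 * B * w0 + 2 * sg B * w1 + 2 * sg (sg B) * w2), s * (sg u0 * sg (sg u1) + sg u2 * sg (sg u2)) - (t2)],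
       ![s * (sg r0 * sg (sg u0) + sg u1 * sg (sg r2)) - (2 * sg B * w2), s * (sg u1 * sg (sg u1) + sg u2 * sg (sg u0)) - (t1), -(w0)]],
     ![![s * (sg r2 * sg (sg r1)) - (2 * B * t0), s * (sg r2 * sg (sg u2) + sg u0 * sg (sg r1)) - (2 * B * w1), s * (sg u0 * sg (sg u2))],
       ![s * (sg r2 * sg (sg u0) + sg u1 * sg (sg r1)) - (2 * B * w2), s * (sg u0 * sg (sg u0) + sg u1 * sg (sg u2)) - (t0), -(w1)],
       ![s * (sg u1 * sg (sg u0)), -(w2), 0]]] fun a => by
    have := h a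
    simp only [sh, Tr, Nr, sg_add, sg_mul, sg3] at this
    simp only [Fin.sum_univ_three, Matrix.cons_val, Fin.val_zero, Fin.val_one, Fin.val_two]
    linear_combination this
  have e0 : w0 = 0 := neg_eq_zero.1 (key 1 2 2)
  have e1 : w1 = 0 := neg_eq_zero.1 (key 2 1 2)
  have e2 : w2 = 0 := neg_eq_zero.1 (key 2 2 1)
  subst e0 e1 e2
  have a1 := key 0 2 2
  have a2 := key 2 0 2
  have a3 := key 2 2 0
  have b0 := key 2 1 1
  have b1 := key 1 2 1
  have b2 := key 1 1 2
  have c1 := key 0 1 2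
  have c2 := key 0 2 1
  have c3 := key 1 0 2
  have c4 := key 1 2 0
  have c5 := key 2 0 1
  have c6 := key 2 1 0
  have d0 := key 2 0 0
  have d1 := key 0 2 0
  have d2 := key 0 0 2
  simp only [Matrix.cons_val, sub_eq_zero] at a1 a2 a3 b0 b1 b2 c1 c2 c3 c4 c5 c6 d0 d1 d2
  clear key h
  have two : ∀ x : K, 2 * sg x = 0 → 2 * x = 0 := fun x hx => sg_eq_zero.1 (by rw [sg_mul, sg_two, hx])
  by_cases h0 : u0 = 0
  · by_cases h1 : u1 = 0
    · by_cases h2 : u2 = 0
      · exact absurd ⟨by simpa [h0, h1, h2] using b0.symm, by simpa [h0, h1, h2] using b1.symm,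
          by simpa [h0, h1, h2] using b2.symm, rfl, rfl, rfl⟩ hn
      · have f0 : r0 = 0 := by simpa [h0, h1, h2, hs] using c1
        have f1 : r1 = 0 := by simpa [h0, h1, h2, hs] using c3
        have f2 : r2 = 0 := by simpa [h0, h1, h2, hs] using c2
        have g : t2 ≠ 0 := by rw [← b2]; simp [h0, h1, h2, hs]
        rw [f0, f1, sg_zero, zero_mul, mul_zero] at d2
        exact ⟨two _ (two _ ((mul_eq_zero.1 d2.symm).resolve_right g)), f0, f1, f2, .inr (.inr ⟨h0, h1, h2⟩)⟩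
    · have h2 : u2 = 0 := by simpa [h1, hs] using a1
      have f0 : r0 = 0 := by simpa [h0, h1, h2, hs] using c2
      have f1 : r1 = 0 := by simpa [h0, h1, h2, hs] using c1
      have f2 : r2 = 0 := by simpa [h0, h1, h2, hs] using c4
      have g : t1 ≠ 0 := by rw [← b1]; simp [h0, h1, h2, hs]
      rw [f0, sg_zero, zero_mul, mul_zero] at d1
      exact ⟨two _ ((mul_eq_zero.1 d1.symm).resolve_right g), f0, f1, f2, .inr (.inl ⟨h0, h1, h2⟩)⟩
  · have h1 : u1 = 0 := by simpa [h0, hs] using a3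
    have h2 : u2 = 0 := by simpa [h0, hs] using a2
    have f0 : r0 = 0 := by simpa [h0, h1, h2, hs] using c3
    have f1 : r1 = 0 := by simpa [h0, h1, h2, hs] using c5
    have f2 : r2 = 0 := by simpa [h0, h1, h2, hs] using c6
    have g : t0 ≠ 0 := by rw [← b0]; simp [h0, h1, h2, hs]
    rw [f2, sg_zero, zero_mul, mul_zero] at d0
    exact ⟨(mul_eq_zero.1 d0.symm).resolve_right g, f0, f1, f2, .inl ⟨h0, h1, h2⟩⟩

end CL.TD
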